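import Cfsg.Agent.Lib.Helper53.JCDefs
import Cfsg.Agent.Lib.Helper53.PRed2
import Cfsg.Agent.Lib.Helper30.Coprime

set_option autoImplicit false

/-! Rung R1 of the ladder "K-S ch. 12, J(T)-components": the statement `Core1`. -/

namespace Cfsg.Agent.Lib.Helper69.JC

open Cfsg Subgroup Cfsg.Agent.Lib.Helper53 Cfsg.Agent.Lib.Helper53.JC

variable {G : Type*} [Group G]

theorem omegaOne_mono {p : ℕ} {A B : Subgroup G} (h : A ≤ B) : omegaOne p A ≤ omegaOne p B :=
  closure_mono (fun _ hx => ⟨h hx.1, hx.2⟩)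

theorem normalizer_le_normalizer_omegaCenterOf (X : Subgroup G) :
    normalizer (X : Set G) ≤ normalizer (omegaCenterOf X : Set G) := by
  unfold omegaCenterOf
  refine le_trans ?_ (normalizer_le_normalizer_omegaOne 2 _)
  exact le_normalizer_inf le_rfl (normalizer_le_normalizer_centralizer X)

theorem isSyl_of_isSylowTwoIn [Finite G] {T L : Subgroup G} (h : IsSylowTwoIn T L) :
    IsSyl 2 T L := by
  have : Fact (Nat.Prime 2) := ⟨Nat.prime_two⟩
  rw [isSyl_iff_relIndex]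
  exact ⟨h.1, h.2.1, fun hd => (Nat.not_even_iff_odd.mpr h.2.2) (even_iff_two_dvd.mpr hd)⟩

theorem core1 [Finite G] (h : ZN G) : Core1 G := by
  intro T L hT hLT
  have : Fact (Nat.Prime 2) := ⟨Nat.prime_two⟩
  obtain ⟨hsyl, hJ, hchar⟩ := hLT
  have hTsyl : IsSyl 2 T L := isSyl_of_isSylowTwoIn hsyl
  obtain ⟨Q, hQ⟩ : ∃ Q, Q = pCoreOf 2 L := ⟨_, rfl⟩
  have hQL : Q ≤ L := hQ ▸ pCoreOf_le 2 L
  have hQT : Q ≤ T := hQ ▸ pCoreOf_le_isSyl hTsyl
  have hQp : IsPGroup 2 Q := hQ ▸ pCoreOf_isPGroup 2 L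
  have hLQ : L ≤ normalizer (Q : Set G) := hQ ▸ le_normalizer_pCoreOf 2 L
  rw [← hQ] at hJ hchar
  have hQne : Q ≠ ⊥ := by
    intro hbot
    apply hJ
    have h1 : (⊤ : Subgroup G) ≤ Q := by
      refine le_trans ?_ hchar
      rw [hbot]
      intro x _
      rw [mem_centralizer_iff]
      intro y hy
      rw [SetLike.mem_coe, mem_bot] at hy
      rw [hy, one_mul, mul_one]
    exact le_top.trans h1
  have hsol : Group.IsSolvable L := by
    have h1 := h.hN (normalizer (Q : Set G)) ⟨Q, hQp, hQne, rfl⟩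
    exact Group.isSolvable_of_isSolvable_injective (inclusion_injective hLQ)
  obtain ⟨V, hV⟩ : ∃ V, V = omegaCenterOf Q := ⟨_, rfl⟩
  obtain ⟨C, hC⟩ : ∃ C, C = L ⊓ centralizer (V : Set G) := ⟨_, rfl⟩
  have hZT : T ⊓ centralizer (T : Set G) ≤ Q ⊓ centralizer (Q : Set G) := by
    intro z hz
    have h1 : z ∈ centralizer (Q : Set G) := centralizer_le hQT hz.2
    exact ⟨hchar h1, h1⟩
  have h2 : omegaCenterOf T ≤ V := hV ▸ omegaOne_mono hZT
  obtain ⟨S, hS, hTS⟩ := exists_isSyl_ge (le_top : T ≤ ⊤) hT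
  have hZS : S ⊓ centralizer (S : Set G) ≤ T ⊓ centralizer (T : Set G) := by
    intro z hz
    have h1 : z ∈ centralizer (T : Set G) := centralizer_le hTS hz.2
    have h3 : z ∈ centralizer (Q : Set G) := centralizer_le hQT h1
    exact ⟨hQT (hchar h3), h1⟩
  have hSL : S ⊓ L = T :=
    hTsyl.eq_of_le inf_le_right (hS.isPGroup.to_le inf_le_left) (le_inf hTS hsyl.1)
  have h3 : L ⊓ centralizer (omegaCenterOf T : Set G) ≤ normalizer (T : Set G) := by
    intro x hx
    have h4 : x ∈ centralizer (omegaCenterOf S : Set G) :=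
      centralizer_le (omegaOne_mono hZS) hx.2
    have h5 : x ∈ normalizer (S : Set G) := h.hZ hS.toSylowTop h4
    rw [← hSL]
    exact inf_normalizer_le_normalizer_inf ⟨h5, le_normalizer hx.1⟩
  have hLV : L ≤ normalizer (V : Set G) :=
    hV ▸ hLQ.trans (normalizer_le_normalizer_omegaCenterOf Q)
  have hLC : L ≤ normalizer (C : Set G) :=
    hC ▸ le_normalizer_inf le_normalizer (hLV.trans (normalizer_le_normalizer_centralizer V))
  have hCL : C ≤ L := hC ▸ inf_le_left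
  have hCT : C ≤ normalizer (T : Set G) :=
    hC ▸ (inf_le_inf_left L (centralizer_le h2)).trans h3
  have hQC : Q ≤ C := by
    rw [hC]
    refine le_inf hQL ?_
    rw [le_centralizer_iff, hV]
    exact (omegaOne_le 2 _).trans inf_le_right
  have hTCsyl : IsSyl 2 (T ⊓ C) C := hTsyl.inf_normal hCL hLC
  have hCTC : C ≤ normalizer ((T ⊓ C : Subgroup G) : Set G) := le_normalizer_inf hCT le_normalizer
  have h4 : T ⊓ C = Q := by
    refine le_antisymm ?_ (le_inf hQT hQC)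
    rw [hQ]
    exact le_pCoreOf_of_isPClosed_normal hCL hLC hTCsyl.le hTCsyl.isPGroup
      (isPClosed_of_isSyl hTCsyl hCTC)
  have h5 : ⁅C, T⁆ ≤ Q := by
    rw [← h4]
    apply le_inf
    · rw [commutator_comm]
      exact Cfsg.Agent.Lib.Helper30.commutator_le_of_le_normalizer hCT
    · exact Cfsg.Agent.Lib.Helper30.commutator_le_of_le_normalizer (hsyl.1.trans hLC)
  have h6 : ∀ D : Subgroup G, D ≤ L → L ≤ normalizer (D : Set G) → C ≤ D →
      (∃ k : ℕ, C.relIndex D = 2 ^ k) → D = C := by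
    intro D hDL hLD hCD ⟨k, hk⟩
    have hTDsyl : IsSyl 2 (T ⊓ D) D := hTsyl.inf_normal hDL hLD
    have hDC : D ≤ normalizer (C : Set G) := hDL.trans hLC
    have hpow : ∀ x ∈ D, ∃ n : ℕ, x ^ (2 ^ n) ∈ C := by
      intro x hx
      refine ⟨k, ?_⟩
      have : (C.subgroupOf D).Normal := (normal_subgroupOf_iff_le_normalizer hCD).mpr hDC
      have h6 := (C.subgroupOf D).pow_index_mem (⟨x, hx⟩ : D)
      rw [← relIndex, hk] at h6
      exact h6
    have hsup : C ⊔ (T ⊓ D) = D := sup_isSyl_eq hCD hDC hpow hTDsyl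
    have hCTD : C ≤ normalizer ((T ⊓ D : Subgroup G) : Set G) :=
      le_normalizer_inf hCT (hCL.trans hLD)
    have hDTD : D ≤ normalizer ((T ⊓ D : Subgroup G) : Set G) := by
      calc D = C ⊔ (T ⊓ D) := hsup.symm
        _ ≤ _ := sup_le hCTD le_normalizer
    have h7 : T ⊓ D ≤ Q := by
      rw [hQ]
      exact le_pCoreOf_of_isPClosed_normal hDL hLD hTDsyl.le hTDsyl.isPGroup
        (isPClosed_of_isSyl hTDsyl hDTD)
    refine le_antisymm ?_ hCD
    calc D = C ⊔ (T ⊓ D) := hsup.symm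
      _ ≤ C := sup_le le_rfl (h7.trans hQC)
  subst hC hV hQ
  exact ⟨hsol, h2, h3, h4, h5, h6⟩

end Cfsg.Agent.Lib.Helper69.JC
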