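import Cfsg.Agent.Lib.Helper69.JCMk

set_option autoImplicit false
set_option linter.unusedVariables false

/-! J(T)-component ladder, rung R4: `St5` (generation) and `St6` (existence) from `Core1`, `FFa`. -/

namespace Cfsg.Agent.Lib.Helper69.JC

open Cfsg Subgroup
open scoped commutatorElement
open Cfsg.Agent.Lib.Helper15.ZJ (AE PE)
open Cfsg.Agent.Lib.Helper53.JC

variable {G : Type*} [Group G]

theorem exists_relIndex_eq_two_pow [Finite G] {C D : Subgroup G} (hCD : C ≤ D)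
    (hn : D ≤ normalizer (C : Set G)) (h : ∀ x ∈ D, x ^ 2 ∈ C) : ∃ k : ℕ, C.relIndex D = 2 ^ k := by
  have : (C.subgroupOf D).Normal := (normal_subgroupOf_iff_le_normalizer hCD).2 hn
  have hp : IsPGroup 2 (D ⧸ C.subgroupOf D) := by
    intro q
    obtain ⟨x, rfl⟩ := QuotientGroup.mk_surjective q
    refine ⟨1, ?_⟩
    rw [pow_one, ← QuotientGroup.mk_pow, QuotientGroup.eq_one_iff, mem_subgroupOf]
    exact h x x.2
  obtain ⟨k, hk⟩ := IsPGroup.iff_card.mp hp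
  exact ⟨k, by rw [← hk]; rfl⟩

/-- an "involution" central modulo `C` in a normal subgroup `X` lies in `C` if `O₂(L/C) = 1`. -/
theorem mem_of_central_involution_mod [Finite G] {L X C : Subgroup G} (hXL : X ≤ L) (hCX : C ≤ X)
    (hLX : L ≤ normalizer (X : Set G)) (hLC : L ≤ normalizer (C : Set G))
    (hO2 : ∀ D : Subgroup G, D ≤ L → L ≤ normalizer (D : Set G) → C ≤ D →
      (∃ k : ℕ, C.relIndex D = 2 ^ k) → D = C)
    {a : G} (haX : a ∈ X) (ha2 : a ^ 2 ∈ C) (hcomm : ∀ z ∈ X, ⁅z, a⁆ ∈ C) : a ∈ C := by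
  have cjC : ∀ {l c : G}, l ∈ L → c ∈ C → l * c * l⁻¹ ∈ C :=
    fun hl hc => (mem_normalizer_iff.1 (hLC hl) _).1 hc
  have cjX : ∀ {l c : G}, l ∈ L → c ∈ X → l * c * l⁻¹ ∈ X :=
    fun hl hc => (mem_normalizer_iff.1 (hLX hl) _).1 hc
  let D : Subgroup G :=
    { carrier := {x | x ∈ X ∧ (∀ z ∈ X, ⁅z, x⁆ ∈ C) ∧ x ^ 2 ∈ C}
      one_mem' := ⟨one_mem _, fun z _ => by rw [commutatorElement_one_right]; exact one_mem _,
        by rw [one_pow]; exact one_mem _⟩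
      mul_mem' := by
        rintro x x' ⟨hx, hxc, hx2⟩ ⟨hx', hxc', hx2'⟩
        refine ⟨mul_mem hx hx', fun z hz => ?_, ?_⟩
        · have h1 : ⁅z, x * x'⁆ = ⁅z, x⁆ * (x * ⁅z, x'⁆ * x⁻¹) := by
            simp only [commutatorElement_def]; group
          rw [h1]
          exact C.mul_mem (hxc z hz) (cjC (hXL hx) (hxc' z hz))
        · have h1 : (x * x') ^ 2 = (x * ⁅x', x⁆ * x⁻¹) * x ^ 2 * x' ^ 2 := by
            simp only [commutatorElement_def, pow_two]; group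
          rw [h1]
          exact C.mul_mem (C.mul_mem (cjC (hXL hx) (hxc x' hx')) hx2) hx2'
      inv_mem' := by
        rintro x ⟨hx, hxc, hx2⟩
        refine ⟨inv_mem hx, fun z hz => ?_, ?_⟩
        · have h1 : ⁅z, x⁻¹⁆ = x⁻¹ * (⁅z, x⁆)⁻¹ * (x⁻¹)⁻¹ := by
            simp only [commutatorElement_def]; group
          rw [h1]
          exact cjC (hXL (inv_mem hx)) (C.inv_mem (hxc z hz))
        · rw [inv_pow]; exact C.inv_mem hx2 }
  have hDmem : ∀ x, x ∈ D ↔ x ∈ X ∧ (∀ z ∈ X, ⁅z, x⁆ ∈ C) ∧ x ^ 2 ∈ C := fun x => Iff.rfl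
  have hDL : D ≤ L := fun x hx => hXL ((hDmem x).1 hx).1
  have hCD : C ≤ D := by
    intro c hc
    refine (hDmem c).2 ⟨hCX hc, fun z hz => ?_, pow_mem hc 2⟩
    rw [commutatorElement_def]
    exact C.mul_mem (cjC (hXL hz) hc) (C.inv_mem hc)
  have hLD : L ≤ normalizer (D : Set G) := by
    intro l hl
    rw [← Helper53.cj_eq_self_iff]
    apply Helper53.cj_eq_of_le
    rintro _ ⟨x, hx, rfl⟩
    obtain ⟨hx1, hx2, hx3⟩ := (hDmem x).1 hx
    change l * x * l⁻¹ ∈ D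
    refine (hDmem _).2 ⟨cjX hl hx1, fun z hz => ?_, ?_⟩
    · have h1 : ⁅z, l * x * l⁻¹⁆ = l * ⁅l⁻¹ * z * (l⁻¹)⁻¹, x⁆ * l⁻¹ := by
        simp only [commutatorElement_def]; group
      rw [h1]
      exact cjC hl (hx2 _ (cjX (inv_mem hl) hz))
    · rw [conj_pow]
      exact cjC hl hx3
  have hD := hO2 D hDL hLD hCD
    (exists_relIndex_eq_two_pow hCD (hDL.trans hLC) fun x hx => ((hDmem x).1 hx).2.2)
  rw [← hD]
  exact (hDmem a).2 ⟨haX, hcomm, ha2⟩

/-- Key lemma: a pure element of a member of `𝒜(T)` outside `C` produces a `J(T)`-component. -/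
theorem exists_jc [Finite G] (hc : Core1 G) {T L A : Subgroup G} (hT : IsPGroup 2 T)
    (hL : L ∈ jOvergroups T) (hA : A ∈ AE 2 T) {a : G} (ha : a ∈ A) (hp : Helper53.JC.Pure L a)
    (haC : a ∉ CCL L) :
    ∃ K, IsJComponent T K ∧ K ≤ L ∧ ⁅HHL L, zpowers a⁆ ≤ K ⊔ CCL L := by
  obtain ⟨hsolv, hZV, hCZ, hTC, hCT, hO2⟩ := hc T L hT hL
  have hsyl : Helper53.IsSyl 2 T L := jOver_isSyl hL
  have hCH0 : ⁅CCL L, HHL L⁆ ≤ QQ L := comm_CCL_HHL hL hCT
  have hyVC : ∀ y ∈ L, y ∉ CCL L → y ∉ centralizer (VVL L : Set G) :=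
    fun y hy h1 h2 => h1 (mem_inf.2 ⟨hy, h2⟩)
  have hHN0 : HHL L ≤ normalizer (NN L a : Set G) := HHL_le_normalizer_NN L a
  unfold Helper53.JC.Pure at hp
  obtain ⟨H, hH⟩ : ∃ H, H = HHL L := ⟨_, rfl⟩
  obtain ⟨C, hC⟩ : ∃ C, C = CCL L := ⟨_, rfl⟩
  obtain ⟨J, hJ⟩ : ∃ J, J = JJ T := ⟨_, rfl⟩
  have hJH : J ≤ H := by rw [hJ, hH]; exact JJ_le_HHL hsyl
  have hJT : J ≤ T := hJ ▸ JJ_le T
  have hAJ : A ≤ J := hJ ▸ le_JJ hA
  have hHL : H ≤ L := hH ▸ HHL_le L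
  have hLC : L ≤ normalizer (C : Set G) := hC ▸ L_le_normalizer_CCL L
  have hLH : L ≤ normalizer (H : Set G) := hH ▸ le_normalizer_HHL L
  have hLQ : L ≤ normalizer (QQ L : Set G) := Helper53.le_normalizer_pCoreOf 2 L
  have hQC : QQ L ≤ C := hC ▸ QQ_le_CCL L
  have hCL : C ≤ L := hC ▸ inf_le_left
  have hQp : IsPGroup 2 (QQ L) := Helper53.pCoreOf_isPGroup 2 L
  rw [← hC] at hTC hO2 haC hyVC
  rw [← hH, ← hC] at hCH0 hp ⊢
  obtain ⟨N, hN⟩ : ∃ N, N = ⁅H, zpowers a⁆ ⊔ C := ⟨_, rfl⟩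
  have hHN : H ≤ normalizer (N : Set G) := by
    rw [hN, hH, hC]; exact hHN0
  rw [← hN] at hp
  have haH : a ∈ H := hJH (hAJ ha)
  have haT : a ∈ T := hA.1 ha
  have ha2 : a ^ 2 = 1 := hA.2.1.2 a ha
  have hainv : a⁻¹ = a := by
    rw [pow_two] at ha2
    exact inv_eq_of_mul_eq_one_left ha2
  have hzaH : zpowers a ≤ H := zpowers_le.2 haH
  have hHaH : ⁅H, zpowers a⁆ ≤ H := Helper30.commutator_le_of_le_normalizer (hzaH.trans le_normalizer)
  have hCN : C ≤ N := hN ▸ le_sup_right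
  have hHaN : ⁅H, zpowers a⁆ ≤ N := hN ▸ le_sup_left
  have hNL : N ≤ L := hN ▸ sup_le (hHaH.trans hHL) hCL
  have hNC : N ≤ normalizer (C : Set G) := hNL.trans hLC
  -- the index is three
  have hidx : C.relIndex N = 3 := by
    rcases hp with h | h
    · exfalso
      have h1 : N ≤ C := relIndex_eq_one.1 h
      apply haC
      apply mem_of_central_involution_mod (L := L) (X := H ⊔ C) (sup_le hHL hCL) le_sup_right
        (Helper53.le_normalizer_sup hLH hLC) hLC hO2 (mem_sup_left haH)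
        (by rw [ha2]; exact one_mem _)
      have h2 : ⁅H ⊔ C, zpowers a⁆ ≤ C :=
        sup_commutator_le (hHL.trans hLC) le_normalizer (hHaN.trans h1)
          (Helper30.commutator_le_of_le_normalizer ((hzaH.trans hHL).trans hLC))
      intro z hz
      exact h2 (commutator_mem_commutator hz (mem_zpowers a))
    · exact h
  have hcube : ∀ g ∈ N, g ^ 3 ∈ C := by
    intro g hg
    have := pow_relIndex_mem hCN hNC hg
    rwa [hidx] at this
  -- an element of `[H, a]` outside `C`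
  obtain ⟨h, hh, hx⟩ : ∃ h ∈ H, ⁅h, a⁆ ∉ C := by
    by_contra hcon
    push Not at hcon
    have h1 : ⁅H, zpowers a⁆ ≤ C := by
      rw [zpowers_eq_closure]
      apply commutator_closure_le
      · rintro b rfl
        exact hLC (hHL haH)
      · rintro b rfl x hx
        exact hcon x hx
    have h2 : N ≤ C := hN ▸ sup_le h1 le_rfl
    rw [relIndex_eq_one.2 h2] at hidx
    omega
  obtain ⟨x, hxdef⟩ : ∃ x, x = ⁅h, a⁆ := ⟨_, rfl⟩
  rw [← hxdef] at hx
  have hxH : x ∈ H := hxdef ▸ hHaH (commutator_mem_commutator hh (mem_zpowers a))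
  have hxN : x ∈ N := hxdef ▸ hHaN (commutator_mem_commutator hh (mem_zpowers a))
  have hax : a * x * a⁻¹ = x⁻¹ := by
    rw [hxdef, commutatorElement_def, hainv]
    have e : (h * a * h⁻¹ * a)⁻¹ = a⁻¹ * h * a⁻¹ * h⁻¹ := by group
    rw [e, hainv]
    calc a * (h * a * h⁻¹ * a) * a = a * h * a * h⁻¹ * (a ^ 2) := by rw [pow_two]; group
      _ = a * h * a * h⁻¹ := by rw [ha2, mul_one]
  have haxn : ∀ n : ℕ, a * x ^ n * a⁻¹ = (x ^ n)⁻¹ := by
    intro n
    rw [← conj_pow, hax, inv_pow]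
  have hx6 : x ^ 6 ∈ QQ L := by
    have h1 : ⁅x ^ 3, a⁆ ∈ QQ L := hCH0 (commutator_mem_commutator (hcube x hxN) haH)
    have h2 : ⁅x ^ 3, a⁆ = x ^ 6 := by
      rw [commutatorElement_def]
      calc x ^ 3 * a * (x ^ 3)⁻¹ * a⁻¹ = x ^ 3 * (a * x ^ 3 * a⁻¹)⁻¹ := by group
        _ = x ^ 3 * x ^ 3 := by rw [haxn, inv_inv]
        _ = x ^ 6 := by rw [← pow_add]
    rwa [h2] at h1
  obtain ⟨m, hm⟩ := hQp ⟨x ^ 6, hx6⟩
  have hm' : (x ^ 6) ^ (2 ^ m) = 1 := by simpa using congrArg Subtype.val hm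
  obtain ⟨y, hy⟩ : ∃ y, y = x ^ (2 ^ (m + 1)) := ⟨_, rfl⟩
  have hy3' : y ^ 3 = 1 := by
    rw [hy, ← pow_mul, ← hm', ← pow_mul]
    congr 1
    rw [pow_succ]; ring
  have hyC : y ∉ C := by
    intro hyC
    apply hx
    rw [hy] at hyC
    exact mem_of_pow_mem_coprime (Nat.Coprime.pow_left (m + 1) (by norm_num : Nat.Coprime 2 3)) hyC
      (hcube x hxN)
  have hy1 : y ≠ 1 := fun h => hyC (h ▸ one_mem C)
  have : Fact (Nat.Prime 3) := ⟨Nat.prime_three⟩
  have hy3 : orderOf y = 3 := orderOf_eq_prime hy3' hy1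
  have hay : a * y * a⁻¹ = y⁻¹ := by rw [hy]; exact haxn _
  have hyH : y ∈ H := hy ▸ pow_mem hxH _
  have hyN : y ∈ N := hy ▸ pow_mem hxN _
  have hyL : y ∈ L := hHL hyH
  obtain ⟨Y, hY⟩ : ∃ Y, Y = zpowers y := ⟨_, rfl⟩
  obtain ⟨Q, hQ⟩ : ∃ Q, Q = QQ L := ⟨_, rfl⟩
  rw [← hQ] at hTC hCH0 hLQ hQC hQp
  have hyY : y ∈ Y := hY ▸ mem_zpowers y
  have hYH : Y ≤ H := by rw [hY, zpowers_le]; exact hyH
  have hYN : Y ≤ N := by rw [hY, zpowers_le]; exact hyN
  have hYL : Y ≤ L := hYH.trans hHL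
  have hNeq : N = Y ⊔ C := by
    rcases eq_or_eq_of_relIndex_prime Nat.prime_three (le_sup_right : C ≤ Y ⊔ C)
      (sup_le hYN hCN) hidx with h1 | h1
    · exact absurd (h1.le (mem_sup_left hyY)) hyC
    · exact h1.symm
  obtain ⟨K1, hK1⟩ : ∃ K1, K1 = Y ⊔ Q := ⟨_, rfl⟩
  have hYK1 : Y ≤ K1 := hK1 ▸ le_sup_left
  have hQK1 : Q ≤ K1 := hK1 ▸ le_sup_right
  obtain ⟨R, hR⟩ : ∃ R, R = N ⊓ H := ⟨_, rfl⟩
  obtain ⟨C0, hC0⟩ : ∃ C0, C0 = C ⊓ H := ⟨_, rfl⟩
  have hC0C : C0 ≤ C := hC0 ▸ inf_le_left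
  have hC0H : C0 ≤ H := hC0 ▸ inf_le_right
  have hRle : R ≤ Y ⊔ C0 := by
    intro r hr
    rw [hR] at hr
    obtain ⟨hrN, hrH⟩ := mem_inf.1 hr
    rw [hNeq] at hrN
    obtain ⟨y', hy', c, hc, rfl⟩ := (Helper53.mem_sup_of_le_normalizer (hYL.trans hLC)).1 hrN
    refine mul_mem (mem_sup_left hy') (mem_sup_right ?_)
    rw [hC0]
    refine mem_inf.2 ⟨hc, ?_⟩
    have := H.mul_mem (H.inv_mem (hYH hy')) hrH
    rwa [inv_mul_cancel_left] at this
  -- `J` centralizes `a` modulo `Q`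
  have hTN : T ⊓ N ≤ Q := by
    rw [← hTC]
    intro g hg
    obtain ⟨hgT, hgN⟩ := mem_inf.1 hg
    refine mem_inf.2 ⟨hgT, ?_⟩
    obtain ⟨k, hk⟩ := hT ⟨g, hgT⟩
    have hk' : g ^ (2 ^ k) = 1 := by simpa using congrArg Subtype.val hk
    exact mem_of_pow_mem_coprime (Nat.Coprime.pow_left k (by norm_num : Nat.Coprime 2 3))
      (by rw [hk']; exact one_mem C) (hcube g hgN)
  have haJ : ⁅zpowers a, J⁆ ≤ Q := by
    refine le_trans (le_inf ?_ ?_) hTN
    · exact (commutator_mono (zpowers_le.2 haT) hJT).trans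
        (Helper30.commutator_le_of_le_normalizer le_normalizer)
    · rw [commutator_comm]
      exact (commutator_mono hJH le_rfl).trans hHaN
  have hJL : J ≤ L := hJH.trans hHL
  have hJaQ : J ≤ normalizer ((zpowers a ⊔ Q : Subgroup G) : Set G) :=
    le_normalizer_sup_of_commutator_le (hJL.trans hLQ) haJ
  have haY : zpowers a ≤ normalizer (Y : Set G) := by
    rw [zpowers_le, hY]
    apply mem_normalizer_zpowers
    rw [hay]
    exact inv_mem (mem_zpowers y)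
  have hzaL : zpowers a ≤ L := hzaH.trans hHL
  have haK1 : zpowers a ≤ normalizer (K1 : Set G) :=
    hK1 ▸ Helper53.le_normalizer_sup haY (hzaL.trans hLQ)
  have hC0K1 : C0 ≤ normalizer (K1 : Set G) := by
    rw [hK1]
    apply le_normalizer_sup_of_commutator_le ((hC0H.trans hHL).trans hLQ)
    rw [commutator_comm]
    exact (commutator_mono hC0C hYH).trans hCH0
  have hK1eq : ⁅R, zpowers a ⊔ Q⁆ ⊔ Q = K1 := by
    apply le_antisymm
    · apply sup_le _ hQK1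
      refine (commutator_mono hRle le_rfl).trans ?_
      apply sup_commutator_le (hYK1.trans le_normalizer) hC0K1
      · apply commutator_sup_le haK1 (hQK1.trans le_normalizer)
        · exact (Helper30.commutator_le_of_le_normalizer haY).trans hYK1
        · exact (commutator_le_right_of_le_normalizer (hYL.trans hLQ)).trans hQK1
      · apply commutator_sup_le haK1 (hQK1.trans le_normalizer)
        · exact ((commutator_mono hC0C hzaH).trans hCH0).trans hQK1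
        · exact (commutator_le_right_of_le_normalizer ((hC0H.trans hHL).trans hLQ)).trans hQK1
    · rw [hK1]
      apply sup_le _ le_sup_right
      rw [hY, zpowers_le]
      apply mem_sup_left
      have hycomm : y = ⁅y⁻¹, a⁆ := by
        rw [commutatorElement_def, inv_inv]
        calc y = y⁻¹ * y⁻¹ * y ^ 3 := by group
          _ = y⁻¹ * y⁻¹ := by rw [hy3', mul_one]
          _ = y⁻¹ * (a * y * a⁻¹) := by rw [hay]
          _ = y⁻¹ * a * y * a⁻¹ := by group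
      rw [hycomm]
      apply commutator_mem_commutator _ (mem_sup_left (mem_zpowers a))
      rw [hR]
      exact mem_inf.2 ⟨inv_mem hyN, inv_mem hyH⟩
  have hJK1 : J ≤ normalizer (K1 : Set G) := by
    rw [← hK1eq]
    apply Helper53.le_normalizer_sup _ (hJL.trans hLQ)
    apply Helper53.le_normalizer_commutator _ hJaQ
    rw [hR]
    exact Helper53.le_normalizer_inf (hJH.trans hHN) (hJL.trans hLH)
  obtain ⟨K, hK, hKL, hyK⟩ := isJComponent_mk hsyl hA ha hyL hy3 hay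
    (by rw [← hJ, ← hY, ← hQ, ← hK1]; exact hJK1) (hyVC y hyL hyC)
  refine ⟨K, hK, hKL, hHaN.trans ?_⟩
  rw [hNeq]
  apply sup_le_sup_right
  rw [hY, zpowers_le]
  exact hyK

/-- existence of `J(T)`-components. -/
theorem st6 [Finite G] (hc : Core1 G) (hf : FFa G) : St6 G := by
  intro T L hT hL
  obtain ⟨hsolv, hZV, hCZ, hTC, hCT, hO2⟩ := hc T L hT hL
  have hJQ : ¬ JJ T ≤ QQ L := hL.2.1
  rw [JJ_le_iff] at hJQ
  push Not at hJQ
  obtain ⟨A, hA, hAQ⟩ := hJQ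
  obtain ⟨a, ha, hp, haQ⟩ : ∃ a ∈ A, Helper53.JC.Pure L a ∧ a ∉ QQ L := by
    by_contra hcon
    push Not at hcon
    apply hAQ
    refine (hf T L A hT hL hA).trans ?_
    rw [closure_le]
    rintro a ⟨ha, hp⟩
    exact hcon a ha hp
  have haC : a ∉ CCL L := by
    intro h
    apply haQ
    rw [← hTC]
    exact mem_inf.2 ⟨hA.1 ha, h⟩
  obtain ⟨K, hK, hKL, -⟩ := exists_jc hc hT hL hA ha hp haC
  exact ⟨K, hK, hKL⟩

/-- generation. -/
theorem st5 [Finite G] (hc : Core1 G) (hf : FFa G) : St5 G := by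
  intro T L M hT hL hKM hNM hCM
  obtain ⟨hsolv, hZV, hCZ, hTC, hCT, hO2⟩ := hc T L hT hL
  have hsyl : Helper53.IsSyl 2 T L := jOver_isSyl hL
  have hCM' : CCL L ≤ M := le_trans (inf_le_inf_left _ (centralizer_le hZV)) hCM
  have hpure : ∀ A ∈ AE 2 T, ∀ a ∈ A, Helper53.JC.Pure L a → ⁅HHL L, zpowers a⁆ ≤ M := by
    intro A hA a ha hp
    by_cases haC : a ∈ CCL L
    · refine le_trans ?_ hCM'
      exact (commutator_mono le_rfl (zpowers_le.2 haC)).trans
        (commutator_le_right_of_le_normalizer ((HHL_le L).trans (L_le_normalizer_CCL L)))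
    · obtain ⟨K, hK, hKL, h⟩ := exists_jc hc hT hL hA ha hp haC
      exact h.trans (sup_le (hKM K hK hKL) hCM')
  have hJM : JJ T ≤ M := le_trans (le_inf ((JJ_le T).trans hsyl.le) le_normalizer) hNM
  have hT0 : Helper53.IsSyl 2 (T ⊓ HHL L) (HHL L) :=
    hsyl.inf_normal (HHL_le L) (le_normalizer_HHL L)
  have hHM : HHL L ≤ M := by
    rw [JJ_le_iff]
    intro A' hA'
    have hA'H : A' ≤ HHL L := le_JJ hA'
    have hA'p : IsPGroup 2 A' := isPGroup_of_PE hA'.2.1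
    obtain ⟨P, hP, hA'P⟩ := Helper53.exists_isSyl_ge hA'H hA'p
    obtain ⟨k, hk, hkP⟩ := hP.exists_conj hT0
    have h1 : cjj k A' ≤ T ⊓ HHL L := by rw [hkP]; exact Helper53.cj_mono k hA'P
    have h2 : cjj k A' ∈ AE 2 L := by
      have := AE_cj k hA'
      rwa [show cjj k L = L from Helper53.cj_eq_self_iff.2 (le_normalizer (HHL_le L hk))] at this
    have h3 : cjj k A' ∈ AE 2 T := AE_of_le hsyl.le h2 (h1.trans inf_le_left)
    have h4 : cjj k A' ≤ M.comap (MulAut.conj k⁻¹).toMonoidHom := by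
      refine (hf T L _ hT hL h3).trans ?_
      rw [closure_le]
      rintro a ⟨ha, hp⟩
      change k⁻¹ * a * k⁻¹⁻¹ ∈ M
      have e : k⁻¹ * a * k⁻¹⁻¹ = ⁅k⁻¹, a⁆ * a := by
        rw [commutatorElement_def]; group
      rw [e]
      exact M.mul_mem (hpure _ h3 a ha hp (commutator_mem_commutator (inv_mem hk) (mem_zpowers a)))
        (hJM (le_JJ h3 ha))
    intro x hx
    have h5 := h4 (Helper53.cj_mem k hx)
    change k⁻¹ * (k * x * k⁻¹) * k⁻¹⁻¹ ∈ M at h5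
    have e : k⁻¹ * (k * x * k⁻¹) * k⁻¹⁻¹ = x := by group
    rwa [e] at h5
  have hfr := Helper53.frattini_sup hT0 (HHL_le L) (le_normalizer_HHL L)
  rw [← hfr]
  apply sup_le hHM
  refine le_trans ?_ hNM
  apply inf_le_inf_left
  have h5 : JJ (T ⊓ HHL L) = JJ T :=
    Helper55.thompsonSubgroupOf_eq_of_le (le_inf (JJ_le T) (JJ_le_HHL hsyl)) inf_le_left
  rw [← h5]
  exact normalizer_le_normalizer_JJ _

end Cfsg.Agent.Lib.Helper69.JC
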