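import Cfsg.Agent.Lib.Helper69.JC2K2
import Cfsg.Agent.Lib.Helper12.Card

set_option autoImplicit false
set_option linter.unusedVariables false
set_option linter.unusedSectionVars false

/-! K-S ch. 12, part 2 (ladder JC2): rung K1. -/

namespace Cfsg.Agent.Lib.Helper69.JC2

open Cfsg Subgroup Cfsg.Agent.Lib.Helper53 Cfsg.Agent.Lib.Helper53.JC Cfsg.Agent.Lib.Helper53.JC2

variable {G : Type*} [Group G] [Finite G]

theorem k1_two {A : Subgroup G} (hA : Nat.card A = 2) {y : G} (hy : y ∈ A) (hy1 : y ≠ 1) :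
    ∀ a ∈ A, a = 1 ∨ a = y := by
  intro a ha
  by_cases ha1 : a = 1
  · left; exact ha1
  · right
    obtain ⟨w, -, hw⟩ := (Nat.card_eq_two_iff' (1 : A)).1 hA
    have e1 := hw ⟨a, ha⟩ (fun e => ha1 (congrArg Subtype.val e))
    have e2 := hw ⟨y, hy⟩ (fun e => hy1 (congrArg Subtype.val e))
    exact congrArg Subtype.val (e1.trans e2.symm)

theorem k1_exists_ne_one {A : Subgroup G} (hA : 1 < Nat.card A) : ∃ y ∈ A, y ≠ 1 := by
  by_contra hcon
  push Not at hcon
  rw [(eq_bot_iff_forall A).2 hcon, card_bot] at hA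
  omega

theorem k1_four {A : Subgroup G} (hA : Nat.card A = 4) {z y : G} (hz : z ∈ A) (hy : y ∈ A)
    (hz1 : z ≠ 1) (hy1 : y ≠ 1) (hzy : z ≠ y) (hy2 : y * y = 1) :
    ∀ a ∈ A, a = 1 ∨ a = z ∨ a = y ∨ a = z * y := by
  classical
  have hzy1 : z * y ≠ 1 := by
    intro h
    apply hzy
    calc z = z * (y * y) := by rw [hy2, mul_one]
      _ = (z * y) * y := by group
      _ = y := by rw [h, one_mul]
  have hcard : ({1, z, y, z * y} : Finset G).card = 4 := by
    rw [Finset.card_insert_of_notMem, Finset.card_insert_of_notMem, Finset.card_insert_of_notMem,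
      Finset.card_singleton]
    · simp only [Finset.mem_singleton]
      intro h
      apply hz1
      have : 1 * y = z * y := by rw [one_mul]; exact h
      exact (mul_right_cancel this).symm
    · simp only [Finset.mem_insert, Finset.mem_singleton, not_or]
      refine ⟨hzy, ?_⟩
      intro h
      apply hy1
      have : z * 1 = z * y := by rw [mul_one]; exact h
      exact (mul_left_cancel this).symm
    · simp only [Finset.mem_insert, Finset.mem_singleton, not_or]
      exact ⟨hz1.symm, hy1.symm, hzy1.symm⟩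
  have hsub : (({1, z, y, z * y} : Finset G) : Set G) ⊆ (A : Set G) := by
    intro a ha
    simp only [Finset.coe_insert, Finset.coe_singleton, Set.mem_insert_iff,
      Set.mem_singleton_iff] at ha
    rcases ha with rfl | rfl | rfl | rfl
    · exact A.one_mem
    · exact hz
    · exact hy
    · exact A.mul_mem hz hy
  have heq := Set.eq_of_subset_of_ncard_le hsub (by
    rw [Set.ncard_coe_finset, hcard]
    have : (A : Set G).ncard = Nat.card A := rfl
    rw [this, hA]) (Set.toFinite _)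
  intro a ha
  have ha' : a ∈ (({1, z, y, z * y} : Finset G) : Set G) := by rw [heq]; exact ha
  simpa using ha'

theorem k1_conj_comm {g a b : G} (h : a * (g * b * g⁻¹) = g * b * g⁻¹ * a) :
    g⁻¹ * a * g * b = b * (g⁻¹ * a * g) := by
  calc g⁻¹ * a * g * b = g⁻¹ * (a * (g * b * g⁻¹)) * g := by group
    _ = g⁻¹ * (g * b * g⁻¹ * a) * g := by rw [h]
    _ = b * (g⁻¹ * a * g) := by group

/-- case `|Z0| = 4`, `Z ≠ Z0`. -/
theorem k1_caseC {S : Sylow 2 G} {T K L K' : Subgroup G} (hTS : T ≤ (S : Subgroup G))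
    (f : AF S T K L) (hK' : IsJComponent T K') (hK'L : ¬ K' ≤ L)
    (hdisj : ∀ y ∈ omegaCenterOf (JJ T), y ∈ centralizer (K : Set G) →
      y ∈ centralizer (K' : Set G) → y = 1)
    (h4 : Nat.card (omegaCenterOf (JJ T)) = 4)
    (hY : Nat.card ↥(omegaCenterOf (JJ T) ⊓ centralizer (K : Set G)) = 2)
    (hY' : Nat.card ↥(omegaCenterOf (JJ T) ⊓ centralizer (K' : Set G)) = 2)
    (hZZ : omegaCenterOf (S : Subgroup G) ≠ omegaCenterOf (JJ T)) :
    omegaCenterOf T = omegaCenterOf (JJ T) ∧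
      (L ⊓ centralizer (omegaCenterOf (JJ T) : Set G)).relIndex
          (normalizer (omegaCenterOf (JJ T) : Set G)) = 2 := by
  obtain ⟨Z0, hZ0⟩ : ∃ Z0, Z0 = omegaCenterOf (JJ T) := ⟨_, rfl⟩
  obtain ⟨Z, hZ⟩ : ∃ Z, Z = omegaCenterOf (S : Subgroup G) := ⟨_, rfl⟩
  have hPE : Cfsg.Agent.Lib.Helper15.ZJ.PE 2 Z0 := hZ0 ▸ omegaCenterOf_PE (JJ T)
  have hZle : Z ≤ Z0 := by rw [hZ, hZ0]; exact f.a4.trans f.a4'
  have ha6 : ∀ K'' : Subgroup G, IsJComponent T K'' → ¬ Z ≤ centralizer (K'' : Set G) := by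
    rw [hZ]; exact f.a6
  have hZcS : ∀ z ∈ Z, ∀ s ∈ (S : Subgroup G), s * z * s⁻¹ = z := by
    intro z hz s hs
    rw [hZ] at hz
    have := mem_centralizer_iff.1 (omegaCenterOf_le_centralizer _ hz) s hs
    rw [this, mul_inv_cancel_right]
  rw [← hZ0] at hdisj h4 hY hY' ⊢
  rw [← hZ, ← hZ0] at hZZ
  have hZne : Z ≠ ⊥ := by
    intro h
    exact ha6 K f.jc (h ▸ bot_le)
  have hZ2 : Nat.card Z = 2 := by
    have h1 : Nat.card Z ∣ 4 := h4 ▸ Subgroup.card_dvd_of_le hZle
    have h2 : Nat.card Z ≠ 1 := fun h => hZne (Subgroup.card_eq_one.1 h)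
    have h3 : Nat.card Z ≠ 4 := fun h =>
      hZZ (Subgroup.eq_of_le_of_card_ge hZle (by rw [h4, h]))
    have h5 : Nat.card Z ≤ 4 := Nat.le_of_dvd (by norm_num) h1
    interval_cases (Nat.card Z) <;> omega
  obtain ⟨z, hzZ, hz1⟩ := k1_exists_ne_one (A := Z) (by omega)
  obtain ⟨y, hyY, hy1⟩ := k1_exists_ne_one (A := Z0 ⊓ centralizer (K : Set G)) (by omega)
  obtain ⟨y', hyY', hy'1⟩ := k1_exists_ne_one (A := Z0 ⊓ centralizer (K' : Set G)) (by omega)
  obtain ⟨hy0, hyK⟩ := mem_inf.1 hyY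
  obtain ⟨hy'0, hy'K⟩ := mem_inf.1 hyY'
  have hz0 : z ∈ Z0 := hZle hzZ
  have hznot : ∀ K'' : Subgroup G, IsJComponent T K'' → z ∉ centralizer (K'' : Set G) := by
    intro K'' hK'' hz
    apply ha6 K'' hK''
    intro a ha
    rcases k1_two hZ2 hzZ hz1 a ha with rfl | rfl
    · exact one_mem _
    · exact hz
  have hzy : z ≠ y := fun h => hznot K f.jc (h ▸ hyK)
  have hsq : ∀ a ∈ Z0, a * a = 1 := fun a ha => by rw [← pow_two]; exact hPE.2 a ha
  have helts := k1_four h4 hz0 hy0 hz1 hy1 hzy (hsq y hy0)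
  have hy'eq : y' = z * y := by
    rcases helts y' hy'0 with h | h | h | h
    · exact absurd h hy'1
    · exact absurd (h ▸ hy'K) (hznot K' hK')
    · exact absurd (hdisj y hy0 hyK (h ▸ hy'K)) hy1
    · exact h
  have hCy : centralizer {y} ≤ L := f.a3 y (hZ0 ▸ hy0) hyK hy1
  -- Claim A
  have hA : ∀ g ∈ normalizer (Z0 : Set G), g * z * g⁻¹ = z →
      g * y * g⁻¹ = y ∨ g * y * g⁻¹ = z * y := by
    intro g hg hgz
    have h1 : g * y * g⁻¹ ∈ Z0 := (mem_normalizer_iff.1 hg y).1 hy0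
    rcases helts _ h1 with h | h | h | h
    · exfalso
      apply hy1
      calc y = g⁻¹ * (g * y * g⁻¹) * g := by group
        _ = 1 := by rw [h]; group
    · exfalso
      apply hzy
      rw [← hgz] at h
      have h2 : g * y = g * z := mul_right_cancel h
      exact (mul_left_cancel h2).symm
    · left; exact h
    · right; exact h
  -- Claim B
  have hB : ∀ s ∈ L, s * y * s⁻¹ ≠ z * y := by
    intro s hs h
    apply hK'L
    intro k hk
    have h1 : k * (z * y) = z * y * k := by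
      rw [← hy'eq]
      exact (mem_centralizer_iff.1 hy'K k hk)
    rw [← h] at h1
    have h2 : s⁻¹ * k * s ∈ centralizer {y} := by
      rw [mem_centralizer_singleton_iff]
      exact k1_conj_comm h1
    have h3 := hCy h2
    have h4 : k = s * (s⁻¹ * k * s) * s⁻¹ := by group
    rw [h4]
    exact L.mul_mem (L.mul_mem hs h3) (L.inv_mem hs)
  have hNT : normalizer (T : Set G) ≤ normalizer (Z0 : Set G) := by
    rw [hZ0]
    exact (normalizer_le_normalizer_JJ T).trans (normalizer_le_normalizer_omegaCenterOf _)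
  have hcent : ∀ g : G, g * z * g⁻¹ = z → g * y * g⁻¹ = y → g ∈ centralizer (Z0 : Set G) := by
    intro g hgz hgy
    rw [mem_centralizer_iff]
    intro a ha
    have e1 : g * z = z * g := mul_inv_eq_iff_eq_mul.1 hgz
    have e2 : g * y = y * g := mul_inv_eq_iff_eq_mul.1 hgy
    rcases helts a ha with rfl | rfl | rfl | rfl
    · rw [one_mul, mul_one]
    · exact e1.symm
    · exact e2.symm
    · rw [mul_assoc, ← e2, ← mul_assoc, ← e1, mul_assoc]
  have hTc : T ≤ centralizer (Z0 : Set G) := by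
    intro s hs
    have hsz := hZcS z hzZ s (hTS hs)
    rcases hA s (hNT (le_normalizer hs)) hsz with h | h
    · exact hcent s hsz h
    · exact absurd h (hB s (f.syl.1 hs))
  have hΩT : omegaCenterOf T = Z0 := by
    apply le_antisymm (hZ0 ▸ f.a4')
    intro a ha
    apply mem_omegaCenterOf
    · exact JJ_le T (omegaCenterOf_le _ (hZ0 ▸ ha))
    · exact le_centralizer_iff.1 hTc ha
    · exact hPE.2 a ha
  refine ⟨hΩT, ?_⟩
  have hne : T ≠ (S : Subgroup G) := by
    intro h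
    apply hZZ
    rw [hZ, ← h, hΩT]
  obtain ⟨x, hxS, hxN, hxx, hxL⟩ := k2x hTS f hne
  have hxz := hZcS z hzZ x hxS
  have hxy : x * y * x⁻¹ = z * y := by
    rcases hA x (hNT hxN) hxz with h | h
    · exfalso
      apply hxL
      apply hCy
      rw [mem_centralizer_singleton_iff]
      exact mul_inv_eq_iff_eq_mul.1 h
    · exact h
  -- Claim C
  have hC : ∀ g : G, g * z * g⁻¹ ≠ y := by
    intro g hg
    have h1 : cjj g (S : Subgroup G) ≤ L := by
      intro a ha
      apply hCy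
      rw [mem_centralizer_singleton_iff, ← hg]
      have ha' : g⁻¹ * a * g ∈ (S : Subgroup G) := mem_cj.1 ha
      have h2 := hZcS z hzZ _ ha'
      have h3 : g⁻¹ * a * g * z = z * (g⁻¹ * a * g) := mul_inv_eq_iff_eq_mul.1 h2
      calc a * (g * z * g⁻¹) = g * (g⁻¹ * a * g * z) * g⁻¹ := by group
        _ = g * (z * (g⁻¹ * a * g)) * g⁻¹ := by rw [h3]
        _ = g * z * g⁻¹ * a := by group
    obtain ⟨P, hP, hle⟩ := exists_isSyl_ge h1 (isPGroup_cj S.2 g)
    obtain ⟨k, -, hk⟩ := (isSylowTwoIn_iff.1 f.syl).exists_conj hP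
    have c1 : Nat.card (S : Subgroup G) ≤ Nat.card T := by
      rw [← card_cj (S : Subgroup G) g, ← card_cj T k, ← hk]
      exact Subgroup.card_le_of_le hle
    exact hne (Subgroup.eq_of_le_of_card_ge hTS c1)
  have hC' : ∀ g : G, g * z * g⁻¹ ≠ z * y := by
    intro g hg
    apply hC (x⁻¹ * g)
    calc x⁻¹ * g * z * (x⁻¹ * g)⁻¹ = x⁻¹ * (g * z * g⁻¹) * x := by group
      _ = x⁻¹ * (x * y * x⁻¹) * x := by rw [hg, hxy]
      _ = y := by group
  have hD : ∀ n ∈ normalizer (Z0 : Set G), n * z * n⁻¹ = z := by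
    intro n hn
    have h1 : n * z * n⁻¹ ∈ Z0 := (mem_normalizer_iff.1 hn z).1 hz0
    rcases helts _ h1 with h | h | h | h
    · exfalso
      apply hz1
      calc z = n⁻¹ * (n * z * n⁻¹) * n := by group
        _ = 1 := by rw [h]; group
    · exact h
    · exact absurd h (hC n)
    · exact absurd h (hC' n)
  rw [relIndex_eq_two_iff_exists_notMem_and]
  refine ⟨x, hNT hxN, fun h => hxL (mem_inf.1 h).1, ?_⟩
  intro b hb
  have hbz := hD b hb
  have hmem : ∀ g : G, g * z * g⁻¹ = z → g * y * g⁻¹ = y →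
      g ∈ L ⊓ centralizer (Z0 : Set G) := by
    intro g h1 h2
    refine mem_inf.mpr ⟨hCy ?_, hcent g h1 h2⟩
    rw [mem_centralizer_singleton_iff]
    exact mul_inv_eq_iff_eq_mul.1 h2
  rcases hA b hb hbz with h | h
  · right
    exact hmem b hbz h
  · left
    apply hmem
    · calc b * x * z * (b * x)⁻¹ = b * (x * z * x⁻¹) * b⁻¹ := by group
        _ = z := by rw [hxz, hbz]
    · calc b * x * y * (b * x)⁻¹ = b * (x * y * x⁻¹) * b⁻¹ := by group
        _ = (b * z * b⁻¹) * (b * y * b⁻¹) := by rw [hxy]; group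
        _ = z * (z * y) := by rw [hbz, h]
        _ = y := by rw [← mul_assoc, hsq z hz0, one_mul]

theorem k1 {S : Sylow 2 G} {T K L : Subgroup G} (hTS : T ≤ (S : Subgroup G)) (f : AF S T K L)
    (hg : Good T L) : Concl51 S T K L := by
  obtain ⟨K', hK', hK'L⟩ := hg
  have hfirst : omegaCenterOf (JJ T) ⊓ wOf K ≠ ⊥ := by
    intro h
    have := f.a5' K f.jc
    rw [h, card_bot] at this
    omega
  refine ⟨hfirst, ?_⟩
  have hPE := omegaCenterOf_PE (JJ T)
  have hdisj : ∀ y ∈ omegaCenterOf (JJ T), y ∈ centralizer (K : Set G) →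
      y ∈ centralizer (K' : Set G) → y = 1 := by
    intro y hy hyK hyK'
    by_contra hy1
    apply hK'L
    intro k hk
    apply f.a3 y hy hyK hy1
    rw [mem_centralizer_singleton_iff]
    exact mem_centralizer_iff.1 hyK' k hk
  have c1 := f.a5 K f.jc
  have c2 := f.a5 K' hK'
  have hinf : (omegaCenterOf (JJ T) ⊓ centralizer (K : Set G)) ⊓
      (omegaCenterOf (JJ T) ⊓ centralizer (K' : Set G)) = ⊥ := by
    rw [eq_bot_iff_forall]
    intro y hy
    obtain ⟨h1, h2⟩ := mem_inf.1 hy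
    exact hdisj y (mem_inf.1 h1).1 (mem_inf.1 h1).2 (mem_inf.1 h2).2
  have hnorm : omegaCenterOf (JJ T) ⊓ centralizer (K : Set G) ≤
      normalizer ((omegaCenterOf (JJ T) ⊓ centralizer (K' : Set G) : Subgroup G) : Set G) := by
    refine le_trans ?_ (centralizer_le_normalizer _)
    intro a ha
    rw [mem_centralizer_iff]
    intro b hb
    exact hPE.1 b (mem_inf.1 hb).1 a (mem_inf.1 ha).1
  have hprod := Cfsg.Agent.Lib.Helper12.card_sup_mul_card_inf' _ _ hnorm
  rw [hinf, card_bot, mul_one] at hprod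
  have hle : Nat.card ((omegaCenterOf (JJ T) ⊓ centralizer (K : Set G)) ⊔
      (omegaCenterOf (JJ T) ⊓ centralizer (K' : Set G)) : Subgroup G) ≤
      Nat.card (omegaCenterOf (JJ T)) :=
    Subgroup.card_le_of_le (sup_le inf_le_left inf_le_left)
  rw [hprod] at hle
  have hpos : 0 < Nat.card ↥(omegaCenterOf (JJ T) ⊓ centralizer (K : Set G)) := Nat.card_pos
  have hZle : omegaCenterOf (S : Subgroup G) ≤ omegaCenterOf (JJ T) := f.a4.trans f.a4'
  have hZne : omegaCenterOf (S : Subgroup G) ≠ ⊥ := by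
    intro h
    exact f.a6 K f.jc (h ▸ bot_le)
  obtain ⟨a, ha⟩ : ∃ a, a = Nat.card ↥(omegaCenterOf (JJ T) ⊓ centralizer (K : Set G)) := ⟨_, rfl⟩
  obtain ⟨a', ha'⟩ : ∃ a, a = Nat.card ↥(omegaCenterOf (JJ T) ⊓ centralizer (K' : Set G)) :=
    ⟨_, rfl⟩
  obtain ⟨n, hn⟩ : ∃ n, n = Nat.card ↥(omegaCenterOf (JJ T)) := ⟨_, rfl⟩
  rw [← ha, ← ha', ← hn] at hle
  rw [← ha, ← hn] at c1
  rw [← ha', ← hn] at c2
  rw [← ha] at hpos
  have haa : a' = a := by omega
  rw [haa, c1] at hle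
  have ha2 : a ≤ 2 := by nlinarith
  have hcases : a = 1 ∨ a = 2 := by omega
  rcases hcases with h1 | h2
  · left
    have hn2 : Nat.card ↥(omegaCenterOf (JJ T)) = 2 := by omega
    refine ⟨?_, hn2⟩
    apply Subgroup.eq_of_le_of_card_ge hZle
    rw [hn2]
    have h3 : Nat.card ↥(omegaCenterOf (S : Subgroup G)) ≠ 1 :=
      fun h => hZne (Subgroup.card_eq_one.1 h)
    have h4 : 0 < Nat.card ↥(omegaCenterOf (S : Subgroup G)) := Nat.card_pos
    omega
  · right
    have hn4 : Nat.card ↥(omegaCenterOf (JJ T)) = 4 := by omega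
    by_cases hZZ : omegaCenterOf (S : Subgroup G) = omegaCenterOf (JJ T)
    · left
      refine ⟨hZZ, hn4, ?_⟩
      obtain ⟨y, hyY, hy1⟩ := k1_exists_ne_one
        (A := omegaCenterOf (JJ T) ⊓ centralizer (K : Set G)) (by omega)
      obtain ⟨hy0, hyK⟩ := mem_inf.1 hyY
      have hSL : (S : Subgroup G) ≤ L := by
        intro s hs
        apply f.a3 y hy0 hyK hy1
        rw [mem_centralizer_singleton_iff]
        rw [← hZZ] at hy0
        exact mem_centralizer_iff.1 (omegaCenterOf_le_centralizer _ hy0) s hs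
      exact (f.a9 _ S.2 hTS hSL).symm
    · right
      obtain ⟨e1, e2⟩ := k1_caseC hTS f hK' hK'L hdisj hn4 (by omega) (by omega) hZZ
      exact ⟨e1, hn4, e2⟩

end Cfsg.Agent.Lib.Helper69.JC2
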