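import Cfsg.Agent.Lib.Helper69.JC2K2
import Cfsg.Agent.Lib.Helper69.JCSt56
import Cfsg.Agent.Lib.Helper53.JCAll
import Cfsg.Agent.Lib.Helper56.JC44

set_option autoImplicit false
set_option linter.unusedVariables false
set_option linter.unusedSectionVars false

/-! K-S ch. 12, part 2 (ladder JC2): rung K3. -/

namespace Cfsg.Agent.Lib.Helper69.JC2

open Cfsg Subgroup Cfsg.Agent.Lib.Helper53 Cfsg.Agent.Lib.Helper53.JC Cfsg.Agent.Lib.Helper53.JC2

variable {G : Type*} [Group G] [Finite G]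

theorem k3 {S : Sylow 2 G} {M K L : Subgroup G} (c : C51 S M (S : Subgroup G) K L)
    (f : AF S (S : Subgroup G) K L) (hg : ¬ Good (S : Subgroup G) L) : Bad S L := by
  have hNJ : normalizer (JJ (S : Subgroup G) : Set G) ≤ L := by
    intro m hm
    by_contra hmL
    exact hg ⟨_, k2 c.hLmax c.hKL f hm hmL⟩
  refine ⟨c.hLmax.1, f.jo, ?_⟩
  intro N hN hSN
  have hchar := Cfsg.Agent.Lib.Helper56.JC.twoLocal_char c.zn.hL hN
  have hsyl' : IsSyl 2 (S : Subgroup G) N := (isSyl_top_of_sylow S).of_le hSN le_top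
  have hsyl : IsSylowTwoIn (S : Subgroup G) N := isSylowTwoIn_iff.2 hsyl'
  by_cases hJ : JJ (S : Subgroup G) ≤ pCoreOf 2 N
  · have h1 : JJ (pCoreOf 2 N) = JJ (S : Subgroup G) :=
      Cfsg.Agent.Lib.Helper55.thompsonSubgroupOf_eq_of_le hJ (pCoreOf_le_isSyl hsyl')
    have h2 : N ≤ normalizer (JJ (S : Subgroup G) : Set G) := by
      rw [← h1]
      exact (le_normalizer_pCoreOf 2 N).trans (normalizer_le_normalizer_JJ _)
    exact h2.trans hNJ
  · have hNj : N ∈ jOvergroups (S : Subgroup G) := ⟨hsyl, hJ, hchar⟩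
    exact Cfsg.Agent.Lib.Helper69.JC.st5 (zn_core1 c.zn) (zn_ffa c.zn) (S : Subgroup G) N L S.2 hNj
      (fun K' hK' hK'N => by_contra fun h => hg ⟨K', hK', h⟩) (inf_le_right.trans hNJ)
      (inf_le_right.trans ((c.zn.hZ S).trans ((normalizer_le_normalizer_JJ _).trans hNJ)))

end Cfsg.Agent.Lib.Helper69.JC2
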