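import Cfsg.Agent.Lib.Helper53.KS18Defs
import Cfsg.Agent.Lib.Helper53.JC3Asm
import Cfsg.Agent.Lib.Helper41.KS18S4F

set_option autoImplicit false

/-! Ladder KS18 (S0518), rung MAX. -/

namespace Cfsg.Agent.Lib.Helper69.KS18

open Cfsg Subgroup
open Cfsg.Agent.Lib.Helper53
open Cfsg.Agent.Lib.Helper53.JC (cjj QQ)
open Cfsg.Agent.Lib.Helper53.SA2 (BHyp)
open Cfsg.Agent.Lib.Helper53.KS18
open Cfsg.Agent.Lib.Helper41.KS18 (s4f)

variable {G : Type*} [Group G] [Finite G]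

omit [Finite G] in
theorem max_le_normalizer_inf {H P : Subgroup G} (hH : H.Normal) :
    P ≤ normalizer ((H ⊓ P : Subgroup G) : Set G) := by
  intro g hg
  rw [mem_normalizer_iff]
  intro x
  constructor
  · rintro ⟨h1, h2⟩
    exact ⟨hH.conj_mem x h1 g, P.mul_mem (P.mul_mem hg h2) (P.inv_mem hg)⟩
  · rintro ⟨h1, h2⟩
    refine ⟨?_, ?_⟩
    · have := hH.conj_mem _ h1 g⁻¹
      simpa [mul_assoc] using this
    · have := P.mul_mem (P.mul_mem (P.inv_mem hg) h2) hg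
      simpa [mul_assoc] using this

theorem max_of {H P T : Subgroup G} (hH : H.Normal) (m : IsMaximalTwoLocal P) (s : IsSylowTwoIn T P)
    (i : Nonempty (↥(H ⊓ P) ≃* Equiv.Perm (Fin 4))) :
    normalizer (pCoreOf 2 (H ⊓ P) : Set G) = P ∧
    ∀ R : Subgroup G, R ≤ H → IsPGroup 2 ↥R → R ≠ ⊥ → H ⊓ P ≤ normalizer (R : Set G) →
      H ⊓ normalizer (R : Set G) = H ⊓ P := by
  have : Fact (Nat.Prime 2) := ⟨Nat.prime_two⟩
  obtain ⟨-, hW1, hCW, hmin⟩ := s4f i
  set M := H ⊓ P with hM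
  set W := pCoreOf 2 M with hW
  have hPM : P ≤ normalizer (M : Set G) := max_le_normalizer_inf hH
  have hNW : normalizer (W : Set G) = P :=
    m.2 _ ⟨W, pCoreOf_isPGroup 2 M, hW1, rfl⟩ (hPM.trans (normalizer_le_normalizer_pCoreOf 2 M))
  refine ⟨hNW, ?_⟩
  intro R hRH hR2 hR1 hMR
  set Y := H ⊓ normalizer (R : Set G) with hY
  have hMY : M ≤ Y := le_inf inf_le_left hMR
  set R4 := pCoreOf 2 Y with hR4
  have hRR4 : R ≤ R4 := le_pCoreOf (le_inf hRH le_normalizer) inf_le_right hR2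
  have hR41 : R4 ≠ ⊥ := fun h => hR1 (le_bot_iff.1 (h ▸ hRR4))
  have hsyl : IsSyl 2 T P := JC.isSylowTwoIn_iff.1 s
  have hT0 : IsSyl 2 (T ⊓ M) M := hsyl.inf_normal inf_le_right hPM
  set T0 := T ⊓ M with hT0def
  obtain ⟨S1, hS1, hTS1⟩ := exists_isSyl_ge (p := 2) (hT0.le.trans hMY) hT0.isPGroup
  have hR4S1 : R4 ≤ S1 := pCoreOf_le_isSyl hS1
  have hWT0 : W ≤ T0 := pCoreOf_le_isSyl hT0
  have hYR4 : Y ≤ normalizer (R4 : Set G) := le_normalizer_pCoreOf 2 Y
  -- an element of `R4` centralising `S1`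
  have hne := inf_centralizer_ne_bot hS1.isPGroup (pCoreOf_isPGroup 2 Y) hR41 (hS1.le.trans hYR4)
  obtain ⟨⟨r, hr⟩, hr1'⟩ := Subgroup.ne_bot_iff_exists_ne_one.1 hne
  have hr1 : r ≠ 1 := fun h => hr1' (Subtype.ext h)
  have hrCW : r ∈ centralizer (W : Set G) :=
    centralizer_le (show (W : Set G) ⊆ (S1 : Set G) from fun x hx => hTS1 (hWT0 hx)) hr.2
  have hrP : r ∈ P := by
    rw [← hNW]
    exact centralizer_le_normalizer _ hrCW
  have hrH : r ∈ H := (pCoreOf_le 2 Y hr.1).1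
  have hrW : r ∈ W := hCW ⟨⟨hrH, hrP⟩, hrCW⟩
  have hMW : M ≤ normalizer (W : Set G) := le_normalizer_pCoreOf 2 M
  have hWR4 : W ≤ R4 := by
    have h1 : R4 ⊓ W = W := by
      apply hmin _ inf_le_right
      · intro g hg
        have h2 := hYR4 (hMY hg)
        have h3 := hMW hg
        rw [mem_normalizer_iff] at h2 h3 ⊢
        intro x
        rw [mem_inf, mem_inf, h2 x, h3 x]
      · intro h
        have : r ∈ R4 ⊓ W := ⟨hr.1, hrW⟩
        rw [h, mem_bot] at this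
        exact hr1 this
    exact h1 ▸ inf_le_left
  have hR4M : R4 ⊓ M ≤ W := by
    apply le_pCoreOf inf_le_right
    · intro g hg
      have h2 := hYR4 (hMY hg)
      have h3 : g ∈ normalizer (M : Set G) := le_normalizer hg
      rw [mem_normalizer_iff] at h2 h3 ⊢
      intro x
      exact ⟨fun hx => ⟨(h2 x).1 hx.1, (h3 x).1 hx.2⟩, fun hx => ⟨(h2 x).2 hx.1, (h3 x).2 hx.2⟩⟩
    · exact (pCoreOf_isPGroup 2 Y).to_inf_left
  have hNS : S1 ⊓ normalizer (T0 : Set G) ≤ M := by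
    rintro y ⟨hy1, hy2⟩
    have hyY : y ∈ Y := hS1.le hy1
    have h1 : cjj y W ≤ W := by
      apply le_trans _ hR4M
      apply le_inf
      · have := cj_eq_self_iff.2 (hYR4 hyY)
        rw [← this]
        exact cj_mono y hWR4
      · have := cj_eq_self_iff.2 hy2
        refine le_trans (cj_mono y hWT0) ?_
        rw [this]
        exact hT0.le
    have h2 : y ∈ normalizer (W : Set G) := cj_eq_self_iff.1 (cj_eq_of_le h1)
    rw [hNW] at h2
    exact ⟨hyY.1, h2⟩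
  have hS1T0 : S1 = T0 := by
    by_contra hne
    have hlt : T0 < S1 := lt_of_le_of_ne hTS1 (Ne.symm hne)
    have h1 := lt_inf_normalizer hS1.isPGroup hlt
    have h2 := hT0.eq_of_le hNS hS1.isPGroup.to_inf_left h1.le
    exact h1.ne h2.symm
  have hR4W : R4 = W := by
    apply le_antisymm _ hWR4
    refine le_trans (le_inf le_rfl ?_) hR4M
    rw [hS1T0] at hR4S1
    exact hR4S1.trans hT0.le
  apply le_antisymm _ hMY
  intro y hy
  refine ⟨hy.1, ?_⟩
  rw [← hNW, ← hR4W]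
  exact hYR4 hy

end Cfsg.Agent.Lib.Helper69.KS18
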