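import Cfsg.Agent.S0035

set_option autoImplicit false

namespace Cfsg.Agent.Lib.Helper69.Zass

open scoped Pointwise

variable {G Ω : Type*} [Group G] [MulAction G Ω]

/-- a nontrivial subgroup normalised by a 2-transitive subgroup is transitive -/
theorem trans_of_normalized [FaithfulSMul G Ω] (M I : Subgroup G)
    (hM2 : ∀ a b c d : Ω, a ≠ b → c ≠ d → ∃ g ∈ M, g • a = c ∧ g • b = d)
    (hI : ∀ g ∈ M, ∀ x ∈ I, g * x * g⁻¹ ∈ I) (hne : I ≠ ⊥) (x y : Ω) : ∃ n ∈ I, n • x = y := by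
  by_cases hxy : x = y
  · exact ⟨1, I.one_mem, by rw [one_smul, hxy]⟩
  obtain ⟨n0, hn0, hn01⟩ : ∃ n0 ∈ I, n0 ≠ 1 := by
    by_contra hcon
    push Not at hcon
    exact hne ((Subgroup.eq_bot_iff_forall I).mpr hcon)
  obtain ⟨x0, hx0⟩ : ∃ x0 : Ω, n0 • x0 ≠ x0 := by
    by_contra hcon
    push Not at hcon
    exact hn01 (FaithfulSMul.eq_of_smul_eq_smul (α := Ω) (fun z => by rw [hcon, one_smul]))
  obtain ⟨g, hg, h1, h2⟩ := hM2 x0 (n0 • x0) x y (Ne.symm hx0) hxy
  refine ⟨g * n0 * g⁻¹, hI g hg n0 hn0, ?_⟩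
  rw [mul_smul, mul_smul, ← h1, inv_smul_smul, h2]

/-- The Frobenius kernel of a point stabiliser. -/
theorem exists_kernel [Finite G]
    (h2 : ∀ a b c d : Ω, a ≠ b → c ≠ d → ∃ g : G, g • a = c ∧ g • b = d)
    (h3 : ∀ g : G, ∀ a b c : Ω, a ≠ b → b ≠ c → a ≠ c → g • a = a → g • b = b → g • c = c → g = 1)
    (a b c : Ω) (hab : a ≠ b) (hbc : b ≠ c) (hac : a ≠ c)
    (h0 : G) (h01 : h0 ≠ 1) (h0a : h0 • a = a) (h0b : h0 • b = b) :
    ∃ K : Subgroup G, (∀ k ∈ K, k • a = a) ∧ (∀ f : G, f • a = a → ∀ k ∈ K, f * k * f⁻¹ ∈ K) ∧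
      (∀ k ∈ K, k ≠ 1 → ∀ x, x ≠ a → k • x ≠ x) ∧
      (∀ x y, x ≠ a → y ≠ a → ∃ k ∈ K, k • x = y) := by
  obtain ⟨F, hF⟩ : ∃ F : Subgroup G, F = MulAction.stabilizer G a := ⟨_, rfl⟩
  have hFmem : ∀ f : G, f ∈ F ↔ f • a = a := by
    intro f; rw [hF]; exact MulAction.mem_stabilizer_iff
  obtain ⟨H, hH⟩ : ∃ H : Subgroup F, H = (MulAction.stabilizer G b).subgroupOf F := ⟨_, rfl⟩
  have hHmem : ∀ f : F, f ∈ H ↔ (f : G) • b = b := by
    intro f; rw [hH, Subgroup.mem_subgroupOf]; exact MulAction.mem_stabilizer_iff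
  have hconj : ∀ (g x : F), x ∈ MulAut.conj g • H ↔ (x : G) • ((g : G) • b) = (g : G) • b := by
    intro g x
    rw [Subgroup.mem_pointwise_smul_iff_inv_smul_mem, hHmem]
    have : (((MulAut.conj g)⁻¹ • x : F) : G) = (g : G)⁻¹ * x * g := by
      simp [MulAut.smul_def, MulAut.inv_def, MulAut.conj_symm_apply]
    rw [this, mul_smul, mul_smul, inv_smul_eq_iff]
  have hFrob : Cfsg.IsFrobeniusComplement H := by
    refine ⟨?_, ?_, ?_⟩
    · intro hb
      have : (⟨h0, (hFmem h0).mpr h0a⟩ : F) ∈ H := (hHmem _).mpr h0b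
      rw [hb, Subgroup.mem_bot] at this
      exact h01 (congrArg Subtype.val this)
    · intro ht
      obtain ⟨f, hfa, hfb⟩ := h2 a b a c hab hac
      have : (⟨f, (hFmem f).mpr hfa⟩ : F) ∈ H := by rw [ht]; trivial
      rw [hHmem] at this
      exact hbc (this.symm.trans hfb)
    · intro g hg
      rw [eq_bot_iff]
      intro x hx
      obtain ⟨hx1, hx2⟩ := Subgroup.mem_inf.mp hx
      rw [hHmem] at hx1 hg
      rw [hconj] at hx2
      have hga : (g : G) • a = a := (hFmem _).mp g.2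
      have hxa : (x : G) • a = a := (hFmem _).mp x.2
      have h1 : (x : G) = 1 := by
        refine h3 x a b ((g : G) • b) hab (Ne.symm hg) ?_ hxa hx1 hx2
        intro h
        apply hab
        have : (g : G) • a = (g : G) • b := hga.trans h
        exact MulAction.injective _ this
      rw [Subgroup.mem_bot]
      exact Subtype.ext h1
  obtain ⟨N', hN'set, hN'n, hcompl⟩ := Cfsg.Agent.S0035.result H hFrob
  refine ⟨N'.map F.subtype, ?_, ?_, ?_, ?_⟩
  · rintro _ ⟨k, -, rfl⟩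
    exact (hFmem _).mp k.2
  · rintro f hf _ ⟨k, hk, rfl⟩
    exact ⟨⟨f, (hFmem f).mpr hf⟩ * k * ⟨f, (hFmem f).mpr hf⟩⁻¹, hN'n.conj_mem k hk _, by simp⟩
  · rintro _ ⟨k, hk, rfl⟩ hk1 x hxa hkx
    have hk' : k ∈ Cfsg.frobeniusKernel H := by rw [← hN'set]; exact hk
    rcases hk' with h | h
    · apply hk1; rw [h]; rfl
    · obtain ⟨f, hfa, hfb⟩ := h2 a b a x hab (Ne.symm hxa)
      apply h ⟨f, (hFmem f).mpr hfa⟩
      rw [hconj]
      show (k : G) • f • b = f • b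
      rw [hfb]; exact hkx
  · have key : ∀ y, y ≠ a → ∃ k ∈ N'.map F.subtype, k • b = y := by
      intro y hy
      obtain ⟨f, hfa, hfb⟩ := h2 a b a y hab (Ne.symm hy)
      obtain ⟨⟨k, h⟩, hkh⟩ := hcompl.2 ⟨f, (hFmem f).mpr hfa⟩
      refine ⟨k, ⟨k, k.2, rfl⟩, ?_⟩
      have h1 : ((k : F) : G) * ((h : F) : G) = f := congrArg Subtype.val hkh
      have h2' : ((h : F) : G) • b = b := (hHmem _).mp h.2
      rw [← hfb, ← h1, mul_smul, h2']
    intro x y hx hy
    obtain ⟨k1, hk1, hk1b⟩ := key x hx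
    obtain ⟨k2, hk2, hk2b⟩ := key y hy
    refine ⟨k2 * k1⁻¹, Subgroup.mul_mem _ hk2 (Subgroup.inv_mem _ hk1), ?_⟩
    rw [mul_smul, ← hk1b, inv_smul_smul, hk2b]

/-- A normal subgroup containing a nonidentity element fixing two points contains the kernel. -/
theorem kernel_le [Finite G]
    (h3 : ∀ g : G, ∀ a b c : Ω, a ≠ b → b ≠ c → a ≠ c → g • a = a → g • b = b → g • c = c → g = 1)
    (N K : Subgroup G) (hNK : ∀ k ∈ K, ∀ n ∈ N, k * n * k⁻¹ ∈ N) (a b : Ω) (hab : a ≠ b)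
    (hKa : ∀ k ∈ K, k • a = a) (hKn : ∀ f : G, f • a = a → ∀ k ∈ K, f * k * f⁻¹ ∈ K)
    (hKfree : ∀ k ∈ K, k ≠ 1 → ∀ x, x ≠ a → k • x ≠ x)
    (h : G) (hN : h ∈ N) (h1 : h ≠ 1) (ha : h • a = a) (hb : h • b = b) : K ≤ N := by
  let ψ : K → K := fun k => ⟨h * k * h⁻¹ * (k : G)⁻¹, K.mul_mem (hKn h ha k k.2) (K.inv_mem k.2)⟩
  have hinj : Function.Injective ψ := by
    intro k k' hkk
    have e1 : h * k * h⁻¹ * (k : G)⁻¹ = h * k' * h⁻¹ * (k' : G)⁻¹ := congrArg Subtype.val hkk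
    -- u = k'⁻¹ k commutes with h
    have e2 : h * ((k' : G)⁻¹ * k) = ((k' : G)⁻¹ * k) * h := by
      have e3 : (k : G) * h⁻¹ * (k : G)⁻¹ = k' * h⁻¹ * (k' : G)⁻¹ := by
        have := congrArg (fun z => h⁻¹ * z) e1
        simpa [mul_assoc] using this
      have e4 : ((k' : G)⁻¹ * k) * h⁻¹ = h⁻¹ * ((k' : G)⁻¹ * k) := by
        calc ((k' : G)⁻¹ * k) * h⁻¹ = (k' : G)⁻¹ * ((k : G) * h⁻¹ * (k : G)⁻¹) * k := by group
          _ = (k' : G)⁻¹ * (k' * h⁻¹ * (k' : G)⁻¹) * k := by rw [e3]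
          _ = h⁻¹ * ((k' : G)⁻¹ * k) := by group
      calc h * ((k' : G)⁻¹ * k) = h * (((k' : G)⁻¹ * k) * h⁻¹) * h := by group
        _ = h * (h⁻¹ * ((k' : G)⁻¹ * k)) * h := by rw [e4]
        _ = ((k' : G)⁻¹ * k) * h := by group
    have hu : (k' : G)⁻¹ * k ∈ K := K.mul_mem (K.inv_mem k'.2) k.2
    have hfix : h • (((k' : G)⁻¹ * k) • b) = ((k' : G)⁻¹ * k) • b := by
      rw [← mul_smul, e2, mul_smul, hb]
    have hua : ((k' : G)⁻¹ * k) • a = a := hKa _ hu
    have hub : ((k' : G)⁻¹ * k) • b = b := by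
      by_contra hne
      apply h1
      refine h3 h a b (((k' : G)⁻¹ * k) • b) hab (Ne.symm hne) ?_ ha hb hfix
      intro hh
      apply hab
      exact MulAction.injective ((k' : G)⁻¹ * k) (hua.trans hh)
    have hu1 : (k' : G)⁻¹ * k = 1 := by
      by_contra hne
      exact hKfree _ hu hne b (Ne.symm hab) hub
    apply Subtype.ext
    exact (inv_mul_eq_one.mp hu1).symm
  have hsurj : Function.Surjective ψ := Finite.injective_iff_surjective.mp hinj
  intro k hk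
  obtain ⟨k1, hk1⟩ := hsurj ⟨k, hk⟩
  have e : h * k1 * h⁻¹ * (k1 : G)⁻¹ = k := congrArg Subtype.val hk1
  rw [← e]
  have : h * k1 * h⁻¹ * (k1 : G)⁻¹ = h * ((k1 : G) * h⁻¹ * (k1 : G)⁻¹) := by group
  rw [this]
  exact N.mul_mem hN (hNK k1 k1.2 _ (N.inv_mem hN))

/-- A transitive normal subgroup in which only the identity fixes two points yields a regular
normal subgroup, by Frobenius' theorem. -/
theorem no_frobenius_case [Finite G]
    (hreg : ∀ N : Subgroup G, N.Normal → MulAction.IsPretransitive N Ω →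
      ∃ a : Ω, MulAction.stabilizer N a ≠ ⊥)
    (N : Subgroup G) [hNn : N.Normal] (htrans : ∀ x y : Ω, ∃ n ∈ N, n • x = y)
    (hnontriv : ∀ x : Ω, ∃ y : Ω, y ≠ x)
    (hfree2 : ∀ n ∈ N, ∀ x y : Ω, x ≠ y → n • x = x → n • y = y → n = 1) : False := by
  have hNt : MulAction.IsPretransitive N Ω :=
    ⟨fun x y => by obtain ⟨n, hn, h⟩ := htrans x y; exact ⟨⟨n, hn⟩, h⟩⟩
  obtain ⟨a, ha⟩ := hreg N hNn hNt
  obtain ⟨A, hA⟩ : ∃ A : Subgroup N, A = MulAction.stabilizer N a := ⟨_, rfl⟩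
  have hAmem : ∀ f : N, f ∈ A ↔ (f : G) • a = a := by
    intro f; rw [hA]; exact MulAction.mem_stabilizer_iff
  have hconj : ∀ (g x : N), x ∈ MulAut.conj g • A ↔ (x : G) • ((g : G) • a) = (g : G) • a := by
    intro g x
    rw [Subgroup.mem_pointwise_smul_iff_inv_smul_mem, hAmem]
    have : (((MulAut.conj g)⁻¹ • x : N) : G) = (g : G)⁻¹ * x * g := by
      simp [MulAut.smul_def, MulAut.inv_def, MulAut.conj_symm_apply]
    rw [this, mul_smul, mul_smul, inv_smul_eq_iff]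
  have hFrob : Cfsg.IsFrobeniusComplement A := by
    refine ⟨by rw [hA]; exact ha, ?_, ?_⟩
    · intro ht
      obtain ⟨y, hy⟩ := hnontriv a
      obtain ⟨n, hn, hna⟩ := htrans a y
      have : (⟨n, hn⟩ : N) ∈ A := by rw [ht]; trivial
      rw [hAmem] at this
      exact hy (hna.symm.trans this)
    · intro g hg
      rw [eq_bot_iff]
      intro x hx
      obtain ⟨hx1, hx2⟩ := Subgroup.mem_inf.mp hx
      rw [hAmem] at hx1 hg
      rw [hconj] at hx2
      rw [Subgroup.mem_bot]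
      exact Subtype.ext (hfree2 x x.2 a ((g : G) • a) (Ne.symm hg) hx1 hx2)
  obtain ⟨L', hL'set, hL'n, hcompl⟩ := Cfsg.Agent.S0035.result A hFrob
  have hchar : ∀ x : N, x ∈ L' ↔ x = 1 ∨ ∀ y : Ω, (x : G) • y ≠ y := by
    intro x
    have h0 : x ∈ L' ↔ x ∈ Cfsg.frobeniusKernel A := by rw [← hL'set]; rfl
    rw [h0]
    constructor
    · rintro (h | h)
      · exact Or.inl h
      · right
        intro y hy
        obtain ⟨g, hg, hga⟩ := htrans a y
        apply h ⟨g, hg⟩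
        rw [hconj]
        show (x : G) • g • a = g • a
        rw [hga]; exact hy
    · rintro (h | h)
      · exact Or.inl h
      · right
        intro g hg
        rw [hconj] at hg
        exact h _ hg
  have hLn : (L'.map N.subtype).Normal := by
    constructor
    rintro _ ⟨l, hl, rfl⟩ g
    refine ⟨⟨g * l * g⁻¹, hNn.conj_mem l l.2 g⟩, ?_, rfl⟩
    show (⟨g * l * g⁻¹, hNn.conj_mem l l.2 g⟩ : N) ∈ L'
    rw [hchar]
    rcases (hchar l).mp hl with h | h
    · left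
      apply Subtype.ext
      show g * (l : G) * g⁻¹ = 1
      rw [h]; simp
    · right
      intro y hy
      apply h (g⁻¹ • y)
      have hy' : g • (l : G) • g⁻¹ • y = y := by
        rw [← mul_smul, ← mul_smul]; exact hy
      exact (smul_eq_iff_eq_inv_smul g).mp hy'
  have hLt : MulAction.IsPretransitive (L'.map N.subtype) Ω := by
    have key : ∀ y : Ω, ∃ l ∈ L'.map N.subtype, l • a = y := by
      intro y
      obtain ⟨n, hn, hna⟩ := htrans a y
      obtain ⟨⟨l, h⟩, hlh⟩ := hcompl.2 ⟨n, hn⟩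
      refine ⟨l, ⟨l, l.2, rfl⟩, ?_⟩
      have h1 : ((l : N) : G) * ((h : N) : G) = n := congrArg Subtype.val hlh
      have h2' : ((h : N) : G) • a = a := (hAmem _).mp h.2
      rw [← hna, ← h1, mul_smul, h2']
    constructor
    intro x y
    obtain ⟨l1, hl1, hl1a⟩ := key x
    obtain ⟨l2, hl2, hl2a⟩ := key y
    refine ⟨⟨l2 * l1⁻¹, Subgroup.mul_mem _ hl2 (Subgroup.inv_mem _ hl1)⟩, ?_⟩
    show (l2 * l1⁻¹) • x = y
    rw [mul_smul, ← hl1a, inv_smul_smul, hl2a]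
  obtain ⟨a', ha'⟩ := hreg _ hLn hLt
  apply ha'
  rw [eq_bot_iff]
  rintro ⟨_, l, hl, rfl⟩ hx
  have hx' : (l : G) • a' = a' := MulAction.mem_stabilizer_iff.mp hx
  rw [Subgroup.mem_bot]
  apply Subtype.ext
  rcases (hchar l).mp hl with h | h
  · show ((l : N) : G) = 1
    rw [h]; rfl
  · exact absurd hx' (h a')

/-- Two regular subgroups normalised by a 2-transitive group `M` in which only the identity fixes
three points coincide (degree at least 3). -/
theorem regular_le [FaithfulSMul G Ω]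
    (h3 : ∀ g : G, ∀ a b c : Ω, a ≠ b → b ≠ c → a ≠ c → g • a = a → g • b = b → g • c = c → g = 1)
    (M R R' : Subgroup G) (hRM : R ≤ M) (hR'M : R' ≤ M)
    (hM2 : ∀ a b c d : Ω, a ≠ b → c ≠ d → ∃ g ∈ M, g • a = c ∧ g • b = d)
    (hRn : ∀ g ∈ M, ∀ x ∈ R, g * x * g⁻¹ ∈ R) (hR'n : ∀ g ∈ M, ∀ x ∈ R', g * x * g⁻¹ ∈ R')
    (hRt : ∀ x y : Ω, ∃ r ∈ R, r • x = y) (hR't : ∀ x y : Ω, ∃ r ∈ R', r • x = y)
    (hRf : ∀ r ∈ R, ∀ x : Ω, r • x = x → r = 1)
    (a b c : Ω) (hab : a ≠ b) (hbc : b ≠ c) (hac : a ≠ c) : R ≤ R' := by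
  by_cases hI : R ⊓ R' = ⊥
  · exfalso
    -- elements commute
    have hcomm : ∀ r ∈ R, ∀ r' ∈ R', r * r' = r' * r := by
      intro r hr r' hr'
      have hmem : r * r' * r⁻¹ * r'⁻¹ ∈ R ⊓ R' := by
        refine Subgroup.mem_inf.mpr ⟨?_, ?_⟩
        · have : r * r' * r⁻¹ * r'⁻¹ = r * (r' * r⁻¹ * r'⁻¹) := by group
          rw [this]
          exact R.mul_mem hr (hRn r' (hR'M hr') _ (R.inv_mem hr))
        · exact R'.mul_mem (hR'n r (hRM hr) _ hr') (R'.inv_mem hr')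
      rw [hI, Subgroup.mem_bot] at hmem
      have := mul_inv_eq_one.mp hmem
      exact mul_inv_eq_iff_eq_mul.mp this
    -- uniqueness in R
    have huniq : ∀ r ∈ R, ∀ s ∈ R, ∀ x : Ω, r • x = s • x → r = s := by
      intro r hr s hs x hx
      have : s⁻¹ * r = 1 := hRf _ (R.mul_mem (R.inv_mem hs) hr) x (by rw [mul_smul, hx, inv_smul_smul])
      exact (inv_mul_eq_one.mp this).symm
    obtain ⟨r, hr, hra⟩ := hRt a b
    obtain ⟨r', hr', hr'a⟩ := hR't a b
    have hr1 : r ≠ 1 := by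
      rintro rfl
      rw [one_smul] at hra
      exact hab hra
    -- d = r⁻¹ r'
    have hd : ∀ s ∈ R, (r⁻¹ * r') • (s • a) = (r⁻¹ * s * r) • a := by
      intro s hs
      rw [mul_smul, ← mul_smul r' s, ← hcomm s hs r' hr', mul_smul, hr'a, ← hra, ← mul_smul, ← mul_smul]
    have hda : (r⁻¹ * r') • a = a := by rw [mul_smul, hr'a, ← hra, inv_smul_smul]
    have hd1 : r⁻¹ * r' ≠ 1 := by
      intro hh
      have hrr : r' = r := (inv_mul_eq_one.mp hh).symm
      have : r ∈ R ⊓ R' := Subgroup.mem_inf.mpr ⟨hr, hrr ▸ hr'⟩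
      rw [hI, Subgroup.mem_bot] at this
      exact hr1 this
    have hdb : (r⁻¹ * r') • b = b := by
      have := hd r hr
      rw [hra] at this
      rw [this, inv_mul_cancel, one_mul, hra]
    -- d fixes s • a iff s commutes with r
    have hfixcomm : ∀ s ∈ R, r * s = s * r → (r⁻¹ * r') • (s • a) = s • a := by
      intro s hs hc
      rw [hd s hs, mul_assoc, ← hc, ← mul_assoc, inv_mul_cancel, one_mul]
    -- r² = 1
    have hfix_ab : ∀ x : Ω, (r⁻¹ * r') • x = x → x = a ∨ x = b := by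
      intro x hx
      by_contra hcon
      push Not at hcon
      exact hd1 (h3 _ a b x hab (Ne.symm hcon.2) (Ne.symm hcon.1) hda hdb hx)
    have hr2 : r * r = 1 := by
      have h5 := hfix_ab _ (hfixcomm (r * r) (R.mul_mem hr hr) (by group))
      rcases h5 with h5 | h5
      · exact hRf _ (R.mul_mem hr hr) a h5
      · exfalso
        have : r * r = r := huniq _ (R.mul_mem hr hr) _ hr a (h5.trans hra.symm)
        exact hr1 (mul_eq_left.mp this)
    -- every element of R is an involution or 1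
    have hall : ∀ s ∈ R, s * s = 1 := by
      intro s hs
      by_cases hs1 : s = 1
      · rw [hs1, one_mul]
      have hsa : s • a ≠ a := fun hh => hs1 (hRf s hs a hh)
      obtain ⟨x, hx, hxa, hxb⟩ := hM2 a b a (s • a) hab (Ne.symm hsa)
      have : x * r * x⁻¹ = s := by
        apply huniq _ (hRn x hx r hr) _ hs a
        rw [mul_smul, mul_smul, inv_smul_eq_iff.mpr hxa.symm, hra, hxb]
      rw [← this]
      calc x * r * x⁻¹ * (x * r * x⁻¹) = x * (r * r) * x⁻¹ := by group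
        _ = 1 := by rw [hr2]; group
    -- R is abelian
    have hab' : ∀ s ∈ R, ∀ t ∈ R, s * t = t * s := by
      intro s hs t ht
      have h6 := hall (s * t) (R.mul_mem hs ht)
      have hs2 := hall s hs
      have ht2 := hall t ht
      calc s * t = s * t * ((t * t) * (s * s))⁻¹⁻¹ := by rw [ht2, hs2]; group
        _ = (s * t * (s * t))⁻¹⁻¹ * (t * s) := by
            rw [h6, ht2, hs2]
            have e1 : s⁻¹ = s := inv_eq_of_mul_eq_one_left hs2
            have e2 : t⁻¹ = t := inv_eq_of_mul_eq_one_left ht2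
            have e3 : (s * t)⁻¹ = s * t := inv_eq_of_mul_eq_one_left h6
            rw [mul_inv_rev, e1, e2] at e3
            simp [e3]
        _ = t * s := by rw [h6]; group
    obtain ⟨s, hs, hsa⟩ := hRt a c
    rcases hfix_ab _ (hfixcomm s hs (hab' r hr s hs)) with h7 | h7
    · rw [hsa] at h7; exact hac h7.symm
    · rw [hsa] at h7; exact hbc h7.symm
  · -- the intersection is transitive
    have hIt := trans_of_normalized M (R ⊓ R') hM2
      (fun g hg x hx => Subgroup.mem_inf.mpr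
        ⟨hRn g hg x (Subgroup.mem_inf.mp hx).1, hR'n g hg x (Subgroup.mem_inf.mp hx).2⟩) hI
    intro r hr
    obtain ⟨s, hs, hsa⟩ := hIt a (r • a)
    obtain ⟨hs1, hs2⟩ := Subgroup.mem_inf.mp hs
    have : s⁻¹ * r = 1 := hRf _ (R.mul_mem (R.inv_mem hs1) hr) a (by rw [mul_smul, ← hsa, inv_smul_smul])
    rw [← inv_mul_eq_one.mp this]
    exact hs2

end Cfsg.Agent.Lib.Helper69.Zass
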