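import Mathlib
import Cfsg.Agent.Lib.Helper32.Suz.Defs
import Cfsg.Agent.Lib.Helper54.ZassInv

set_option autoImplicit false
set_option linter.unusedVariables false
set_option linter.unusedSectionVars false

/-! SUZ3 ladder: basic consequences of a `ZT`-configuration. -/

namespace Cfsg.Agent.Lib.Helper69.Suz3

open MulAction Subgroup Cfsg.Agent.Lib.Helper32.Suz Cfsg.Agent.Lib.Helper54.Zass

variable {G Ω : Type*} [Group G] [Finite G] [MulAction G Ω] [Fintype Ω]
  {a b : Ω} {Q Z E : Subgroup G} {t : G} {q : ℕ}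

theorem Z_le_Q (D : ZT a b Q Z E t q) : Z ≤ Q := fun z hz => ((D.Zmem z).1 hz).1

theorem odd_card (D : ZT a b Q Z E t q) : Odd (Fintype.card Ω) := by
  obtain ⟨k, hk⟩ := IsPGroup.iff_card.mp D.Q2
  have h1 : q ≤ Nat.card Q := D.Zcard ▸ Subgroup.card_le_of_le (Z_le_Q D)
  have h2 := D.hq
  rw [← D.Qcard, hk]
  rcases k with _ | k
  · rw [hk, pow_zero] at h1; omega
  · rw [pow_succ]
    exact ⟨2 ^ k, by ring⟩

theorem orderOf_two {s : G} (hs : s * s = 1) (hs1 : s ≠ 1) : orderOf s = 2 :=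
  orderOf_eq_prime (by rw [pow_two]; exact hs) hs1

theorem inv_of_sq {s : G} (hs : s * s = 1) : s⁻¹ = s := inv_eq_of_mul_eq_one_left hs

theorem fix_unique (D : ZT a b Q Z E t q) {s : G} (hs : s * s = 1) (hs1 : s ≠ 1) {p p' : Ω}
    (hp : s • p = p) (hp' : s • p' = p') : p = p' := by
  obtain ⟨c, -, hc⟩ := invol_fix_unique D.h3 (odd_card D) s (orderOf_two hs hs1)
  rw [hc p hp, hc p' hp']

theorem exists_fix (D : ZT a b Q Z E t q) {s : G} (hs : s * s = 1) (hs1 : s ≠ 1) :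
    ∃ p : Ω, s • p = p := by
  obtain ⟨c, hc, -⟩ := invol_fix_unique D.h3 (odd_card D) s (orderOf_two hs hs1)
  exact ⟨c, hc⟩

theorem t_ne_one (D : ZT a b Q Z E t q) : t ≠ 1 := by
  intro e
  have := D.ta
  rw [e, one_smul] at this
  exact D.hab this

theorem Q_fix (D : ZT a b Q Z E t q) {u : G} (hu : u ∈ Q) : u • a = a := D.Qle hu

/-- `Q` acts freely off `a`. -/
theorem Q_free (D : ZT a b Q Z E t q) {u u' : G} (hu : u ∈ Q) (hu' : u' ∈ Q) {c : Ω} (hc : c ≠ a)
    (h : u • c = u' • c) : u = u' := by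
  by_contra hne
  have h1 : u'⁻¹ * u ≠ 1 := fun e => hne (inv_mul_eq_one.1 e).symm
  have h2 : (u'⁻¹ * u) • c = c := by rw [mul_smul, h, inv_smul_smul]
  exact hc (D.Qfix _ (Q.mul_mem (Q.inv_mem hu') hu) h1 c h2)

/-- `Q` is transitive off `a`. -/
theorem Q_trans (D : ZT a b Q Z E t q) {c d : Ω} (hc : c ≠ a) (hd : d ≠ a) :
    ∃ u ∈ Q, u • c = d := by
  have hinj : Function.Injective (fun u : Q =>
      (⟨(u : G) • c, by
        intro h
        apply hc
        have h1 : (u : G)⁻¹ • ((u : G) • c) = (u : G)⁻¹ • a := by rw [h]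
        rw [inv_smul_smul, Q_fix D (Q.inv_mem u.2)] at h1
        exact h1⟩ : {x : Ω // x ≠ a})) := by
    intro u u' huu
    exact Subtype.ext (Q_free D u.2 u'.2 hc (congrArg Subtype.val huu))
  have hcard : Nat.card Q = Nat.card {x : Ω // x ≠ a} := by
    have h1 : Nat.card {x : Ω // x ≠ a} = ({a}ᶜ : Set Ω).ncard := rfl
    rw [h1, Set.ncard_compl, Set.ncard_singleton, Nat.card_eq_fintype_card (α := Ω), ← D.Qcard]
    omega
  obtain ⟨u, hu⟩ := ((Nat.bijective_iff_injective_and_card _).2 ⟨hinj, hcard⟩).2 ⟨d, hd⟩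
  exact ⟨u, u.2, congrArg Subtype.val hu⟩

/-- an element of square one fixing `a` lies in `Z`. -/
theorem mem_Z_of_fix (D : ZT a b Q Z E t q) {s : G} (hs : s * s = 1) (hsa : s • a = a) : s ∈ Z := by
  by_cases hs1 : s = 1
  · rw [hs1]; exact Z.one_mem
  · rw [D.Zmem]
    refine ⟨?_, hs⟩
    apply mem_of_fixOnly D.h2 D.h3 D.hab Q D.Qle D.Qcard D.Qfix s hsa
    intro c hc
    exact fix_unique D hs hs1 hc hsa

/-- the centraliser of an involution fixing `a` lies in `Q`. -/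
theorem mem_Q_of_commute (D : ZT a b Q Z E t q) {z g : G} (hz : z ∈ Z) (hz1 : z ≠ 1)
    (hg : g * z = z * g) : g ∈ Q := by
  have h1 := (D.Zmem z).1 hz
  apply centralizer_invol_le D.h2 D.h3 D.hab (odd_card D) Q D.Qle D.Qcard D.Qfix z
    (orderOf_two h1.2 hz1) (Q_fix D h1.1)
  rw [mem_centralizer_singleton_iff]
  exact hg

/-- (F3) the product of two involutions with different fixed points has odd order. -/
theorem odd_order_mul (D : ZT a b Q Z E t q) {s s' : G} (hs : s * s = 1) (hs' : s' * s' = 1)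
    (hs1 : s ≠ 1) (hs'1 : s' ≠ 1) {p p' : Ω} (hp : s • p = p) (hp' : s' • p' = p')
    (hne : p ≠ p') : Odd (orderOf (s * s')) := by
  rw [← Nat.not_even_iff_odd]
  rintro ⟨k, hk⟩
  have hpos : 0 < orderOf (s * s') := orderOf_pos _
  obtain ⟨i, hi⟩ : ∃ i, i = (s * s') ^ k := ⟨_, rfl⟩
  have hi1 : i ≠ 1 := by
    rw [hi]
    exact pow_ne_one_of_lt_orderOf (by omega) (by omega)
  have hii : i * i = 1 := by
    rw [hi, ← pow_add, ← hk]
    exact pow_orderOf_eq_one _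
  have hsi := inv_of_sq hs
  have hs'i := inv_of_sq hs'
  have hwi : (s * s')⁻¹ = s' * s := by rw [mul_inv_rev, hsi, hs'i]
  have c1 : s * i * s⁻¹ = i⁻¹ := by
    have e1 : s * (s * s') * s⁻¹ = (s * s')⁻¹ := by
      rw [hwi, hsi, ← mul_assoc, hs, one_mul]
    have e2 : s * (s * s') ^ k * s⁻¹ = (s * (s * s') * s⁻¹) ^ k := (conj_pow).symm
    rw [hi, e2, e1, inv_pow]
  have c2 : s' * i * s'⁻¹ = i⁻¹ := by
    have e1 : s' * (s * s') * s'⁻¹ = (s * s')⁻¹ := by
      rw [hwi, hs'i, mul_assoc, mul_assoc, hs', mul_one]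
    have e2 : s' * (s * s') ^ k * s'⁻¹ = (s' * (s * s') * s'⁻¹) ^ k := (conj_pow).symm
    rw [hi, e2, e1, inv_pow]
  rw [inv_of_sq hii] at c1 c2
  have d1 : Commute s i := mul_inv_eq_iff_eq_mul.1 c1
  have d2 : Commute s' i := mul_inv_eq_iff_eq_mul.1 c2
  obtain ⟨c, hc⟩ := exists_fix D hii hi1
  have hu : ∀ d : Ω, i • d = d → d = c := fun d hd => fix_unique D hii hi1 hd hc
  have f1 := fix_of_commute d1 hc hu
  have f2 := fix_of_commute d2 hc hu
  exact hne ((fix_unique D hs hs1 hp f1).trans (fix_unique D hs' hs'1 f2 hp'))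

end Cfsg.Agent.Lib.Helper69.Suz3
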