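import Mathlib
import Cfsg.Agent.Lib.Helper69.Suz3Base

set_option autoImplicit false
set_option linter.unusedVariables false
set_option linter.unusedSectionVars false

/-! SUZ3 ladder, rung THREE. -/

namespace Cfsg.Agent.Lib.Helper69.Suz3

open MulAction Subgroup Cfsg.Agent.Lib.Helper32.Suz Cfsg.Agent.Lib.Helper54.Zass

variable {G Ω : Type*} [Group G] [Finite G] [MulAction G Ω] [Fintype Ω]
  {a b : Ω} {Q Z E : Subgroup G} {t : G} {q : ℕ}

theorem E_fix (D : ZT a b Q Z E t q) {x : G} (hx : x ∈ E) : x • a = a ∧ x • b = b := by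
  rw [D.hE] at hx
  exact ⟨(mem_inf.1 hx).1, (mem_inf.1 hx).2⟩

theorem mem_Z_of_three_dvd (D : ZT a b Q Z E t q) (h3q : 3 ∣ q - 1) {f : G} (hf : f ∈ Q)
    (hfix : t • (f • b) = f • b) : f ∈ Z := by
  have : Fact (Nat.Prime 3) := ⟨Nat.prime_three⟩
  have ht1 := t_ne_one D
  have htt := D.tt
  have hti := inv_of_sq D.tt
  obtain ⟨ε', hε'⟩ := exists_prime_orderOf_dvd_card' (G := E) 3 (by rw [D.Ecard]; exact h3q)
  obtain ⟨ε, hε⟩ : ∃ ε : G, ε = ε' := ⟨_, rfl⟩
  have hεE : ε ∈ E := hε ▸ ε'.2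
  have hεo : orderOf ε = 3 := by rw [hε, Subgroup.orderOf_coe]; exact hε'
  have hε1 : ε ≠ 1 := by
    intro e
    rw [e, orderOf_one] at hεo
    omega
  have hε3 : ε ^ 3 = 1 := hεo ▸ pow_orderOf_eq_one ε
  obtain ⟨hεa, hεb⟩ := E_fix D hεE
  have htε : t * ε * t = ε⁻¹ := by
    have := D.tinv ε hεE
    rwa [hti] at this
  obtain ⟨t1, ht1def⟩ : ∃ t1, t1 = ε * t := ⟨_, rfl⟩
  have ht1sq : t1 * t1 = 1 := by
    calc t1 * t1 = ε * (t * ε * t) := by rw [ht1def]; group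
      _ = 1 := by rw [htε, mul_inv_cancel]
  have ht1ne : t1 ≠ 1 := by
    intro e
    have h1 : t1 • a = b := by rw [ht1def, mul_smul, D.ta, hεb]
    rw [e, one_smul] at h1
    exact D.hab h1
  have hw : t * t1 = ε⁻¹ := by rw [ht1def, ← mul_assoc, htε]
  obtain ⟨c, hc⟩ := exists_fix D ht1sq ht1ne
  have hp0a : f • b ≠ a := by
    intro e
    rw [e, D.ta] at hfix
    exact D.hab hfix.symm
  have hp0b : f • b ≠ b := by
    intro e
    rw [e, D.tb] at hfix
    exact D.hab hfix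
  have hcp : c ≠ f • b := by
    intro e
    apply hε1
    have h1 : ε⁻¹ • (f • b) = f • b := by
      rw [← hw, mul_smul, ← e, hc, e, hfix]
    have h2 : ε⁻¹ = 1 := D.h3 ε⁻¹ a b (f • b) D.hab hp0b.symm hp0a.symm
      (by rw [inv_smul_eq_iff, hεa]) (by rw [inv_smul_eq_iff, hεb]) h1
    exact inv_eq_one.1 h2
  obtain ⟨k, hk⟩ : ∃ k, k = f * t := ⟨_, rfl⟩
  have hka : k • a = f • b := by rw [hk, mul_smul, D.ta]
  have hkb : k • b = a := by rw [hk, mul_smul, D.tb, Q_fix D hf]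
  obtain ⟨z, hz⟩ : ∃ z, z = k⁻¹ * t * k := ⟨_, rfl⟩
  have hzz : z * z = 1 := by
    calc z * z = k⁻¹ * (t * t) * k := by rw [hz]; group
      _ = 1 := by rw [htt]; group
  have hza : z • a = a := by
    rw [hz, mul_smul, mul_smul, hka, hfix, ← hka, inv_smul_smul]
  have hzZ := mem_Z_of_fix D hzz hza
  have hkc : k⁻¹ • c ≠ a := by
    intro e
    apply hcp
    rw [← hka, ← e, smul_inv_smul]
  obtain ⟨u, hu, huc⟩ := Q_trans D hkc D.hab.symm
  obtain ⟨g, hg⟩ : ∃ g, g = k * u * k⁻¹ := ⟨_, rfl⟩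
  have hgt : g * t * g⁻¹ = t := by
    have e1 : u * z * u⁻¹ = z := by
      rw [← D.Zcen z hzZ u hu, mul_inv_cancel_right]
    calc g * t * g⁻¹ = k * (u * (k⁻¹ * t * k) * u⁻¹) * k⁻¹ := by rw [hg]; group
      _ = k * z * k⁻¹ := by rw [← hz, e1]
      _ = t := by rw [hz]; group
  have hgc : g • c = a := by
    rw [hg, mul_smul, mul_smul, huc, hkb]
  obtain ⟨z', hz'⟩ : ∃ z', z' = g * t1 * g⁻¹ := ⟨_, rfl⟩
  have hz'z' : z' * z' = 1 := by
    calc z' * z' = g * (t1 * t1) * g⁻¹ := by rw [hz']; group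
      _ = 1 := by rw [ht1sq]; group
  have hz'a : z' • a = a := by
    rw [hz', mul_smul, mul_smul, ← hgc, inv_smul_smul, hc]
  have hz'Z := mem_Z_of_fix D hz'z' hz'a
  have htz' : t * z' = g * ε⁻¹ * g⁻¹ := by
    calc t * z' = (g * t * g⁻¹) * (g * t1 * g⁻¹) := by rw [hgt, hz']
      _ = g * (t * t1) * g⁻¹ := by group
      _ = g * ε⁻¹ * g⁻¹ := by rw [hw]
  have hcube : (t * z') ^ 3 = 1 := by
    rw [htz', conj_pow, inv_pow, hε3]
    group
  have hrel : z' * (t * z' * t) * z' = t := by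
    have e1 : t * (z' * (t * z' * t) * z') = 1 := by
      calc t * (z' * (t * z' * t) * z') = (t * z') ^ 3 := by
            rw [pow_succ, pow_two]; group
        _ = 1 := hcube
    calc z' * (t * z' * t) * z' = (t * t) * (z' * (t * z' * t) * z') := by rw [htt, one_mul]
      _ = t * (t * (z' * (t * z' * t) * z')) := by group
      _ = t := by rw [e1, mul_one]
  have hfixz : t • (z' • b) = z' • b := by
    nth_rewrite 1 [← hrel]
    rw [mul_smul, mul_smul, ← mul_smul z' z', hz'z', one_smul, mul_smul, mul_smul, D.tb, hz'a, D.ta]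
  have heq : z' • b = f • b := fix_unique D htt ht1 hfixz hfix
  have : z' = f := Q_free D (Z_le_Q D hz'Z) hf D.hab.symm heq
  rw [← this]
  exact hz'Z

end Cfsg.Agent.Lib.Helper69.Suz3
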