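import Mathlib
import Cfsg.Agent.Lib.Helper69.Suz3Base
import Cfsg.Agent.Lib.Helper69.Suz3Three
import Cfsg.Agent.Lib.Helper12.Card

set_option autoImplicit false
set_option linter.unusedVariables false
set_option linter.unusedSectionVars false

/-! SUZ3 ladder, rung BLK1: the block through `a` and `b`. -/

namespace Cfsg.Agent.Lib.Helper69.Suz3

open MulAction Subgroup Cfsg.Agent.Lib.Helper32.Suz Cfsg.Agent.Lib.Helper54.Zass

variable {G Ω : Type*} [Group G] [Finite G] [MulAction G Ω] [Fintype Ω]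
  {a b : Ω} {Q Z E : Subgroup G} {t : G} {q : ℕ}

/-- an element mapping `Δ` into itself stabilises it. -/
theorem mem_stabSet_of_maps {Δ : Set Ω} {g : G} (h : ∀ c ∈ Δ, g • c ∈ Δ) : g ∈ stabSet G Δ := by
  have hpow : ∀ k : ℕ, ∀ c ∈ Δ, g ^ k • c ∈ Δ := by
    intro k
    induction k with
    | zero => intro c hc; rw [pow_zero, one_smul]; exact hc
    | succ k ih => intro c hc; rw [pow_succ, mul_smul]; exact ih _ (h c hc)
  have hinv : g⁻¹ = g ^ (orderOf g - 1) := by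
    apply inv_eq_of_mul_eq_one_left
    rw [← pow_succ]
    have : orderOf g - 1 + 1 = orderOf g := Nat.sub_add_cancel (orderOf_pos g)
    rw [this, pow_orderOf_eq_one]
  rw [mem_stabSet]
  intro c
  refine ⟨fun hc => ?_, h c⟩
  have := hpow (orderOf g - 1) _ hc
  rwa [← hinv, inv_smul_smul] at this

theorem a_mem_blk : a ∈ blk a b Z := Or.inl rfl

theorem smul_b_mem_blk {z : G} (hz : z ∈ Z) : z • b ∈ blk a b Z := Or.inr ⟨z, hz, rfl⟩

theorem b_mem_blk : b ∈ blk a b Z := Or.inr ⟨1, Z.one_mem, one_smul _ _⟩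

theorem conj_mem_Z (D : ZT a b Q Z E t q) {g z : G} (hg : g • a = a) (hz : z ∈ Z) :
    g * z * g⁻¹ ∈ Z := by
  have h1 := (D.Zmem z).1 hz
  apply mem_Z_of_fix D
  · calc g * z * g⁻¹ * (g * z * g⁻¹) = g * (z * z) * g⁻¹ := by group
      _ = 1 := by rw [h1.2]; group
  · have hg' : g⁻¹ • a = a := by rw [inv_smul_eq_iff, hg]
    rw [mul_smul, mul_smul, hg', Q_fix D h1.1, hg]

theorem Z_le (D : ZT a b Q Z E t q) : Z ≤ stabSet G (blk a b Z) := by
  intro z' hz'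
  apply mem_stabSet_of_maps
  rintro c (rfl | ⟨z, hz, rfl⟩)
  · rw [Q_fix D (Z_le_Q D hz')]; exact a_mem_blk
  · rw [← mul_smul]; exact smul_b_mem_blk (Z.mul_mem hz' hz)

theorem E_le (D : ZT a b Q Z E t q) : E ≤ stabSet G (blk a b Z) := by
  intro x hx
  obtain ⟨hxa, hxb⟩ := E_fix D hx
  apply mem_stabSet_of_maps
  rintro c (rfl | ⟨z, hz, rfl⟩)
  · rw [hxa]; exact a_mem_blk
  · have e : x • z • b = (x * z * x⁻¹) • b := by
      nth_rewrite 2 [← hxb]
      rw [← mul_smul, ← mul_smul, inv_mul_cancel_right]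
    rw [e]
    exact smul_b_mem_blk (conj_mem_Z D hxa hz)

theorem t_mem (D : ZT a b Q Z E t q) {f : G} (hf : f ∈ Z) (hfix : t • (f • b) = f • b) :
    t ∈ stabSet G (blk a b Z) := by
  have hti := inv_of_sq D.tt
  have hf1 : f ≠ 1 := by
    intro e
    rw [e, one_smul, D.tb] at hfix
    exact D.hab hfix
  apply mem_stabSet_of_maps
  rintro c (rfl | ⟨z, hz, rfl⟩)
  · rw [D.ta]; exact b_mem_blk
  · by_cases hz1 : z = 1
    · rw [hz1, one_smul, D.tb]; exact a_mem_blk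
    · obtain ⟨x, hx, hxz⟩ := D.Ztr f hf hf1 z hz hz1
      obtain ⟨hxa, hxb⟩ := E_fix D hx
      have hxa' : x⁻¹ • a = a := by rw [inv_smul_eq_iff, hxa]
      have hxb' : x⁻¹ • b = b := by rw [inv_smul_eq_iff, hxb]
      have htx : t * x = x⁻¹ * t := by
        have := D.tinv x hx
        exact mul_inv_eq_iff_eq_mul.1 this
      have e : t • z • b = (x⁻¹ * f * x⁻¹⁻¹) • b := by
        rw [← hxz, inv_inv]
        calc t • (x * f * x⁻¹) • b = t • x • f • b := by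
              rw [mul_smul, mul_smul, hxb']
          _ = (t * x) • f • b := by rw [mul_smul]
          _ = x⁻¹ • f • b := by rw [htx, mul_smul, hfix]
          _ = (x⁻¹ * f * x) • b := by rw [mul_smul, mul_smul, hxb]
      rw [e]
      exact smul_b_mem_blk (conj_mem_Z D hxa' hf)

theorem blk_eq (D : ZT a b Q Z E t q) :
    blk a b Z = insert a ((fun z : G => z • b) '' (Z : Set G)) := by
  ext c
  simp only [blk, Set.mem_ofPred_eq, Set.mem_insert_iff, Set.mem_image, SetLike.mem_coe]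

theorem ncard_image (D : ZT a b Q Z E t q) : ((fun z : G => z • b) '' (Z : Set G)).ncard = q := by
  rw [Set.InjOn.ncard_image]
  · exact D.Zcard
  · intro z hz z' hz' h
    exact Q_free D (Z_le_Q D hz) (Z_le_Q D hz') D.hab.symm h

theorem a_notMem_image (D : ZT a b Q Z E t q) : a ∉ (fun z : G => z • b) '' (Z : Set G) := by
  rintro ⟨z, hz, hzb⟩
  have hzb' : z • b = a := hzb
  apply D.hab
  have h1 : z⁻¹ • a = a := Q_fix D (Q.inv_mem (Z_le_Q D hz))
  rw [← hzb', inv_smul_smul] at h1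
  rw [← hzb', ← h1]

theorem ncard_blk (D : ZT a b Q Z E t q) : (blk a b Z).ncard = q + 1 := by
  rw [blk_eq D, Set.ncard_insert_of_notMem (a_notMem_image D), ncard_image D]

/-- `Y` is transitive on the block. -/
theorem exists_Y_smul_a (D : ZT a b Q Z E t q) {f : G} (hf : f ∈ Z) (hfix : t • (f • b) = f • b)
    {c : Ω} (hc : c ∈ blk a b Z) : ∃ g ∈ stabSet G (blk a b Z), g • a = c := by
  rcases hc with rfl | ⟨z, hz, rfl⟩
  · exact ⟨1, one_mem _, one_smul _ _⟩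
  · exact ⟨z * t, mul_mem (Z_le D hz) (t_mem D hf hfix), by rw [mul_smul, D.ta]⟩

/-- `Z` is transitive on the block minus `a`. -/
theorem exists_Z_smul (D : ZT a b Q Z E t q) {c d : Ω} (hc : c ∈ blk a b Z) (hd : d ∈ blk a b Z)
    (hca : c ≠ a) (hda : d ≠ a) : ∃ z ∈ Z, z • c = d := by
  rcases hc with rfl | ⟨z, hz, rfl⟩
  · exact absurd rfl hca
  rcases hd with rfl | ⟨z', hz', rfl⟩
  · exact absurd rfl hda
  exact ⟨z' * z⁻¹, Z.mul_mem hz' (Z.inv_mem hz), by rw [mul_smul, inv_smul_smul]⟩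

theorem trans2 (D : ZT a b Q Z E t q) {f : G} (hf : f ∈ Z) (hfix : t • (f • b) = f • b)
    {c d c' d' : Ω} (hc : c ∈ blk a b Z) (hd : d ∈ blk a b Z) (hc' : c' ∈ blk a b Z)
    (hd' : d' ∈ blk a b Z) (hcd : c ≠ d) (hcd' : c' ≠ d') :
    ∃ g ∈ stabSet G (blk a b Z), g • c = c' ∧ g • d = d' := by
  obtain ⟨g₁, hg₁, hg₁a⟩ := exists_Y_smul_a D hf hfix hc
  obtain ⟨g₂, hg₂, hg₂a⟩ := exists_Y_smul_a D hf hfix hc'
  have h1 : g₁⁻¹ • d ∈ blk a b Z := ((mem_stabSet _ _).1 (inv_mem hg₁) d).2 hd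
  have h2 : g₂⁻¹ • d' ∈ blk a b Z := ((mem_stabSet _ _).1 (inv_mem hg₂) d').2 hd'
  have h3 : g₁⁻¹ • d ≠ a := by
    intro e
    apply hcd
    rw [← hg₁a, ← e, smul_inv_smul]
  have h4 : g₂⁻¹ • d' ≠ a := by
    intro e
    apply hcd'
    rw [← hg₂a, ← e, smul_inv_smul]
  obtain ⟨z, hz, hzd⟩ := exists_Z_smul D h1 h2 h3 h4
  refine ⟨g₂ * z * g₁⁻¹, mul_mem (mul_mem hg₂ (Z_le D hz)) (inv_mem hg₁), ?_, ?_⟩
  · rw [mul_smul, mul_smul, ← hg₁a, inv_smul_smul, Q_fix D (Z_le_Q D hz), hg₂a]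
  · rw [mul_smul, mul_smul, hzd, smul_inv_smul]

theorem relIndex_stab (H : Subgroup G) (x : Ω) :
    (stabilizer G x).relIndex H = (orbit H x).ncard := by
  rw [← MulAction.index_stabilizer]
  unfold Subgroup.relIndex
  congr 1

theorem card_Y (D : ZT a b Q Z E t q) {f : G} (hf : f ∈ Z) (hfix : t • (f • b) = f • b) :
    Nat.card (stabSet G (blk a b Z)) = (q + 1) * q * (q - 1) := by
  obtain ⟨Y, hY⟩ : ∃ Y, Y = stabSet G (blk a b Z) := ⟨_, rfl⟩
  rw [← hY]
  have ho1 : orbit Y a = blk a b Z := by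
    ext c
    constructor
    · rintro ⟨g, rfl⟩
      have hg : (g : G) ∈ stabSet G (blk a b Z) := hY ▸ g.2
      exact ((mem_stabSet _ _).1 hg a).2 a_mem_blk
    · intro hc
      obtain ⟨g, hg, hga⟩ := exists_Y_smul_a D hf hfix hc
      exact ⟨⟨g, hY ▸ hg⟩, hga⟩
  have ho2 : orbit (Y ⊓ stabilizer G a : Subgroup G) b = (fun z : G => z • b) '' (Z : Set G) := by
    ext c
    constructor
    · rintro ⟨g, rfl⟩
      have hg : (g : G) ∈ stabSet G (blk a b Z) := hY ▸ (mem_inf.1 g.2).1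
      have hga : (g : G) • a = a := (mem_inf.1 g.2).2
      have h1 : (g : G) • b ∈ blk a b Z := ((mem_stabSet _ _).1 hg b).2 b_mem_blk
      rcases h1 with h1 | ⟨z, hz, hzb⟩
      · exfalso
        apply D.hab
        exact (smul_left_cancel (g : G) (h1.trans hga.symm)).symm
      · exact ⟨z, hz, hzb⟩
    · rintro ⟨z, hz, rfl⟩
      exact ⟨⟨z, mem_inf.mpr ⟨hY ▸ Z_le D hz, Q_fix D (Z_le_Q D hz)⟩⟩, rfl⟩
  have hEeq : (Y ⊓ stabilizer G a) ⊓ stabilizer G b = E := by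
    rw [inf_assoc, ← D.hE]
    exact inf_eq_right.2 (hY ▸ E_le D)
  have r1 : (Y ⊓ stabilizer G a).relIndex Y = q + 1 := by
    rw [inf_relIndex_left, relIndex_stab, ho1, ncard_blk D]
  have r2 : E.relIndex (Y ⊓ stabilizer G a) = q := by
    rw [← hEeq, inf_relIndex_left, relIndex_stab, ho2, ncard_image D]
  have c1 := Cfsg.Agent.Lib.Helper12.relIndex_mul_card' (inf_le_left : Y ⊓ stabilizer G a ≤ Y)
  have c2 := Cfsg.Agent.Lib.Helper12.relIndex_mul_card' (hEeq ▸ inf_le_left : E ≤ Y ⊓ stabilizer G a)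
  rw [r1] at c1
  rw [r2, D.Ecard] at c2
  rw [← c1, ← c2, mul_assoc]

theorem block_dvd (D : ZT a b Q Z E t q) {f : G} (hf : f ∈ Z) (hfix : t • (f • b) = f • b) :
    q + 1 ∣ Fintype.card Ω := by
  have h1 : Nat.card (stabSet G (blk a b Z)) ∣ Nat.card G := Subgroup.card_subgroup_dvd_card _
  rw [card_Y D hf hfix, card_group D.h2 D.hab, ← D.hE, D.Ecard, ← D.Qcard] at h1
  have hq := D.hq
  have h2 : (q + 1) * q ∣ (Nat.card Q + 1) * (Nat.card Q + 1 - 1) :=
    Nat.dvd_of_mul_dvd_mul_right (by omega) h1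
  rw [Nat.add_sub_cancel] at h2
  have h3 : q + 1 ∣ (Nat.card Q + 1) * Nat.card Q := (Dvd.intro _ rfl).trans h2
  obtain ⟨k, hk⟩ := IsPGroup.iff_card.mp D.Q2
  have hcop : Nat.Coprime (q + 1) (Nat.card Q) := by
    rw [hk]
    apply Nat.Coprime.pow_right
    rw [Nat.coprime_two_right]
    exact D.hqe.add_one
  rw [← D.Qcard]
  exact hcop.dvd_of_dvd_mul_right h3

end Cfsg.Agent.Lib.Helper69.Suz3
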