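import Mathlib
import Cfsg.Agent.Lib.Helper69.Suz3Base

set_option autoImplicit false
set_option linter.unusedVariables false
set_option linter.unusedSectionVars false

/-! SUZ3 ladder, rung FIVE. -/

namespace Cfsg.Agent.Lib.Helper69.Suz3

open MulAction Subgroup Cfsg.Agent.Lib.Helper32.Suz Cfsg.Agent.Lib.Helper54.Zass

variable {G Ω : Type*} [Group G] [Finite G] [MulAction G Ω] [Fintype Ω]
  {a b : Ω} {Q Z E : Subgroup G} {t : G} {q : ℕ}

theorem five_conj_pow {f y : G} (h : f⁻¹ * y * f = y ^ 2) (n : ℕ) :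
    f⁻¹ * y ^ n * f = (y ^ n) ^ 2 := by
  have e : f⁻¹ * y ^ n * f = (f⁻¹ * y * f) ^ n := by
    have := (conj_pow (a := f⁻¹) (b := y) (i := n)).symm
    rwa [inv_inv] at this
  rw [e, h, ← pow_mul, ← pow_mul, mul_comm]

theorem five_dvd (D : ZT a b Q Z E t q) {f z : G} (hf : f ∈ Q) (hz : z ∈ Z) (hz1 : z ≠ 1)
    (hhalf : f⁻¹ * (t * z) * f = (t * z) ^ 2) (hf4 : f ^ 4 = 1) (hf2 : f * f ≠ 1) :
    5 ∣ Fintype.card Ω := by
  obtain ⟨y, hy⟩ : ∃ y, y = t * z := ⟨_, rfl⟩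
  rw [← hy] at hhalf
  have hya : y • a = b := by
    rw [hy, mul_smul, Q_fix D (Z_le_Q D hz), D.ta]
  have hy1 : y ≠ 1 := by
    intro e
    rw [e, one_smul] at hya
    exact D.hab hya
  -- conjugation by `f * f`
  have h2 : ∀ n : ℕ, (f * f)⁻¹ * y ^ n * (f * f) = y ^ (4 * n) := by
    intro n
    calc (f * f)⁻¹ * y ^ n * (f * f) = f⁻¹ * (f⁻¹ * y ^ n * f) * f := by group
      _ = f⁻¹ * y ^ (n * 2) * f := by rw [five_conj_pow hhalf, ← pow_mul]
      _ = y ^ (4 * n) := by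
          rw [five_conj_pow hhalf, ← pow_mul]
          congr 1; ring
  have hff4 : (f * f) * (f * f) = 1 := by
    rw [← hf4, ← pow_two, ← pow_two, ← pow_mul]
  have h16 : y ^ 16 = y := by
    have e1 : (f * f)⁻¹ * y * (f * f) = y ^ 4 := by
      have := h2 1
      rwa [pow_one, mul_one] at this
    have e2 : (f * f)⁻¹ * y ^ 4 * (f * f) = y ^ 16 := h2 4
    rw [← e1] at e2
    calc y ^ 16 = (f * f)⁻¹ * ((f * f)⁻¹ * y * (f * f)) * (f * f) := e2.symm
      _ = ((f * f) * (f * f))⁻¹ * y * ((f * f) * (f * f)) := by group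
      _ = y := by rw [hff4]; group
  have h15 : y ^ 15 = 1 := by
    have : y ^ 15 * y = 1 * y := by rw [← pow_succ, one_mul]; exact h16
    exact mul_right_cancel this
  have hffZ : f * f ∈ Z := (D.Zmem _).2 ⟨Q.mul_mem hf hf, hff4⟩
  have h5Q : y ^ 5 ∈ Q := by
    apply mem_Q_of_commute D hffZ hf2
    have e1 : (f * f)⁻¹ * y ^ 5 * (f * f) = y ^ 20 := h2 5
    have e2 : y ^ 20 = y ^ 5 := by
      calc y ^ 20 = y ^ 15 * y ^ 5 := by rw [← pow_add]
        _ = y ^ 5 := by rw [h15, one_mul]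
    rw [e2] at e1
    calc y ^ 5 * (f * f) = (f * f) * ((f * f)⁻¹ * y ^ 5 * (f * f)) := by group
      _ = (f * f) * y ^ 5 := by rw [e1]
  have h5 : y ^ 5 = 1 := by
    obtain ⟨k, hk⟩ := D.Q2 ⟨y ^ 5, h5Q⟩
    have hk' : (y ^ 5) ^ (2 ^ k) = 1 := congrArg Subtype.val hk
    have h3 : (y ^ 5) ^ 3 = 1 := by rw [← pow_mul]; exact h15
    have d1 : orderOf (y ^ 5) ∣ 2 ^ k := orderOf_dvd_of_pow_eq_one hk'
    have d2 : orderOf (y ^ 5) ∣ 3 := orderOf_dvd_of_pow_eq_one h3
    have hcop : Nat.Coprime (2 ^ k) 3 := Nat.Coprime.pow_left k (by norm_num)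
    have := Nat.eq_one_of_dvd_coprimes hcop d1 d2
    exact orderOf_eq_one_iff.1 this
  have : Fact (Nat.Prime 5) := ⟨by norm_num⟩
  have ho : orderOf y = 5 := orderOf_eq_prime h5 hy1
  have hf1 : f ≠ 1 := by
    intro e
    rw [e, one_mul] at hf2
    exact hf2 rfl
  have hfpf : ∀ c : Ω, y • c ≠ c := by
    intro c hc
    have hca : c ≠ a := by
      intro e
      rw [e, hya] at hc
      exact D.hab hc.symm
    have hstep : ∀ d : Ω, y • d = d → y • (f • d) = f • d := by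
      intro d hd
      have e1 : y * f = f * y ^ 2 := by
        rw [← hhalf]; group
      rw [← mul_smul, e1, mul_smul, pow_two, mul_smul, hd, hd]
    have hc1 := hstep c hc
    have hc2 := hstep _ hc1
    apply hy1
    apply D.h3 y c (f • c) (f • f • c) _ _ _ hc hc1 hc2
    · intro e
      exact hca (D.Qfix f hf hf1 c e.symm)
    · intro e
      exact hca (D.Qfix f hf hf1 c (smul_left_cancel f e).symm)
    · intro e
      rw [← mul_smul] at e
      exact hca (D.Qfix _ (Q.mul_mem hf hf) hf2 c e.symm)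
  have hpg : IsPGroup 5 (zpowers y) := by
    apply IsPGroup.of_card (n := 1)
    rw [Nat.card_zpowers, ho, pow_one]
  have hmod := hpg.card_modEq_card_fixedPoints Ω
  have hempty : IsEmpty (fixedPoints (zpowers y) Ω) := by
    constructor
    rintro ⟨c, hc⟩
    exact hfpf c (hc ⟨y, mem_zpowers y⟩)
  rw [Nat.card_of_isEmpty (α := fixedPoints (zpowers y) Ω), Nat.card_eq_fintype_card] at hmod
  exact (Nat.modEq_zero_iff_dvd).1 hmod

end Cfsg.Agent.Lib.Helper69.Suz3
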