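import Mathlib
import Cfsg.Agent.Lib.Helper69.Suz3Base

set_option autoImplicit false
set_option linter.unusedVariables false
set_option linter.unusedSectionVars false

/-! SUZ3 ladder, rung HALV. -/

namespace Cfsg.Agent.Lib.Helper69.Suz3

open MulAction Subgroup Cfsg.Agent.Lib.Helper32.Suz Cfsg.Agent.Lib.Helper54.Zass

variable {G Ω : Type*} [Group G] [Finite G] [MulAction G Ω] [Fintype Ω]
  {a b : Ω} {Q Z E : Subgroup G} {t : G} {q : ℕ}

theorem halving (D : ZT a b Q Z E t q) :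
    ∃ f ∈ Q, ∃ z ∈ Z, z ≠ 1 ∧ t • (f • b) = f • b ∧ f⁻¹ * (t * z) * f = (t * z) ^ 2 := by
  have ht1 := t_ne_one D
  have htt := D.tt
  have hti := inv_of_sq D.tt
  obtain ⟨p0, hp0⟩ := exists_fix D D.tt ht1
  have hp0a : p0 ≠ a := by
    intro e
    rw [e, D.ta] at hp0
    exact D.hab hp0.symm
  obtain ⟨f, hf, hfb⟩ := Q_trans D D.hab.symm hp0a
  obtain ⟨z, hz⟩ : ∃ z, z = t * (f⁻¹ * t * f) * t := ⟨_, rfl⟩
  have htzt : t * z * t = f⁻¹ * t * f := by
    calc t * z * t = (t * t) * (f⁻¹ * t * f) * (t * t) := by rw [hz]; group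
      _ = f⁻¹ * t * f := by rw [htt, one_mul, mul_one]
  have hzz : z * z = 1 := by
    calc z * z = t * (f⁻¹ * t * f) * (t * t) * (f⁻¹ * t * f) * t := by rw [hz]; group
      _ = t * (f⁻¹ * t * f) * 1 * (f⁻¹ * t * f) * t := by rw [htt]
      _ = t * f⁻¹ * (t * t) * f * t := by group
      _ = t * f⁻¹ * 1 * f * t := by rw [htt]
      _ = t * t := by group
      _ = 1 := htt
  have hza : z • a = a := by
    rw [hz, mul_smul, mul_smul, mul_smul, mul_smul, D.ta, hfb, hp0, ← hfb, inv_smul_smul, D.tb]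
  have hzZ := mem_Z_of_fix D hzz hza
  have hz1 : z ≠ 1 := by
    intro e
    rw [e, mul_one, htt] at htzt
    apply ht1
    calc t = f * (f⁻¹ * t * f) * f⁻¹ := by group
      _ = 1 := by rw [← htzt]; group
  have hzi := inv_of_sq hzz
  refine ⟨f, hf, z, hzZ, hz1, by rw [hfb, hp0], ?_⟩
  obtain ⟨y, hy⟩ : ∃ y, y = t * z := ⟨_, rfl⟩
  rw [← hy]
  obtain ⟨j, hj⟩ : Odd (orderOf y) := hy ▸ odd_order_mul D D.tt hzz ht1 hz1 hp0 hza hp0a
  have hyi : y⁻¹ = z * t := by rw [hy, mul_inv_rev, hzi, hti]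
  have htyt : t * y * t⁻¹ = y⁻¹ := by
    rw [hyi, hti, hy, ← mul_assoc, htt, one_mul]
  have htyj : t * y ^ j * t = (y ^ j)⁻¹ := by
    have e2 : t * y ^ j * t⁻¹ = (t * y * t⁻¹) ^ j := (conj_pow).symm
    rw [htyt, inv_pow, hti] at e2
    exact e2
  have hym : y ^ (2 * j + 1) = 1 := hj ▸ pow_orderOf_eq_one y
  have hy2j : y ^ j * y ^ j = y⁻¹ := by
    apply eq_inv_of_mul_eq_one_left
    rw [← pow_add, ← pow_succ]
    have : j + j + 1 = 2 * j + 1 := by ring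
    rw [this]; exact hym
  obtain ⟨s, hs⟩ : ∃ s, s = y ^ j * t := ⟨_, rfl⟩
  have hss : s * s = 1 := by
    calc s * s = y ^ j * (t * y ^ j * t) := by rw [hs]; group
      _ = 1 := by rw [htyj, mul_inv_cancel]
  have hsts : s * t * s = z := by
    calc s * t * s = y ^ j * (t * t) * y ^ j * t := by rw [hs]; group
      _ = (y ^ j * y ^ j) * t := by rw [htt, mul_one]
      _ = z := by rw [hy2j, hyi, mul_assoc, htt, mul_one]
  have hsi := inv_of_sq hss
  obtain ⟨u, hu⟩ : ∃ u, u = s * f * t := ⟨_, rfl⟩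
  have hui : u⁻¹ = t * f⁻¹ * s := by
    rw [hu, mul_inv_rev, mul_inv_rev, hti, hsi, mul_assoc]
  have huz : u * z * u⁻¹ = z := by
    calc u * z * u⁻¹ = s * (f * (t * z * t) * f⁻¹) * s := by rw [hui, hu]; group
      _ = s * t * s := by rw [htzt]; group
      _ = z := hsts
  have huQ : u ∈ Q := mem_Q_of_commute D hzZ hz1 (mul_inv_eq_iff_eq_mul.1 huz)
  have hs1 : s = u * t * f⁻¹ := by
    calc s = s * f * (t * t) * f⁻¹ := by rw [htt]; group
      _ = u * t * f⁻¹ := by rw [hu]; group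
  have hs2 : s = f * t * u⁻¹ := by
    calc s = s⁻¹ := hsi.symm
      _ = (u * t * f⁻¹)⁻¹ := by rw [← hs1]
      _ = f * t * u⁻¹ := by rw [mul_inv_rev, mul_inv_rev, inv_inv, hti, mul_assoc]
  have huf : u = f := by
    apply Q_free D huQ hf D.hab.symm
    have e1 : s • a = u • b := by
      rw [hs1, mul_smul, mul_smul, Q_fix D (Q.inv_mem hf), D.ta]
    have e2 : s • a = f • b := by
      rw [hs2, mul_smul, mul_smul, Q_fix D (Q.inv_mem huQ), D.ta]
    exact e1.symm.trans e2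
  have hsf : s = f * t * f⁻¹ := by rw [hs1, huf]
  have hfz : f * z * f⁻¹ = z := by
    rw [← D.Zcen z hzZ f hf, mul_inv_cancel_right]
  have hfy : f * y * f⁻¹ = y ^ (j + 1) := by
    calc f * y * f⁻¹ = (f * t * f⁻¹) * (f * z * f⁻¹) := by rw [hy]; group
      _ = y ^ j * t * z := by rw [← hsf, hfz, hs]
      _ = y ^ (j + 1) := by rw [mul_assoc, ← hy, pow_succ]
  have hfy2 : f * y ^ 2 * f⁻¹ = y := by
    have e2 : f * y ^ 2 * f⁻¹ = (f * y * f⁻¹) ^ 2 := (conj_pow).symm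
    rw [e2, hfy, ← pow_mul]
    have : (j + 1) * 2 = (2 * j + 1) + 1 := by ring
    rw [this, pow_succ, hym, one_mul]
  calc f⁻¹ * y * f = f⁻¹ * (f * y ^ 2 * f⁻¹) * f := by rw [hfy2]
    _ = y ^ 2 := by group

end Cfsg.Agent.Lib.Helper69.Suz3
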