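import Mathlib
import Cfsg.Agent.Lib.Helper73.BSW.Defs
import Cfsg.Agent.Lib.Helper91.BSWOf
import Cfsg.Agent.Lib.Helper12.Card
import Cfsg.Agent.S3277

set_option autoImplicit false
set_option linter.unusedVariables false
set_option linter.unusedSectionVars false

/-! BSW ladder, rung M2: the case `|K| = 2` (`G` is `A₄` or `A₅`). -/

namespace Cfsg.Agent.Lib.Helper69.BSW

open Subgroup Cfsg.Agent.Lib.Helper73.BSW

variable {G : Type*} [Group G] [Finite G] {K H : Subgroup G} {t : G}

theorem index_centralizer_eq_card_conj (t : G) :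
    (centralizer ({t} : Set G)).index = Nat.card {z : G // IsConj t z} := by
  unfold Subgroup.index
  let f : G ⧸ centralizer ({t} : Set G) → {z : G // IsConj t z} :=
    Quotient.lift (fun g : G => (⟨g * t * g⁻¹, isConj_iff.2 ⟨g, rfl⟩⟩ : {z : G // IsConj t z})) (by
      intro a b hab
      have h1 : a⁻¹ * b ∈ centralizer ({t} : Set G) := QuotientGroup.leftRel_apply.1 hab
      rw [mem_centralizer_singleton_iff] at h1
      apply Subtype.ext
      show a * t * a⁻¹ = b * t * b⁻¹
      calc a * t * a⁻¹ = a * (t * (a⁻¹ * b)) * b⁻¹ := by group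
        _ = a * (a⁻¹ * b * t) * b⁻¹ := by rw [h1]
        _ = b * t * b⁻¹ := by group)
  apply Nat.card_congr
  refine Equiv.ofBijective f ⟨?_, ?_⟩
  · intro x y
    induction x using Quotient.inductionOn with
    | _ a =>
      induction y using Quotient.inductionOn with
      | _ b =>
        intro hab
        have h1 : a * t * a⁻¹ = b * t * b⁻¹ := congrArg Subtype.val hab
        apply Quotient.sound
        apply QuotientGroup.leftRel_apply.2
        rw [mem_centralizer_singleton_iff]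
        calc a⁻¹ * b * t = a⁻¹ * (b * t * b⁻¹) * b := by group
          _ = a⁻¹ * (a * t * a⁻¹) * b := by rw [h1]
          _ = t * (a⁻¹ * b) := by group
  · rintro ⟨z, hz⟩
    obtain ⟨g, hg⟩ := isConj_iff.1 hz
    exact ⟨Quotient.mk _ g, Subtype.ext hg⟩

theorem mem_K (B : Cfg K H t) (h : Nat.card K = 2) {c : G} (hc : c ∈ K) : c = 1 ∨ c = t := by
  by_cases hc1 : c = 1
  · left; exact hc1
  · right
    obtain ⟨z, -, hz⟩ := (Nat.card_eq_two_iff' (1 : K)).1 h
    have ht1 : t ≠ 1 := by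
      intro e
      have := B.ot
      rw [e, orderOf_one] at this
      omega
    have e1 := hz ⟨c, hc⟩ (fun e => hc1 (congrArg Subtype.val e))
    have e2 := hz ⟨t, B.tK⟩ (fun e => ht1 (congrArg Subtype.val e))
    exact congrArg Subtype.val (e1.trans e2.symm)

theorem sq_of_mem_H (B : Cfg K H t) (h : Nat.card K = 2) {c : G} (hc : c ∈ H) : c ^ 2 = 1 := by
  by_cases hcK : c ∈ K
  · rcases mem_K B h hcK with rfl | rfl
    · exact one_pow 2
    · rw [← B.ot]; exact pow_orderOf_eq_one c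
  · rw [← B.invol c hc hcK]; exact pow_orderOf_eq_one c

/-- elements commuting with an involution have square `1`. -/
theorem sq_eq_one_of_comm (B : Cfg K H t) (h : Nat.card K = 2) {z x : G} (hz : orderOf z = 2)
    (hxz : x * z = z * x) : x ^ 2 = 1 := by
  obtain ⟨g, hg⟩ := isConj_iff.1 (B.cj z hz)
  have h1 : g⁻¹ * x * g ∈ H := by
    rw [← B.cent, mem_centralizer_singleton_iff]
    have ht : t = g⁻¹ * z * g := by rw [← hg]; group
    rw [ht]
    calc g⁻¹ * x * g * (g⁻¹ * z * g) = g⁻¹ * (x * z) * g := by group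
      _ = g⁻¹ * (z * x) * g := by rw [hxz]
      _ = g⁻¹ * z * g * (g⁻¹ * x * g) := by group
  have h2 := sq_of_mem_H B h h1
  have h3 : (g⁻¹ * x * g) ^ 2 = g⁻¹ * x ^ 2 * g := by
    rw [pow_two, pow_two]; group
  rw [h3] at h2
  calc x ^ 2 = g * (g⁻¹ * x ^ 2 * g) * g⁻¹ := by group
    _ = 1 := by rw [h2]; group

theorem eq_one_of_sq_of_odd {Q : Subgroup G} (hodd : Odd (Nat.card Q)) {y : G} (hy : y ∈ Q)
    (hy2 : y ^ 2 = 1) : y = 1 := by
  have h1 : orderOf y ∣ 2 := orderOf_dvd_of_pow_eq_one hy2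
  have h2 : orderOf y ∣ Nat.card Q := Subgroup.orderOf_dvd_natCard Q hy
  rcases (Nat.dvd_prime Nat.prime_two).1 h1 with h3 | h3
  · exact orderOf_eq_one_iff.1 h3
  · rw [h3] at h2
    exact absurd (even_iff_two_dvd.2 h2) (Nat.not_even_iff_odd.2 hodd)

/-- an involution normalizing an abelian subgroup of odd order inverts it. -/
theorem inverts (B : Cfg K H t) (h : Nat.card K = 2) {Q : Subgroup G}
    (hQc : ∀ a ∈ Q, ∀ b ∈ Q, a * b = b * a) (hodd : Odd (Nat.card Q)) {z : G}
    (hz : orderOf z = 2) (hzQ : z ∈ normalizer (Q : Set G)) : ∀ x ∈ Q, z * x * z⁻¹ = x⁻¹ := by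
  intro x hx
  have hz2 : z * z = 1 := by rw [← pow_two, ← hz]; exact pow_orderOf_eq_one z
  have hzi : z⁻¹ = z := inv_eq_of_mul_eq_one_left hz2
  have hx' : z * x * z⁻¹ ∈ Q := (mem_normalizer_iff.1 hzQ x).1 hx
  have hy : x * (z * x * z⁻¹) ∈ Q := Q.mul_mem hx hx'
  have hcomm : x * (z * x * z⁻¹) * z = z * (x * (z * x * z⁻¹)) := by
    rw [hQc x hx _ hx', hzi]
    calc z * x * z * x * z = z * x * z * x * z := rfl
      _ = z * (x * (z * x * z)) := by group
      _ = z * ((z * x * z) * x) := by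
          have := hQc x hx _ hx'
          rw [hzi] at this
          rw [this]
  have h1 := eq_one_of_sq_of_odd hodd hy (sq_eq_one_of_comm B h hz hcomm)
  exact (inv_eq_of_mul_eq_one_right h1).symm

theorem normalizer_ne_top (B : Cfg K H t) (h : Nat.card K = 2) {Q : Subgroup G}
    (hQc : ∀ a ∈ Q, ∀ b ∈ Q, a * b = b * a) (hodd : Odd (Nat.card Q)) (hQ1 : Q ≠ ⊥) :
    normalizer (Q : Set G) ≠ ⊤ := by
  intro htop
  obtain ⟨s, hsH, hsK⟩ := B.ex
  have hs2 : orderOf s = 2 := B.invol s hsH hsK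
  have htsK : t * s ∉ K := by
    intro hc
    apply hsK
    have := K.mul_mem (K.inv_mem B.tK) hc
    rwa [inv_mul_cancel_left] at this
  have hts2 : orderOf (t * s) = 2 := B.invol _ (H.mul_mem (B.KH B.tK) hsH) htsK
  obtain ⟨x, hx, hx1⟩ : ∃ x ∈ Q, x ≠ 1 := by
    by_contra hcon
    push Not at hcon
    exact hQ1 ((eq_bot_iff_forall Q).2 hcon)
  have e1 := inverts B h hQc hodd B.ot (htop ▸ mem_top t) x⁻¹ (Q.inv_mem hx)
  have e2 := inverts B h hQc hodd hs2 (htop ▸ mem_top s) x hx
  have e3 := inverts B h hQc hodd hts2 (htop ▸ mem_top (t * s)) x hx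
  have e4 : t * s * x * (t * s)⁻¹ = x := by
    calc t * s * x * (t * s)⁻¹ = t * (s * x * s⁻¹) * t⁻¹ := by group
      _ = t * x⁻¹ * t⁻¹ := by rw [e2]
      _ = x := by rw [e1, inv_inv]
  rw [e4] at e3
  apply hx1
  apply eq_one_of_sq_of_odd hodd hx
  rw [pow_two]
  nth_rewrite 1 [e3]
  exact inv_mul_cancel x

theorem eq_zpowers_of_prime {q : ℕ} [hq : Fact q.Prime] {X : Subgroup G} (hX : Nat.card X = q)
    {a : G} (ha : a ∈ X) (ha1 : a ≠ 1) : X = zpowers a := by
  symm
  apply Subgroup.eq_of_le_of_card_ge (zpowers_le.2 ha)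
  rw [hX, Nat.card_zpowers]
  have h1 : orderOf a ∣ q := hX ▸ Subgroup.orderOf_dvd_natCard X ha
  rcases (Nat.dvd_prime hq.out).1 h1 with h | h
  · exact absurd (orderOf_eq_one_iff.1 h) ha1
  · exact h.ge

theorem prime_facts (B : Cfg K H t) (h : Nat.card K = 2) {q : ℕ} [hq : Fact q.Prime] (hq2 : q ≠ 2)
    {Q : Subgroup G} (hQ : Nat.card Q = q) :
    (∀ a ∈ Q, ∀ b ∈ Q, a * b = b * a) ∧ Odd (Nat.card Q) ∧ Q ≠ ⊥ ∧
      ∀ x ∈ Q, x ≠ 1 → Q ≤ centralizer ({x} : Set G) ∧
        centralizer ({x} : Set G) ≤ normalizer (Q : Set G) ∧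
        Odd (Nat.card (centralizer ({x} : Set G))) := by
  have hodd : Odd (Nat.card Q) := hQ ▸ hq.out.odd_of_ne_two hq2
  have hQ1 : Q ≠ ⊥ := by
    intro e
    rw [e, card_bot] at hQ
    exact hq.out.one_lt.ne hQ
  have hcomm : ∀ a ∈ Q, ∀ b ∈ Q, a * b = b * a := by
    intro a ha b hb
    by_cases ha1 : a = 1
    · rw [ha1, one_mul, mul_one]
    · rw [eq_zpowers_of_prime hQ ha ha1] at hb
      obtain ⟨i, rfl⟩ := mem_zpowers_iff.1 hb
      exact ((Commute.refl a).zpow_right i).eq
  refine ⟨hcomm, hodd, hQ1, ?_⟩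
  intro x hx hx1
  refine ⟨?_, ?_, ?_⟩
  · intro y hy
    rw [mem_centralizer_singleton_iff]
    exact hcomm y hy x hx
  · intro c hc
    rw [mem_centralizer_singleton_iff] at hc
    have hfix : ∀ y ∈ Q, c * y * c⁻¹ = y := by
      intro y hy
      rw [eq_zpowers_of_prime hQ hx hx1] at hy
      obtain ⟨i, rfl⟩ := mem_zpowers_iff.1 hy
      rw [((show Commute c x from hc).zpow_right i).eq, mul_inv_cancel_right]
    rw [mem_normalizer_iff]
    intro y
    constructor
    · intro hy
      rw [hfix y hy]; exact hy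
    · intro hy
      have h1 := hfix _ hy
      have h2 : c * y * c⁻¹ = y := by
        have : c * (c * y * c⁻¹) * c⁻¹ = c * y * c⁻¹ := h1
        have h3 : c * (c * y * c⁻¹) = c * y := mul_right_cancel this
        exact mul_left_cancel h3
      rwa [h2] at hy
  · rw [← Nat.not_even_iff_odd]
    intro heven
    have : Fact (Nat.Prime 2) := ⟨Nat.prime_two⟩
    obtain ⟨z, hz⟩ := exists_prime_orderOf_dvd_card' (G := centralizer ({x} : Set G)) 2
      (even_iff_two_dvd.1 heven)
    have hz2 : orderOf (z : G) = 2 := by rw [Subgroup.orderOf_coe]; exact hz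
    have hzx := mem_centralizer_singleton_iff.1 z.2
    exact hx1 (eq_one_of_sq_of_odd hodd hx (sq_eq_one_of_comm B h hz2 hzx.symm))

theorem sylow_card_of {p m : ℕ} [hp : Fact p.Prime] (hG : Nat.card G = p * m) (hm : ¬ p ∣ m)
    (P : Sylow p G) : Nat.card P = p := by
  obtain ⟨k, hk⟩ := IsPGroup.iff_card.mp P.2
  have h1 : (P : Subgroup G).index * Nat.card P = p * m := hG ▸ (P : Subgroup G).index_mul_card
  have h2 := P.not_dvd_index
  rw [hk] at h1 ⊢
  rcases k with _ | _ | k
  · exfalso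
    rw [pow_zero, mul_one] at h1
    exact h2 (h1 ▸ Dvd.intro _ rfl)
  · rw [zero_add, pow_one]
  · exfalso
    apply hm
    have h3 : p * ((P : Subgroup G).index * p ^ k * p) = p * m := by
      rw [← h1]; ring
    have h4 := Nat.eq_of_mul_eq_mul_left hp.out.pos h3
    exact h4 ▸ Dvd.intro_left _ rfl

theorem no_complement (B : Cfg K H t) (h : Nat.card K = 2) : ¬ Cfsg.HasNormalPComplement 2 G := by
  rintro ⟨P, N, hN, hc⟩
  have : Fact (Nat.Prime 2) := ⟨Nat.prime_two⟩
  obtain ⟨s, hsH, hsK⟩ := B.ex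
  have hs2 : orderOf s = 2 := B.invol s hsH hsK
  have hNodd : ¬ 2 ∣ Nat.card N := by
    rw [← hc.index_eq_card]
    exact P.not_dvd_index
  -- `P` has exponent 2
  have h2G : 2 ∣ Nat.card G := B.ot ▸ orderOf_dvd_natCard t
  have hP1 : Nontrivial P := by
    rw [← Finite.one_lt_card_iff_nontrivial]
    have h1 : 2 ∣ Nat.card P := by
      by_contra hcon
      have h3 : (P : Subgroup G).index * Nat.card P = Nat.card G := (P : Subgroup G).index_mul_card
      rw [← h3] at h2G
      rcases (Nat.Prime.dvd_mul Nat.prime_two).1 h2G with h4 | h4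
      · exact P.not_dvd_index h4
      · exact hcon h4
    exact lt_of_lt_of_le (by norm_num) (Nat.le_of_dvd Nat.card_pos h1)
  have hZ : Nontrivial (center P) := P.2.center_nontrivial
  have h2Z : 2 ∣ Nat.card (center P) := by
    obtain ⟨k, hk⟩ := IsPGroup.iff_card.mp (P.2.to_subgroup (center P))
    have h1 : 1 < Nat.card (center P) := Finite.one_lt_card_iff_nontrivial.2 hZ
    rw [hk] at h1 ⊢
    rcases k with _ | k
    · simp at h1
    · exact Dvd.intro_left _ (pow_succ 2 k).symm
  obtain ⟨z, hz⟩ := exists_prime_orderOf_dvd_card' (G := center P) 2 h2Z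
  have hz2 : orderOf ((z : P) : G) = 2 := by
    rw [Subgroup.orderOf_coe, Subgroup.orderOf_coe]; exact hz
  have hPexp : ∀ x ∈ (P : Subgroup G), x ^ 2 = 1 := by
    intro x hx
    apply sq_eq_one_of_comm B h hz2
    have := mem_center_iff.1 z.2 ⟨x, hx⟩
    exact congrArg Subtype.val this
  have hPcomm : ∀ x ∈ (P : Subgroup G), ∀ y ∈ (P : Subgroup G), x * y = y * x := by
    intro x hx y hy
    have h1 := hPexp x hx
    have h2 := hPexp y hy
    have h3 := hPexp (x * y) (mul_mem hx hy)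
    rw [pow_two] at h1 h2 h3
    have hxi : x⁻¹ = x := inv_eq_of_mul_eq_one_left h1
    have hyi : y⁻¹ = y := inv_eq_of_mul_eq_one_left h2
    have hxyi : (x * y)⁻¹ = x * y := inv_eq_of_mul_eq_one_left h3
    calc x * y = (x * y)⁻¹ := hxyi.symm
      _ = y⁻¹ * x⁻¹ := mul_inv_rev x y
      _ = y * x := by rw [hxi, hyi]
  have hπ : ∀ a : G, ∃ p ∈ (P : Subgroup G), (QuotientGroup.mk a : G ⧸ N) = QuotientGroup.mk p := by
    intro a
    obtain ⟨⟨n, p⟩, hnp⟩ := hc.2 a
    refine ⟨p.1, p.2, ?_⟩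
    have hnp' : n.1 * p.1 = a := hnp
    rw [← hnp', QuotientGroup.mk_mul, (QuotientGroup.eq_one_iff n.1).2 n.2, one_mul]
  have hcomm : ∀ a b : G, (QuotientGroup.mk a : G ⧸ N) * QuotientGroup.mk b =
      QuotientGroup.mk b * QuotientGroup.mk a := by
    intro a b
    obtain ⟨p, hp, hpa⟩ := hπ a
    obtain ⟨p', hp', hpb⟩ := hπ b
    rw [hpa, hpb, ← QuotientGroup.mk_mul, ← QuotientGroup.mk_mul, hPcomm p hp p' hp']
  obtain ⟨g, hg⟩ := isConj_iff.1 (B.cj s hs2)
  have h1 : (QuotientGroup.mk s : G ⧸ N) = QuotientGroup.mk t := by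
    rw [← hg, QuotientGroup.mk_mul, QuotientGroup.mk_mul, hcomm g t, mul_assoc,
      ← QuotientGroup.mk_mul, mul_inv_cancel, QuotientGroup.mk_one, mul_one]
  have h2 : s⁻¹ * t ∈ N := QuotientGroup.eq.1 h1
  have h3 : s⁻¹ * t ∉ K := by
    intro hcon
    apply hsK
    have := K.mul_mem B.tK (K.inv_mem hcon)
    simpa using this
  have h4 : orderOf (s⁻¹ * t) = 2 := B.invol _ (H.mul_mem (H.inv_mem hsH) (B.KH B.tK)) h3
  exact hNodd (h4 ▸ Subgroup.orderOf_dvd_natCard N h2)

theorem card_G (B : Cfg K H t) (h : Nat.card K = 2) : Nat.card G = 12 ∨ Nat.card G = 60 := by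
  have : Fact (Nat.Prime 2) := ⟨Nat.prime_two⟩
  have hH4 : Nat.card H = 4 := by rw [Cfsg.Agent.Lib.Helper91.BSW.card_H B, h]
  obtain ⟨s, hsH, hsK⟩ := B.ex
  have hs2 : orderOf s = 2 := B.invol s hsH hsK
  by_cases hE : ∃ E : Subgroup G, E.Normal ∧ Cfsg.IsElementaryAbelian 2 E ∧ Nat.card E = 4
  · left
    obtain ⟨E, hEn, hEe, hE4⟩ := hE
    obtain ⟨z, hzE, hz1⟩ : ∃ z ∈ E, z ≠ 1 := by
      by_contra hcon
      push Not at hcon
      rw [(eq_bot_iff_forall E).2 hcon, card_bot] at hE4
      omega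
    have hz2 : orderOf z = 2 := orderOf_eq_prime (hEe.2 z hzE) hz1
    obtain ⟨g, hg⟩ := isConj_iff.1 (B.cj z hz2)
    have htE : t ∈ E := by
      have := hEn.conj_mem z hzE g⁻¹
      rw [← hg] at this
      simpa [mul_assoc] using this
    have hEH : E ≤ H := by
      intro e he
      rw [← B.cent, mem_centralizer_singleton_iff]
      exact congrArg Subtype.val (hEe.1.is_comm.comm ⟨e, he⟩ ⟨t, htE⟩)
    have hEeq : E = H := Subgroup.eq_of_le_of_card_ge hEH (by rw [hE4, hH4])
    have hHn : H.Normal := hEeq ▸ hEn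
    have hset : {z : G | IsConj t z} = (H : Set G) \ {1} := by
      ext z
      constructor
      · intro hz
        obtain ⟨g, hg⟩ := isConj_iff.1 hz
        refine ⟨hg ▸ hHn.conj_mem t (B.KH B.tK) g, ?_⟩
        intro hz1
        have hz1' : z = 1 := hz1
        rw [hz1'] at hg
        have ht1 : t = 1 := by
          calc t = g⁻¹ * (g * t * g⁻¹) * g := by group
            _ = 1 := by rw [hg]; group
        have := B.ot
        rw [ht1, orderOf_one] at this
        omega
      · rintro ⟨hzH, hz1⟩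
        exact B.cj z (orderOf_eq_prime (sq_of_mem_H B h hzH) hz1)
    have hidx : H.index = 3 := by
      rw [← B.cent, index_centralizer_eq_card_conj]
      have h1 : Nat.card {z : G // IsConj t z} = ({z : G | IsConj t z}).ncard := rfl
      rw [h1, hset, Set.ncard_sdiff_singleton_of_mem H.one_mem]
      have h2 : (H : Set G).ncard = Nat.card H := rfl
      rw [h2, hH4]
    rw [← H.index_mul_card, hidx, hH4]
  · right
    push Not at hE
    obtain ⟨e⟩ := Cfsg.Agent.S3277.result t B.ot (by rw [B.cent]; exact hH4)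
      (by rw [B.cent]; exact fun c hc => sq_of_mem_H B h hc) (no_complement B h) (by
        intro E hEn hEe
        refine ⟨?_, hE E hEn hEe⟩
        intro hE2
        obtain ⟨z, hzE, hz1⟩ : ∃ z ∈ E, z ≠ 1 := by
          by_contra hcon
          push Not at hcon
          rw [(eq_bot_iff_forall E).2 hcon, card_bot] at hE2
          omega
        have hz2 : orderOf z = 2 := orderOf_eq_prime (hEe.2 z hzE) hz1
        have hcent : ∀ x : G, x * z = z * x := by
          intro x
          obtain ⟨w, -, hw⟩ := (Nat.card_eq_two_iff' (1 : E)).1 hE2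
          have e1 := hw ⟨z, hzE⟩ (fun e => hz1 (congrArg Subtype.val e))
          have e2 := hw ⟨x * z * x⁻¹, hEn.conj_mem z hzE x⟩ (fun e => hz1 (by
            have := congrArg Subtype.val e
            simpa using this))
          have e3 : x * z * x⁻¹ = z := congrArg Subtype.val (e2.trans e1.symm)
          exact mul_inv_eq_iff_eq_mul.1 e3
        have hexp : ∀ x : G, x ^ 2 = 1 := fun x => sq_eq_one_of_comm B h hz2 (hcent x)
        obtain ⟨g, hg⟩ := isConj_iff.1 (B.cj s hs2)
        apply hsK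
        have h1 := hexp g
        have h2 := hexp (g * t)
        have h3 := hexp t
        rw [pow_two] at h1 h2 h3
        have hgi : g⁻¹ = g := inv_eq_of_mul_eq_one_left h1
        have : s = t := by
          rw [← hg, hgi]
          calc g * t * g = (g * t * (g * t)) * t⁻¹ := by group
            _ = t⁻¹ := by rw [h2, one_mul]
            _ = t := inv_eq_of_mul_eq_one_left h3
        rw [this]
        exact B.tK)
    rw [Nat.card_congr e.toEquiv, Nat.card_eq_fintype_card]
    have h1 := two_mul_card_alternatingGroup (α := Fin 5)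
    rw [Fintype.card_perm, Fintype.card_fin] at h1
    have h2 : Nat.factorial 5 = 120 := by decide
    omega

/-- a Sylow `q`-subgroup of prime order `q` (odd): index of its normalizer. -/
theorem normalizer_data (B : Cfg K H t) (h : Nat.card K = 2) {q : ℕ} [hq : Fact q.Prime]
    (hq2 : q ≠ 2) (P : Sylow q G) (hP : Nat.card P = q) :
    ∃ n k : ℕ, n * (q * k) = Nat.card G ∧ Nat.card (normalizer ((P : Subgroup G) : Set G)) = q * k ∧
      n % q = 1 ∧ n ≠ 1 := by
  obtain ⟨hc, hodd, hne, -⟩ := prime_facts B h hq2 (Q := (P : Subgroup G)) hP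
  obtain ⟨k, hk⟩ : q ∣ Nat.card (normalizer ((P : Subgroup G) : Set G)) := by
    have := Subgroup.card_dvd_of_le (le_normalizer (H := (P : Subgroup G)))
    rwa [hP] at this
  refine ⟨(normalizer ((P : Subgroup G) : Set G)).index, k, ?_, hk, ?_, ?_⟩
  · rw [← hk]; exact index_mul_card _
  · have h1 := card_sylow_modEq_one q G
    rw [P.card_eq_index_normalizer] at h1
    have h2 : 1 % q = 1 := Nat.mod_eq_of_lt hq.out.one_lt
    have h3 : (normalizer ((P : Subgroup G) : Set G)).index % q = 1 % q := h1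
    rw [h3, h2]
  · intro e
    exact normalizer_ne_top B h hc hodd hne (index_eq_one.1 e)

theorem concl_of_card_two (B : Cfg K H t) (h : Nat.card K = 2) : Concl G := by
  rcases card_G B h with hG | hG
  · have : Fact (Nat.Prime 3) := ⟨Nat.prime_three⟩
    obtain ⟨P⟩ : Nonempty (Sylow 3 G) := inferInstance
    have hP : Nat.card P = 3 := sylow_card_of (m := 4) (by rw [hG]) (by decide) P
    obtain ⟨n, k, h1, h2, h3, h4⟩ := normalizer_data B h (by decide) P hP
    have hk : k = 1 := by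
      rw [hG] at h1
      have hn : n ≤ 12 := Nat.le_of_dvd (by norm_num) (Dvd.intro _ h1)
      interval_cases n <;> omega
    have hN : normalizer ((P : Subgroup G) : Set G) = P := by
      symm
      apply Subgroup.eq_of_le_of_card_ge le_normalizer
      rw [h2, hk, hP]
    obtain ⟨hc, hodd, hne, hx⟩ := prime_facts B h (q := 3) (by decide) (Q := (P : Subgroup G)) hP
    refine ⟨P, ⊥, ?_, ?_, ?_, ?_, ?_, ?_, ?_⟩
    · rw [hG, hP]
    · intro x hxP hx1
      obtain ⟨a1, a2, -⟩ := hx x hxP hx1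
      exact le_antisymm (hN ▸ a2) a1
    · exact ⟨⟨fun a b => Subsingleton.elim _ _⟩⟩
    · rw [card_bot, hP]
    · exact inf_bot_eq _
    · rw [hN, sup_bot_eq]
    · intro X hX hX1
      exact absurd (le_bot_iff.1 hX) hX1
  · have : Fact (Nat.Prime 5) := ⟨Nat.prime_five⟩
    have : Fact (Nat.Prime 2) := ⟨Nat.prime_two⟩
    have key : ∀ P : Sylow 5 G, Nat.card P = 5 ∧
        Nat.card (normalizer ((P : Subgroup G) : Set G)) = 10 := by
      intro P
      have hP : Nat.card P = 5 := sylow_card_of (m := 12) (by rw [hG]) (by decide) P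
      obtain ⟨n, k, h1, h2, h3, h4⟩ := normalizer_data B h (by decide) P hP
      refine ⟨hP, ?_⟩
      have hk : k = 2 := by
        rw [hG] at h1
        have hn : n ≤ 60 := Nat.le_of_dvd (by norm_num) (Dvd.intro _ h1)
        interval_cases n <;> omega
      rw [h2, hk]
    obtain ⟨P₀⟩ : Nonempty (Sylow 5 G) := inferInstance
    obtain ⟨u, hu⟩ := exists_prime_orderOf_dvd_card'
      (G := normalizer ((P₀ : Subgroup G) : Set G)) 2 (by rw [(key P₀).2]; decide)
    have hu2 : orderOf (u : G) = 2 := by rw [Subgroup.orderOf_coe]; exact hu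
    obtain ⟨c, hc⟩ := isConj_iff.1 (B.cj u hu2)
    obtain ⟨P, hPdef⟩ : ∃ P : Sylow 5 G, P = c⁻¹ • P₀ := ⟨_, rfl⟩
    have htN : t ∈ normalizer ((P : Subgroup G) : Set G) := by
      have e0 : t • P = P := by
        rw [hPdef, ← mul_smul]
        have e1 : t * c⁻¹ = c⁻¹ * (u : G) := by rw [← hc]; group
        have e2 : (u : G) • P₀ = P₀ := Sylow.smul_eq_iff_mem_normalizer.2 u.2
        rw [e1, mul_smul, e2]
      exact Sylow.smul_eq_iff_mem_normalizer.1 e0
    obtain ⟨hP, hNc⟩ := key P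
    obtain ⟨hcm, hodd, hne, hx⟩ := prime_facts B h (q := 5) (by decide) (Q := (P : Subgroup G)) hP
    have hKN : K ≤ normalizer ((P : Subgroup G) : Set G) := by
      intro c hc
      rcases mem_K B h hc with rfl | rfl
      · exact one_mem _
      · exact htN
    have hdisj : (P : Subgroup G) ⊓ K = ⊥ := by
      apply disjoint_iff.1
      apply Subgroup.disjoint_of_coprime_natCard
      rw [hP, h]; decide
    refine ⟨P, K, ?_, ?_, ?_, ?_, hdisj, ?_, (Cfsg.Agent.Lib.Helper91.BSW.kprop B).1⟩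
    · rw [hG, hP]
    · intro x hxP hx1
      obtain ⟨a1, a2, a3⟩ := hx x hxP hx1
      symm
      apply Subgroup.eq_of_le_of_card_ge a1
      have d1 := Subgroup.card_dvd_of_le a1
      have d2 := Subgroup.card_dvd_of_le a2
      rw [hP] at d1 ⊢
      rw [hNc] at d2
      have hle : Nat.card (centralizer ({x} : Set G)) ≤ 10 := Nat.le_of_dvd (by norm_num) d2
      obtain ⟨j, hj⟩ := d1
      obtain ⟨i, hi⟩ := a3
      omega
    · exact ⟨⟨fun a b => Subtype.ext (B.comm a a.2 b b.2)⟩⟩
    · rw [h, hP]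
    · symm
      apply Subgroup.eq_of_le_of_card_ge (sup_le le_normalizer hKN)
      have h1 := Cfsg.Agent.Lib.Helper12.card_sup_mul_card_inf' K (P : Subgroup G) hKN
      rw [inf_comm, hdisj, card_bot, mul_one, h, hP, sup_comm] at h1
      rw [h1, hNc]

end Cfsg.Agent.Lib.Helper69.BSW
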