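import Mathlib
import Cfsg.Agent.S2119

set_option autoImplicit false

namespace Cfsg.Agent.Lib.Helper69.AutAlt

open Equiv Equiv.Perm Cfsg.Agent.S2119

variable {n : ℕ}

theorem conj_of_three (hn : 4 ≤ n) (f : MulAut (alternatingGroup (Fin n)))
    (hf3 : ∀ x : alternatingGroup (Fin n), (x : Perm (Fin n)).IsThreeCycle →
      ((f x : alternatingGroup (Fin n)) : Perm (Fin n)).IsThreeCycle) :
    ∃ s : Perm (Fin n), MulAut.conjNormal s = f := by
  classical
  obtain ⟨F, hF⟩ : ∃ F : Perm (Fin n) → Perm (Fin n),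
      ∀ (g : Perm (Fin n)) (h : g ∈ alternatingGroup (Fin n)), F g = (f ⟨g, h⟩ : Perm (Fin n)) :=
    ⟨fun g => if h : g ∈ alternatingGroup (Fin n) then (f ⟨g, h⟩ : Perm (Fin n)) else 1,
      fun g h => by simp [h]⟩
  have F3 : ∀ t : Perm (Fin n), t.IsThreeCycle → (F t).IsThreeCycle := by
    intro t ht
    rw [hF t ht.mem_alternatingGroup]
    exact hf3 ⟨t, ht.mem_alternatingGroup⟩ ht
  have Fmul : ∀ g h : Perm (Fin n), g ∈ alternatingGroup (Fin n) → h ∈ alternatingGroup (Fin n) →
      F (g * h) = F g * F h := by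
    intro g h hg hh
    rw [hF g hg, hF h hh, hF (g * h) (mul_mem hg hh)]
    have : (⟨g * h, mul_mem hg hh⟩ : alternatingGroup (Fin n)) = ⟨g, hg⟩ * ⟨h, hh⟩ := rfl
    rw [this, map_mul]
    rfl
  have F1 : F 1 = 1 := by
    rw [hF 1 (one_mem _)]
    have : (⟨1, one_mem _⟩ : alternatingGroup (Fin n)) = 1 := rfl
    rw [this, map_one]
    rfl
  have Finj : ∀ g h : Perm (Fin n), g ∈ alternatingGroup (Fin n) → h ∈ alternatingGroup (Fin n) →
      F g = F h → g = h := by
    intro g h hg hh he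
    rw [hF g hg, hF h hh] at he
    have := f.injective (Subtype.ext he)
    exact congrArg Subtype.val this
  obtain ⟨o, ho⟩ : ∃ o : Fin n, o = ⟨0, by omega⟩ := ⟨_, rfl⟩
  obtain ⟨i1, hi1⟩ : ∃ o : Fin n, o = ⟨1, by omega⟩ := ⟨_, rfl⟩
  obtain ⟨i2, hi2⟩ : ∃ o : Fin n, o = ⟨2, by omega⟩ := ⟨_, rfl⟩
  obtain ⟨i3, hi3⟩ : ∃ o : Fin n, o = ⟨3, by omega⟩ := ⟨_, rfl⟩
  have d01 : o ≠ i1 := by rw [ho, hi1]; simp
  have d02 : i2 ≠ o := by rw [ho, hi2]; simp
  have d03 : i3 ≠ o := by rw [ho, hi3]; simp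
  have d12 : i2 ≠ i1 := by rw [hi1, hi2]; simp
  have d13 : i3 ≠ i1 := by rw [hi1, hi3]; simp
  have d23 : i2 ≠ i3 := by rw [hi2, hi3]; simp
  obtain ⟨X, hX⟩ : ∃ X : Fin n → Perm (Fin n), ∀ j, X j = swap o i1 * swap i1 j := ⟨_, fun _ => rfl⟩
  have X3 : ∀ j, j ≠ o → j ≠ i1 → (X j).IsThreeCycle := by
    intro j h0 h1
    rw [hX, swap_comm o i1]
    exact isThreeCycle_swap_mul_swap_same d01.symm h1.symm h0.symm
  have XA : ∀ j, j ≠ o → j ≠ i1 → X j ∈ alternatingGroup (Fin n) :=
    fun j h0 h1 => (X3 j h0 h1).mem_alternatingGroup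
  have Xsq : ∀ j k, j ≠ o → j ≠ i1 → k ≠ o → k ≠ i1 → j ≠ k → X j * X k * (X j * X k) = 1 := by
    intro j k hj0 hj1 hk0 hk1 hjk
    rw [hX, hX]
    ext x
    simp only [coe_mul, Function.comp_apply, swap_apply_def, coe_one, id_eq]
    grind
  have Xne : ∀ j k, j ≠ o → j ≠ i1 → k ≠ o → k ≠ i1 → j ≠ k → X j * X k ≠ 1 := by
    intro j k hj0 hj1 hk0 hk1 hjk he
    have := congrArg (fun g : Perm (Fin n) => g o) he
    rw [hX, hX] at this
    simp only [coe_mul, Function.comp_apply, swap_apply_def, coe_one, id_eq] at this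
    grind
  have edge : ∀ j k, j ≠ o → j ≠ i1 → k ≠ o → k ≠ i1 → j ≠ k →
      ∃ a, F (X j) a = F (X k) a ∧ F (X j) a ≠ a := by
    intro j k hj0 hj1 hk0 hk1 hjk
    apply claimA _ _ (F3 _ (X3 j hj0 hj1)) (F3 _ (X3 k hk0 hk1))
    · intro t
      have h1 : F (X j) * F (X k) * (F (X j) * F (X k)) = 1 := by
        rw [← Fmul _ _ (XA j hj0 hj1) (XA k hk0 hk1),
          ← Fmul _ _ (mul_mem (XA j hj0 hj1) (XA k hk0 hk1)) (mul_mem (XA j hj0 hj1) (XA k hk0 hk1)),
          Xsq j k hj0 hj1 hk0 hk1 hjk, F1]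
      have := congrArg (fun g : Perm (Fin n) => g t) h1
      simpa using this
    · rw [← Fmul _ _ (XA j hj0 hj1) (XA k hk0 hk1), ← F1]
      intro he
      exact Xne j k hj0 hj1 hk0 hk1 hjk
        (Finj _ _ (mul_mem (XA j hj0 hj1) (XA k hk0 hk1)) (one_mem _) he)
  have Xinj : ∀ j k, X j = X k → j = k := by
    intro j k he
    rw [hX, hX] at he
    have := mul_left_cancel he
    have h2 := congrArg (fun g : Perm (Fin n) => g i1) this
    simpa using h2
  obtain ⟨a, ha1, ha2⟩ := edge i2 i3 d02 d12 d03 d13 d23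
  obtain ⟨b, hb⟩ : ∃ b, b = F (X i2) a := ⟨_, rfl⟩
  have hab : a ≠ b := by rw [hb]; exact ha2.symm
  have all : ∀ j, j ≠ o → j ≠ i1 → F (X j) a = b := by
    intro j hj0 hj1
    by_cases h2 : j = i2
    · rw [h2, hb]
    by_cases h3 : j = i3
    · rw [h3, hb, ha1]
    obtain ⟨c, hc1, hc2⟩ := edge j i2 hj0 hj1 d02 d12 h2
    obtain ⟨d, hd1, hd2⟩ := edge j i3 hj0 hj1 d03 d13 h3
    apply claimB (F (X i2)) (F (X i3)) (F (X j)) (F3 _ (X3 _ d02 d12)) (F3 _ (X3 _ d03 d13))
      (F3 _ (X3 _ hj0 hj1)) a b hab hb.symm (by rw [hb, ha1]) ?_ c hc1 (hc1 ▸ hc2) d hd1 (hd1 ▸ hd2)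
    intro he
    exact d23 (Xinj _ _ (Finj _ _ (XA _ d02 d12) (XA _ d03 d13) he))
  obtain ⟨s, hs⟩ : ∃ s : Fin n → Fin n, ∀ j, s j = if j = o then a else if j = i1 then b
      else F (X j) b := ⟨_, fun _ => rfl⟩
  have s0 : s o = a := by rw [hs]; simp
  have s1 : s i1 = b := by rw [hs]; simp [d01.symm]
  have s2 : ∀ j, j ≠ o → j ≠ i1 → s j = F (X j) b := by
    intro j h0 h1
    rw [hs]; simp [h0, h1]
  have nb : ∀ j, j ≠ o → j ≠ i1 → F (X j) b ≠ b := by
    intro j h0 h1 he
    have := all j h0 h1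
    rw [← this] at he
    exact hab ((F (X j)).injective he |>.symm ▸ this.symm ▸ rfl)
  have na : ∀ j, j ≠ o → j ≠ i1 → F (X j) b ≠ a := by
    intro j h0 h1 he
    have h2 := all j h0 h1
    have h3 := tc_cube _ (F3 _ (X3 j h0 h1)) a
    rw [h2, he, h2] at h3
    exact hab h3.symm
  have sinj : Function.Injective s := by
    intro j k hjk
    by_cases hj0 : j = o
    · by_cases hk0 : k = o
      · rw [hj0, hk0]
      · by_cases hk1 : k = i1
        · rw [hj0, hk1, s0, s1] at hjk
          exact absurd hjk hab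
        · rw [hj0, s0, s2 k hk0 hk1] at hjk
          exact absurd hjk.symm (na k hk0 hk1)
    · by_cases hj1 : j = i1
      · by_cases hk0 : k = o
        · rw [hj1, hk0, s0, s1] at hjk
          exact absurd hjk.symm hab
        · by_cases hk1 : k = i1
          · rw [hj1, hk1]
          · rw [hj1, s1, s2 k hk0 hk1] at hjk
            exact absurd hjk.symm (nb k hk0 hk1)
      · by_cases hk0 : k = o
        · rw [hk0, s0, s2 j hj0 hj1] at hjk
          exact absurd hjk (na j hj0 hj1)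
        · by_cases hk1 : k = i1
          · rw [hk1, s1, s2 j hj0 hj1] at hjk
            exact absurd hjk (nb j hj0 hj1)
          · rw [s2 j hj0 hj1, s2 k hk0 hk1] at hjk
            apply Xinj
            apply Finj _ _ (XA j hj0 hj1) (XA k hk0 hk1)
            apply tc_unique _ _ (F3 _ (X3 j hj0 hj1)) (F3 _ (X3 k hk0 hk1)) a
            · rw [all j hj0 hj1]; exact hab.symm
            · rw [all j hj0 hj1, all k hk0 hk1]
            · rw [all j hj0 hj1, all k hk0 hk1, hjk]
  obtain ⟨σ, hσ⟩ : ∃ σ : Perm (Fin n), ∀ j, σ j = s j :=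
    ⟨Equiv.ofBijective s (Finite.injective_iff_bijective.1 sinj), fun _ => rfl⟩
  have hconj : ∀ j, j ≠ o → j ≠ i1 → σ * X j * σ⁻¹ = F (X j) := by
    intro j h0 h1
    have i0 : σ⁻¹ a = o := by
      rw [Perm.inv_eq_iff_eq, hσ, s0]
    have ib : σ⁻¹ b = i1 := by
      rw [Perm.inv_eq_iff_eq, hσ, s1]
    have e1 : (σ * X j * σ⁻¹) a = b := by
      simp only [coe_mul, Function.comp_apply]
      rw [i0, hX]
      simp only [coe_mul, Function.comp_apply]
      rw [swap_apply_of_ne_of_ne d01 h0.symm, swap_apply_left, hσ, s1]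
    have e2 : (σ * X j * σ⁻¹) b = F (X j) b := by
      simp only [coe_mul, Function.comp_apply]
      rw [ib, hX]
      simp only [coe_mul, Function.comp_apply]
      rw [swap_apply_left, swap_apply_of_ne_of_ne h0 h1, hσ, s2 j h0 h1, hX j]
    apply tc_unique _ _ _ (F3 _ (X3 j h0 h1)) a
    · rw [e1]; exact hab.symm
    · rw [e1, all j h0 h1]
    · rw [e1, all j h0 h1, e2]
    · have := X3 j h0 h1
      unfold IsThreeCycle at this ⊢
      rw [cycleType_conj, this]
  refine ⟨σ, ?_⟩
  obtain ⟨K, hK⟩ : ∃ K : Subgroup (Perm (Fin n)), K = (MonoidHom.eqLocus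
      (MulAut.conjNormal σ : MulAut (alternatingGroup (Fin n))).toMonoidHom f.toMonoidHom).map
      (alternatingGroup (Fin n)).subtype := ⟨_, rfl⟩
  have hgen := gen K o i1 d01 (by
    intro j h0 h1
    rw [hK, ← hX]
    refine ⟨⟨X j, XA j h0 h1⟩, ?_, rfl⟩
    change (MulAut.conjNormal σ : MulAut (alternatingGroup (Fin n))) ⟨X j, XA j h0 h1⟩ =
      f ⟨X j, XA j h0 h1⟩
    apply Subtype.ext
    rw [MulAut.conjNormal_apply, ← hF (X j) (XA j h0 h1)]
    exact hconj j h0 h1)
  have hfin : (MulAut.conjNormal σ : MulAut (alternatingGroup (Fin n))).toMonoidHom =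
      f.toMonoidHom := by
    apply MonoidHom.eq_of_eqOn_dense alternatingGroup.closure_isThreeCycles_eq_top
    intro t ht
    have h1 := hgen (t : Perm (Fin n)) ht
    rw [hK] at h1
    obtain ⟨t', ht', he⟩ := h1
    have : t' = t := Subtype.ext he
    rw [this] at ht'
    exact ht'
  ext1 t
  exact DFunLike.congr_fun hfin t


theorem card_T3 : (Finset.univ.filter (fun g : Perm (Fin 6) => g.cycleType = {3})).card = 40 := by
  rw [card_of_cycleType]
  simp
  decide

theorem card_T33 : (Finset.univ.filter (fun g : Perm (Fin 6) => g.cycleType = {3, 3})).card = 40 := by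
  rw [card_of_cycleType]
  simp
  decide

theorem type_of_order_three (y : Perm (Fin 6)) (hy : orderOf y = 3) :
    y.cycleType = {3} ∨ y.cycleType = {3, 3} := by
  obtain ⟨k, hk⟩ := cycleType_prime_order (σ := y) (by rw [hy]; norm_num)
  rw [hy] at hk
  have h1 := sum_cycleType y
  rw [hk] at h1
  have h2 := Finset.card_le_univ y.support
  rw [← h1] at h2
  simp at h2
  have hk1 : k = 0 ∨ k = 1 := by omega
  rcases hk1 with rfl | rfl
  · left; rw [hk]; rfl
  · right; rw [hk]; rfl

theorem orderOf_aut_coe (f : MulAut (alternatingGroup (Fin n))) (x : alternatingGroup (Fin n)) :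
    orderOf ((f x : alternatingGroup (Fin n)) : Perm (Fin n)) = orderOf (x : Perm (Fin n)) := by
  rw [Subgroup.orderOf_coe, MulEquiv.orderOf_eq, ← Subgroup.orderOf_coe]

theorem orderOf_of_type33 (y : Perm (Fin 6)) (hy : y.cycleType = {3, 3}) : orderOf y = 3 := by
  rw [← lcm_cycleType, hy]
  simp

theorem sq_mem_range6 (f : MulAut (alternatingGroup (Fin 6))) :
    ∃ s : Perm (Fin 6), MulAut.conjNormal s = f * f := by
  classical
  by_cases hall : ∀ x : alternatingGroup (Fin 6), (x : Perm (Fin 6)).IsThreeCycle →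
      ((f x : alternatingGroup (Fin 6)) : Perm (Fin 6)).IsThreeCycle
  · obtain ⟨s, hs⟩ := conj_of_three (by norm_num) f hall
    exact ⟨s * s, by rw [map_mul, hs]⟩
  push Not at hall
  obtain ⟨x0, hx0, hfx0⟩ := hall
  have h33 : ∀ x : alternatingGroup (Fin 6), (x : Perm (Fin 6)).IsThreeCycle →
      ((f x : alternatingGroup (Fin 6)) : Perm (Fin 6)).cycleType = {3, 3} := by
    have h0 : ((f x0 : alternatingGroup (Fin 6)) : Perm (Fin 6)).cycleType = {3, 3} := by
      rcases type_of_order_three _ (by rw [orderOf_aut_coe f x0, hx0.orderOf]) with h | h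
      · exact absurd h hfx0
      · exact h
    intro x hx
    have hc := alternatingGroup.isThreeCycle_isConj (by simp) hx0 hx
    obtain ⟨a, ha⟩ := isConj_iff.1 hc
    rw [← ha, map_mul, map_mul, map_inv]
    simp only [Subgroup.coe_mul, Subgroup.coe_inv]
    rw [cycleType_conj, h0]
  have hback : ∀ y : alternatingGroup (Fin 6), (y : Perm (Fin 6)).cycleType = {3, 3} →
      ((f y : alternatingGroup (Fin 6)) : Perm (Fin 6)).IsThreeCycle := by
    intro y hy
    rcases type_of_order_three _ (by rw [orderOf_aut_coe f y, orderOf_of_type33 _ hy]) with h | h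
    · exact h
    exfalso
    obtain ⟨F, hF⟩ : ∃ F : Perm (Fin 6) → Perm (Fin 6),
        ∀ (g : Perm (Fin 6)) (h : g ∈ alternatingGroup (Fin 6)), F g = (f ⟨g, h⟩ : Perm (Fin 6)) :=
      ⟨fun g => if h : g ∈ alternatingGroup (Fin 6) then (f ⟨g, h⟩ : Perm (Fin 6)) else 1,
        fun g h => by simp [h]⟩
    have himg : (Finset.univ.filter (fun g : Perm (Fin 6) => g.cycleType = {3})).image F =
        Finset.univ.filter (fun g : Perm (Fin 6) => g.cycleType = {3, 3}) := by
      apply Finset.eq_of_subset_of_card_le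
      · intro z hz
        simp only [Finset.mem_image, Finset.mem_filter, Finset.mem_univ, true_and] at hz ⊢
        obtain ⟨g, hg, rfl⟩ := hz
        have hg3 : g.IsThreeCycle := hg
        rw [hF g hg3.mem_alternatingGroup]
        exact h33 ⟨g, hg3.mem_alternatingGroup⟩ hg3
      · rw [Finset.card_image_of_injOn, card_T3, card_T33]
        intro g hg g' hg' he
        simp only [Finset.coe_filter, Finset.mem_univ, true_and, Set.mem_ofPred_eq] at hg hg'
        have hg3 : g.IsThreeCycle := hg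
        have hg3' : g'.IsThreeCycle := hg'
        rw [hF g hg3.mem_alternatingGroup, hF g' hg3'.mem_alternatingGroup] at he
        have := f.injective (Subtype.ext he)
        exact congrArg Subtype.val this
    have hmem : ((f y : alternatingGroup (Fin 6)) : Perm (Fin 6)) ∈
        (Finset.univ.filter (fun g : Perm (Fin 6) => g.cycleType = {3})).image F := by
      rw [himg]; simpa using h
    simp only [Finset.mem_image, Finset.mem_filter, Finset.mem_univ, true_and] at hmem
    obtain ⟨g, hg, he⟩ := hmem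
    have hg3 : g.IsThreeCycle := hg
    rw [hF g hg3.mem_alternatingGroup] at he
    have h1 := f.injective (Subtype.ext he)
    have h2 : g = (y : Perm (Fin 6)) := congrArg Subtype.val h1
    rw [h2, hy] at hg
    revert hg
    decide
  apply conj_of_three (by norm_num)
  intro x hx
  exact hback _ (h33 x hx)

theorem mem_range_of_odd (hn : 4 ≤ n) (f : MulAut (alternatingGroup (Fin n)))
    (hodd : Odd (orderOf f)) : ∃ s : Perm (Fin n), MulAut.conjNormal s = f := by
  by_cases h6 : n = 6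
  · subst h6
    obtain ⟨k, hk⟩ := hodd
    obtain ⟨s, hs⟩ := sq_mem_range6 f
    refine ⟨s ^ (k + 1), ?_⟩
    rw [map_pow, hs, ← pow_two, ← pow_mul]
    have : 2 * (k + 1) = orderOf f + 1 := by omega
    rw [this, pow_succ, pow_orderOf_eq_one, one_mul]
  · exact (Cfsg.Agent.S2119.result n hn h6).2 f

theorem conjNormal_injective (hn : 4 ≤ n) : Function.Injective
    (MulAut.conjNormal : Perm (Fin n) →* MulAut (alternatingGroup (Fin n))) := by
  rw [injective_iff_map_eq_one]
  intro s hs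
  apply inj_part hn
  intro t ht
  have h1 := DFunLike.congr_fun hs ⟨t, ht.mem_alternatingGroup⟩
  have h2 := congrArg Subtype.val h1
  simpa [MulAut.conjNormal_apply] using h2

theorem comm_of_lt_sq (r : ℕ) [hr : Fact r.Prime] (h : n < r ^ 2) (Q : Subgroup (Perm (Fin n)))
    (hQ : IsPGroup r Q) (x y : Perm (Fin n)) (hx : x ∈ Q) (hy : y ∈ Q) : x * y = y * x := by
  apply Equiv.ext
  intro a
  obtain ⟨St, hSt⟩ : ∃ St : Subgroup Q, St = MulAction.stabilizer Q a := ⟨_, rfl⟩
  have hidx : St.index = Nat.card (MulAction.orbit Q a) := by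
    rw [hSt]; exact MulAction.index_stabilizer Q a
  obtain ⟨k, hk⟩ := hQ.card_orbit a
  have hle : Nat.card (MulAction.orbit Q a) ≤ n := by
    have := Nat.card_le_card_of_injective (fun z : MulAction.orbit Q a => (z : Fin n)) Subtype.val_injective
    simpa using this
  have hk1 : k ≤ 1 := by
    by_contra hcon
    have : r ^ 2 ≤ r ^ k := Nat.pow_le_pow_right hr.out.pos (by omega)
    omega
  have key : (⟨y, hy⟩ * ⟨x, hx⟩ : Q)⁻¹ * (⟨x, hx⟩ * ⟨y, hy⟩ : Q) ∈ St := by
    have hk' : k = 0 ∨ k = 1 := by omega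
    rcases hk' with rfl | rfl
    · have : St = ⊤ := by
        rw [← Subgroup.index_eq_one, hidx, hk, pow_zero]
      rw [this]; trivial
    · have hi : St.index = r := by rw [hidx, hk, pow_one]
      obtain ⟨m, hm⟩ := IsPGroup.iff_card.1 hQ
      have hm0 : m ≠ 0 := by
        rintro rfl
        have h1 : St.index ∣ Nat.card Q := Subgroup.index_dvd_card St
        rw [hi, hm, pow_zero] at h1
        exact hr.out.one_lt.ne' (Nat.dvd_one.1 h1)
      have hN : St.Normal := by
        apply Subgroup.normal_of_index_eq_minFac_card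
        rw [hi, hm, hr.out.pow_minFac hm0]
      have hc : IsCyclic (Q ⧸ St) := isCyclic_of_prime_card (p := r) (by
        rw [← hi]; rfl)
      rw [← QuotientGroup.eq]
      simp only [QuotientGroup.mk_mul]
      exact hc.isMulCommutative.is_comm.comm _ _
  rw [hSt, MulAction.mem_stabilizer_iff] at key
  have key2 : ((y * x)⁻¹ * (x * y)) a = a := key
  simp only [coe_mul, Function.comp_apply] at key2 ⊢
  rw [Perm.inv_eq_iff_eq] at key2
  simpa using key2

end Cfsg.Agent.Lib.Helper69.AutAlt
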