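import Cfsg.Agent.Lib.Helper53.KS18Defs
import Cfsg.Agent.Lib.Helper53.JC3Asm
import Cfsg.Agent.Lib.Helper41.KS18HQ
import Cfsg.Agent.Lib.Helper41.KS18W4

set_option autoImplicit false

/-! Ladder KS18 (S0518), rung MS4. -/

namespace Cfsg.Agent.Lib.Helper69.KS18

open Cfsg Subgroup
open Cfsg.Agent.Lib.Helper53
open Cfsg.Agent.Lib.Helper53.JC (cjj QQ)
open Cfsg.Agent.Lib.Helper53.SA2 (BHyp)
open Cfsg.Agent.Lib.Helper53.KS18
open Cfsg.Agent.Lib.Helper41.KS18 (hh_normal hh_odd w4)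

variable {G : Type*} [Group G] [Finite G]

omit [Finite G] in
theorem ms4_le_normalizer_inf {H Q P : Subgroup G} (hH : H.Normal)
    (hP : P ≤ normalizer (Q : Set G)) : P ≤ normalizer ((H ⊓ Q : Subgroup G) : Set G) := by
  intro g hg
  have h2 := hP hg
  rw [mem_normalizer_iff] at h2 ⊢
  intro x
  constructor
  · rintro ⟨h1, h3⟩
    exact ⟨hH.conj_mem x h1 g, (h2 x).1 h3⟩
  · rintro ⟨h1, h3⟩
    refine ⟨?_, (h2 x).2 h3⟩
    have := hH.conj_mem _ h1 g⁻¹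
    simpa [mul_assoc] using this

omit [Finite G] in
theorem ms4_card_mul {H K : Subgroup G} (h : H ≤ K) : H.relIndex K * Nat.card H = Nat.card K := by
  have := Subgroup.relIndex_mul_relIndex ⊥ H K bot_le h
  rw [relIndex_bot_left, relIndex_bot_left] at this
  rw [mul_comm]
  exact this

/-- the order of `W = O²(G) ∩ O₂(P)` -/
theorem ms4_cardW {P : Subgroup G} (h2 : 2 < Nat.card ↥(HH G ⊓ QQ P))
    (hk : Nat.card ↥(QQ P) = 4 ∨ (Nat.card ↥(QQ P) = 8 ∧ ∃ c ∈ QQ P, c ∉ HH G)) :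
    Nat.card ↥(HH G ⊓ QQ P) = 4 := by
  have hd : Nat.card ↥(HH G ⊓ QQ P) ∣ Nat.card ↥(QQ P) := Subgroup.card_dvd_of_le inf_le_right
  rcases hk with hk | ⟨hk, c, hc, hcH⟩
  · rw [hk] at hd
    have := Nat.le_of_dvd (by norm_num) hd
    interval_cases h : Nat.card ↥(HH G ⊓ QQ P) <;> omega
  · have hne : Nat.card ↥(HH G ⊓ QQ P) ≠ 8 := by
      intro h8
      have : HH G ⊓ QQ P = QQ P := Subgroup.eq_of_le_of_card_ge inf_le_right (by rw [h8, hk])
      have hc' : c ∈ HH G ⊓ QQ P := by rw [this]; exact hc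
      exact hcH hc'.1
    rw [hk] at hd
    have := Nat.le_of_dvd (by norm_num) hd
    interval_cases h : Nat.card ↥(HH G ⊓ QQ P) <;> omega

theorem ms4 {P₁ P₂ T : Subgroup G} (c : C0 P₁ P₂ T)
    (hk : (Nat.card ↥(QQ P₁) = 4 ∧ Nat.card ↥(QQ P₂) = 4) ∨
      (Nat.card ↥(QQ P₁) = 8 ∧ Nat.card ↥(QQ P₂) = 8 ∧
        (∃ c₁ ∈ QQ P₁, P₁ ≤ centralizer {c₁} ∧ c₁ ∉ HH G) ∧
        (∃ c₂ ∈ QQ P₂, P₂ ≤ centralizer {c₂} ∧ c₂ ∉ HH G))) :
    Nonempty (↥(HH G ⊓ P₁) ≃* Equiv.Perm (Fin 4)) := by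
  have : Fact (Nat.Prime 2) := ⟨Nat.prime_two⟩
  have : Fact (Nat.Prime 3) := ⟨Nat.prime_three⟩
  have hHn : (HH G).Normal := hh_normal
  have hk1 : Nat.card ↥(QQ P₁) = 4 ∨ (Nat.card ↥(QQ P₁) = 8 ∧
      ∃ c₁ ∈ QQ P₁, P₁ ≤ centralizer {c₁} ∧ c₁ ∉ HH G) := by
    rcases hk with h | h
    · exact Or.inl h.1
    · exact Or.inr ⟨h.1, h.2.2.1⟩
  have hk2 : Nat.card ↥(QQ P₂) = 4 ∨ (Nat.card ↥(QQ P₂) = 8 ∧ ∃ c₂ ∈ QQ P₂, c₂ ∉ HH G) := by
    rcases hk with h | h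
    · exact Or.inl h.2
    · obtain ⟨c₂, h1, -, h3⟩ := h.2.2.2
      exact Or.inr ⟨h.2.1, c₂, h1, h3⟩
  obtain ⟨hQT₁, hi₁, hTP₁⟩ := BA.indices c.h.syl₁ c.h.h6₁
  obtain ⟨hQT₂, -, -⟩ := BA.indices c.h.syl₂ c.h.h6₂
  have hcT : 2 * Nat.card ↥(QQ P₁) = Nat.card ↥T := by
    rw [← hi₁]; exact ms4_card_mul hQT₁
  have hcP : 3 * Nat.card ↥T = Nat.card ↥P₁ := by
    rw [← hTP₁]; exact ms4_card_mul c.h.syl₁.1
  set W₁ := HH G ⊓ QQ P₁ with hW₁
  set W₂ := HH G ⊓ QQ P₂ with hW₂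
  have hcW₁ : Nat.card ↥W₁ = 4 := ms4_cardW (w4 c.h.syl₁ c.h.h6₁ c.h.hchar₁ c.e₁) (by
    rcases hk1 with h | ⟨h, c₁, h1, -, h3⟩
    · exact Or.inl h
    · exact Or.inr ⟨h, c₁, h1, h3⟩)
  have hcW₂ : Nat.card ↥W₂ = 4 := ms4_cardW (w4 c.h.syl₂ c.h.h6₂ c.h.hchar₂ c.e₂) hk2
  have hPW₁ : P₁ ≤ normalizer (W₁ : Set G) :=
    ms4_le_normalizer_inf hHn (le_normalizer_pCoreOf 2 P₁)
  have hPW₂ : P₂ ≤ normalizer (W₂ : Set G) :=
    ms4_le_normalizer_inf hHn (le_normalizer_pCoreOf 2 P₂)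
  have hWne : W₁ ≠ W₂ := by
    intro h
    have h1 := c.h.hcore W₁ (inf_le_right.trans hQT₁) hPW₁ (h ▸ hPW₂)
    rw [h1, Subgroup.card_bot] at hcW₁
    omega
  set T0 := HH G ⊓ T with hT0
  have hW₁T0 : W₁ ≤ T0 := inf_le_inf_left _ hQT₁
  have hW₂T0 : W₂ ≤ T0 := inf_le_inf_left _ hQT₂
  have hcT0 : Nat.card ↥T0 = 8 := by
    have h1 : Nat.card ↥W₁ ∣ Nat.card ↥T0 := Subgroup.card_dvd_of_le hW₁T0
    have h2 : Nat.card ↥T0 ∣ Nat.card ↥T := Subgroup.card_dvd_of_le inf_le_right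
    have h3 : Nat.card ↥T0 ≠ 4 := by
      intro h4
      have e1 : W₁ = T0 := Subgroup.eq_of_le_of_card_ge hW₁T0 (by rw [h4, hcW₁])
      have e2 : W₂ = T0 := Subgroup.eq_of_le_of_card_ge hW₂T0 (by rw [h4, hcW₂])
      exact hWne (e1.trans e2.symm)
    rw [hcW₁] at h1
    rcases hk1 with h | ⟨h, c₁, hc1, -, hc3⟩
    · rw [← hcT, h] at h2
      have := Nat.le_of_dvd (by norm_num) h2
      interval_cases h : Nat.card ↥T0 <;> omega
    · have h5 : Nat.card ↥T0 ≠ 16 := by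
        intro h16
        have : T0 = T := Subgroup.eq_of_le_of_card_ge inf_le_right (by rw [h16, ← hcT, h])
        have hc' : c₁ ∈ T0 := by rw [this]; exact hQT₁ hc1
        exact hc3 hc'.1
      rw [← hcT, h] at h2
      have := Nat.le_of_dvd (by norm_num) h2
      interval_cases h : Nat.card ↥T0 <;> omega
  set M := HH G ⊓ P₁ with hM
  have hT0M : T0 ≤ M := inf_le_inf_left _ c.h.syl₁.1
  have hcM : Nat.card ↥M = 24 := by
    have h8 : 8 ∣ Nat.card ↥M := hcT0 ▸ Subgroup.card_dvd_of_le hT0M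
    have h3 : 3 ∣ Nat.card ↥M := by
      obtain ⟨d, hd⟩ := exists_prime_orderOf_dvd_card' (G := ↥P₁) 3 ⟨_, hcP.symm⟩
      have hd' : orderOf (d : G) = 3 := by rw [Subgroup.orderOf_coe, hd]
      have hdM : (d : G) ∈ M := ⟨hh_odd (by rw [hd']; decide), d.2⟩
      have := orderOf_dvd_natCard (⟨(d : G), hdM⟩ : ↥M)
      rwa [← Subgroup.orderOf_coe, hd'] at this
    have h24 : 24 ∣ Nat.card ↥M :=
      (Nat.Coprime.mul_dvd_of_dvd_of_dvd (by norm_num : Nat.Coprime 8 3) h8 h3)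
    have h2 : Nat.card ↥M ∣ Nat.card ↥P₁ := Subgroup.card_dvd_of_le inf_le_right
    rcases hk1 with h | ⟨h, c₁, hc1, -, hc3⟩
    · rw [← hcP, ← hcT, h] at h2
      exact Nat.dvd_antisymm h2 h24
    · have h5 : Nat.card ↥M ≠ 48 := by
        intro h48
        have : M = P₁ := Subgroup.eq_of_le_of_card_ge inf_le_right (by rw [h48, ← hcP, ← hcT, h])
        have hc' : c₁ ∈ M := by rw [this]; exact pCoreOf_le 2 P₁ hc1
        exact hc3 hc'.1
      rw [← hcP, ← hcT, h] at h2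
      obtain ⟨k, hk⟩ := h24
      have := Nat.le_of_dvd (by norm_num) h2
      have hpos : 0 < Nat.card ↥M := Nat.card_pos
      have hk' : k = 1 ∨ k = 2 := by omega
      rcases hk' with rfl | rfl <;> omega
  have hW₁M : W₁ ≤ M := inf_le_inf_left _ (pCoreOf_le 2 P₁)
  have hnorm : (W₁.subgroupOf M).Normal :=
    (Subgroup.normal_subgroupOf_iff_le_normalizer hW₁M).2 (inf_le_right.trans hPW₁)
  apply Cfsg.Agent.Lib.Helper81.BA.s4_recog hcM (W₁.subgroupOf M)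
  · rw [Nat.card_congr (Subgroup.subgroupOfEquivOfLe hW₁M).toEquiv, hcW₁]
  · intro x hx
    apply Subtype.ext
    exact c.e₁ _ (Subgroup.mem_subgroupOf.1 hx).2
  · intro g hg
    rw [Subgroup.mem_subgroupOf]
    refine ⟨g.2.1, ?_⟩
    apply c.h.hchar₁
    refine ⟨g.2.2, ?_⟩
    -- `K = C(g)` contains `Q₁`
    have hWK : W₁ ≤ centralizer {(g : G)} := by
      intro w hw
      rw [mem_centralizer_singleton_iff]
      have := (mem_centralizer_iff.1 hg) ⟨w, hW₁M hw⟩ (Subgroup.mem_subgroupOf.2 hw)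
      exact congrArg Subtype.val this
    have hQK : QQ P₁ ≤ centralizer {(g : G)} := by
      rcases hk1 with h | ⟨h, c₁, hc1, hc2, hc3⟩
      · have : W₁ = QQ P₁ := Subgroup.eq_of_le_of_card_ge inf_le_right (by rw [hcW₁, h])
        rw [← this]
        exact hWK
      · set K := centralizer {(g : G)} ⊓ QQ P₁ with hK
        have h1 : W₁ ≤ K := le_inf hWK inf_le_right
        have hcK : c₁ ∈ K := by
          refine ⟨?_, hc1⟩
          have := mem_centralizer_singleton_iff.1 (hc2 g.2.2)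
          exact mem_centralizer_singleton_iff.2 this.symm
        have h2 : Nat.card ↥W₁ ∣ Nat.card ↥K := Subgroup.card_dvd_of_le h1
        have h3 : Nat.card ↥K ∣ Nat.card ↥(QQ P₁) := Subgroup.card_dvd_of_le inf_le_right
        have h4 : Nat.card ↥K ≠ 4 := by
          intro h4
          have : W₁ = K := Subgroup.eq_of_le_of_card_ge h1 (by rw [h4, hcW₁])
          have hc' : c₁ ∈ W₁ := by rw [this]; exact hcK
          exact hc3 hc'.1
        rw [hcW₁] at h2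
        rw [h] at h3
        have h8 : Nat.card ↥K = 8 := by
          have := Nat.le_of_dvd (by norm_num) h3
          interval_cases h : Nat.card ↥K <;> omega
        have : K = QQ P₁ := Subgroup.eq_of_le_of_card_ge inf_le_right (by rw [h8, h])
        rw [← this]
        exact inf_le_left
    apply mem_centralizer_iff.2
    intro q hq
    exact (mem_centralizer_singleton_iff.1 (hQK hq))

end Cfsg.Agent.Lib.Helper69.KS18
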