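import Mathlib
import Cfsg.Agent.S0731
import Cfsg.Agent.Lib.Helper78.SelfCent
import Cfsg.Agent.Lib.Helper7.SL2Center

set_option autoImplicit false
set_option linter.unusedVariables false
set_option linter.unusedSectionVars false

/-! BR ladder (Brauer–Reynolds), rung Z: recognition of `PSL(2,p)` when `n = 1`. -/

namespace Cfsg.Agent.Lib.Helper69.BR

open Subgroup Cfsg.Agent.Lib.Helper78

variable {G : Type*} [Group G] [Finite G] {p : ℕ} [hpf : Fact p.Prime] {z : G}

/-- every element of order `p` is self-centralising. -/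
theorem z_sc_all (hz : orderOf z = p) (hC : centralizer ({z} : Set G) = zpowers z) {x : G}
    (hx : orderOf x = p) : centralizer ({x} : Set G) = zpowers x := by
  obtain ⟨g, hg⟩ := sc_pgroup_conj hpf.out hz hC (zpowers x) (sc_isPGroup_zpowers hpf.out hx)
  have h1 := hg x (mem_zpowers x)
  have hx1 := sc_ne_one hpf.out hx
  have h2 : g⁻¹ * x * g ≠ 1 := by
    intro h
    apply hx1
    calc x = g * (g⁻¹ * x * g) * g⁻¹ := by group
      _ = 1 := by rw [h]; group
  have h3 := sc_zpowers_eq_of_mem hpf.out hz h1 h2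
  apply le_antisymm
  · intro c hc
    rw [mem_centralizer_singleton_iff] at hc
    have h4 : Commute (g⁻¹ * c * g) (g⁻¹ * x * g) := by
      show g⁻¹ * c * g * (g⁻¹ * x * g) = g⁻¹ * x * g * (g⁻¹ * c * g)
      calc g⁻¹ * c * g * (g⁻¹ * x * g) = g⁻¹ * (c * x) * g := by group
        _ = g⁻¹ * (x * c) * g := by rw [hc]
        _ = g⁻¹ * x * g * (g⁻¹ * c * g) := by group
    have hzm : z ∈ zpowers (g⁻¹ * x * g) := h3 ▸ mem_zpowers z
    obtain ⟨k, hk⟩ := mem_zpowers_iff.1 hzm
    have h5 : g⁻¹ * c * g * z = z * (g⁻¹ * c * g) := by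
      rw [← hk]; exact (h4.zpow_right k).eq
    have h6 := sc_mem_zpowers_of_commute hC h5
    rw [← h3] at h6
    obtain ⟨j, hj⟩ := mem_zpowers_iff.1 h6
    rw [mem_zpowers_iff]
    refine ⟨j, ?_⟩
    have h7 : (g⁻¹ * x * g) ^ j = g⁻¹ * x ^ j * g := by
      have := (MulAut.conj g⁻¹).toMonoidHom.map_zpow x j
      simpa [MulAut.conj_apply] using this.symm
    rw [h7] at hj
    calc x ^ j = g * (g⁻¹ * x ^ j * g) * g⁻¹ := by group
      _ = g * (g⁻¹ * c * g) * g⁻¹ := by rw [hj]
      _ = c := by group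
  · rw [zpowers_le, mem_centralizer_singleton_iff]

/-- the structure of a Sylow `p`-subgroup. -/
theorem z_sylow (hz : orderOf z = p) (hC : centralizer ({z} : Set G) = zpowers z) (P : Sylow p G) :
    Nat.card P = p ∧ ∀ x ∈ (P : Subgroup G), x ≠ 1 →
      orderOf x = p ∧ (P : Subgroup G) = zpowers x ∧ centralizer ({x} : Set G) = P := by
  obtain ⟨P₀, hP₀⟩ := sc_exists_sylow hpf.out hz hC
  have hcard : Nat.card P = p := by
    rw [Sylow.card_eq_multiplicity, ← P₀.card_eq_multiplicity, hP₀, Nat.card_zpowers, hz]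
  refine ⟨hcard, ?_⟩
  intro x hx hx1
  have hox : orderOf x = p := by
    have h1 : orderOf x ∣ p := hcard ▸ Subgroup.orderOf_dvd_natCard _ hx
    rcases (Nat.dvd_prime hpf.out).1 h1 with h | h
    · exact absurd (orderOf_eq_one_iff.1 h) hx1
    · exact h
  have hCx := z_sc_all hz hC hox
  have hPx := sc_pgroup_eq hpf.out hox hCx P P.2 hx
  exact ⟨hox, hPx, by rw [hCx, hPx]⟩

/-- an element of a Sylow subgroup `P` fixing another Sylow subgroup is trivial. -/
theorem z_free (hz : orderOf z = p) (hC : centralizer ({z} : Set G) = zpowers z) {P Q : Sylow p G}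
    (hPQ : Q ≠ P) {x : G} (hx : x ∈ (P : Subgroup G)) (hxQ : x • Q = Q) : x = 1 := by
  by_contra hx1
  have h1 : x ∈ (P : Subgroup G) ⊓ normalizer (Q : Set G) :=
    mem_inf.mpr ⟨hx, Sylow.smul_eq_iff_mem_normalizer.1 hxQ⟩
  rw [P.2.inf_normalizer_sylow Q] at h1
  have h2 := ((z_sylow hz hC P).2 x hx hx1).2.1
  have h3 := ((z_sylow hz hC Q).2 x (mem_inf.1 h1).2 hx1).2.1
  exact hPQ (Sylow.ext (h3.trans h2.symm))

theorem z_smul_self {P : Sylow p G} {x : G} (hx : x ∈ (P : Subgroup G)) : x • P = P :=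
  Sylow.smul_eq_iff_mem_normalizer.2 (le_normalizer hx)

/-- `P` is regular on the other Sylow subgroups. -/
theorem z_reg (hz : orderOf z = p) (hC : centralizer ({z} : Set G) = zpowers z)
    (hn : Nat.card (Sylow p G) = 1 + p) (P : Sylow p G) (y w : Sylow p G) (hy : y ≠ P)
    (hw : w ≠ P) : ∃! u : (P : Subgroup G), (u : G) • y = w := by
  have hinj : Function.Injective (fun u : (P : Subgroup G) =>
      (⟨(u : G) • y, by
        intro h
        apply hy
        have h1 : (u : G)⁻¹ • ((u : G) • y) = (u : G)⁻¹ • P := by rw [h]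
        rw [inv_smul_smul, z_smul_self (inv_mem u.2)] at h1
        exact h1⟩ : {Q : Sylow p G // Q ≠ P})) := by
    intro u u' huu
    have h1 : (u : G) • y = (u' : G) • y := congrArg Subtype.val huu
    have h2 : ((u' : G)⁻¹ * (u : G)) • y = y := by rw [mul_smul, h1, inv_smul_smul]
    have h3 := z_free hz hC hy (mul_mem (inv_mem u'.2) u.2) h2
    apply Subtype.ext
    exact (inv_mul_eq_one.1 h3).symm
  have hcard : Nat.card (P : Subgroup G) = Nat.card {Q : Sylow p G // Q ≠ P} := by
    rw [(z_sylow hz hC P).1]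
    have h1 : Nat.card {Q : Sylow p G // Q ≠ P} = ({P}ᶜ : Set (Sylow p G)).ncard := rfl
    rw [h1, Set.ncard_compl, hn, Set.ncard_singleton]
    omega
  have hbij : Function.Bijective (fun u : (P : Subgroup G) =>
      (⟨(u : G) • y, _⟩ : {Q : Sylow p G // Q ≠ P})) :=
    (Nat.bijective_iff_injective_and_card _).2 ⟨hinj, hcard⟩
  obtain ⟨u, hu⟩ := hbij.2 ⟨w, hw⟩
  refine ⟨u, congrArg Subtype.val hu, ?_⟩
  intro u' hu'
  apply hinj
  apply Subtype.ext
  show (u' : G) • y = (u : G) • y
  rw [hu']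
  exact (congrArg Subtype.val hu).symm

/-- no non-identity element fixes three Sylow subgroups. -/
theorem z_three (hz : orderOf z = p) (hC : centralizer ({z} : Set G) = zpowers z)
    (hn : Nat.card (Sylow p G) = 1 + p) (g : G) (a b c : Sylow p G) (hab : a ≠ b) (hbc : b ≠ c)
    (hac : a ≠ c) (ha : g • a = a) (hb : g • b = b) (hc : g • c = c) : g = 1 := by
  obtain ⟨x, hx, hxu⟩ := z_reg hz hC hn a b c hab.symm hac.symm
  have hx' : (x : G) • b = c := hx
  have hx1 : (x : G) ≠ 1 := by
    intro h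
    rw [h, one_smul] at hx'
    exact hbc hx'
  have hgN : g ∈ normalizer ((a : Subgroup G) : Set G) := Sylow.smul_eq_iff_mem_normalizer.1 ha
  have hgx : g * (x : G) * g⁻¹ ∈ (a : Subgroup G) := (mem_normalizer_iff.1 hgN _).1 x.2
  have h1 : (g * (x : G) * g⁻¹) • b = c := by
    have hb' : g⁻¹ • b = b := by
      nth_rewrite 1 [← hb]
      rw [inv_smul_smul]
    rw [mul_smul, mul_smul, hb', hx', hc]
  have h2 := hxu ⟨_, hgx⟩ h1
  have h3 : g * (x : G) * g⁻¹ = x := congrArg Subtype.val h2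
  have h4 : g ∈ centralizer ({(x : G)} : Set G) := by
    rw [mem_centralizer_singleton_iff]
    exact mul_inv_eq_iff_eq_mul.1 h3
  rw [((z_sylow hz hC a).2 x x.2 hx1).2.2] at h4
  exact z_free hz hC hab.symm h4 hb

theorem z_zassenhaus (hperf : commutator G = ⊤) (hp : 3 < p) (hz : orderOf z = p)
    (hC : centralizer ({z} : Set G) = zpowers z)
    (hn : Nat.card (Sylow p G) = 1 + p) (hG : 2 * Nat.card G = (p + 1) * p * (p - 1)) :
    Cfsg.IsZassenhausGroup G (Sylow p G) := by
  obtain ⟨P₀, hP₀⟩ := sc_exists_sylow hpf.out hz hC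
  have hz1 := sc_ne_one hpf.out hz
  have hzP : z ∈ (P₀ : Subgroup G) := hP₀ ▸ mem_zpowers z
  obtain ⟨a, b, c, hab, hac, hbc⟩ : ∃ a b c : Sylow p G, a ≠ b ∧ a ≠ c ∧ b ≠ c := by
    have : Fintype (Sylow p G) := Fintype.ofFinite _
    rw [← Fintype.two_lt_card_iff, ← Nat.card_eq_fintype_card, hn]
    omega
  refine ⟨⟨?_⟩, ?_, ?_, ?_, ?_⟩
  · intro g₁ g₂ h
    have h1 : ∀ Q : Sylow p G, (g₂⁻¹ * g₁) • Q = Q := by
      intro Q
      rw [mul_smul, h Q, inv_smul_smul]
    have h2 := z_three hz hC hn _ a b c hab hbc hac (h1 a) (h1 b) (h1 c)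
    exact (inv_mul_eq_one.1 h2).symm
  · rw [MulAction.is_two_pretransitive_iff]
    intro a b c d hab hcd
    obtain ⟨g, hg⟩ := MulAction.exists_smul_eq G a c
    have h1 : g • b ≠ c := by
      intro h
      rw [← hg] at h
      exact hab (smul_left_cancel g h).symm
    obtain ⟨u, hu, -⟩ := z_reg hz hC hn c (g • b) d h1 hcd.symm
    refine ⟨(u : G) * g, ?_, ?_⟩
    · rw [mul_smul, hg, z_smul_self u.2]
    · rw [mul_smul]; exact hu
  · intro g a b c hab hbc hac ha hb hc
    exact z_three hz hC hn g a b c hab hbc hac ha hb hc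
  · -- pigeonhole in the normalizer of `a`
    have hNcard : (1 + p) * Nat.card (normalizer ((a : Subgroup G) : Set G)) = Nat.card G := by
      rw [← hn, a.card_eq_index_normalizer]
      exact index_mul_card _
    by_contra hcon
    push Not at hcon
    have hinj : Function.Injective (fun n : normalizer ((a : Subgroup G) : Set G) =>
        (⟨(n : G) • b, by
          intro h
          apply hab
          have h0 : (n : G) • a = a := Sylow.smul_eq_iff_mem_normalizer.2 n.2
          exact (smul_left_cancel (n : G) (h.trans h0.symm)).symm⟩ : {Q : Sylow p G // Q ≠ a})) := by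
      intro n n' hnn
      have h1 : (n : G) • b = (n' : G) • b := congrArg Subtype.val hnn
      have h2 : ((n' : G)⁻¹ * (n : G)) • b = b := by rw [mul_smul, h1, inv_smul_smul]
      have h3 : ((n' : G)⁻¹ * (n : G)) • a = a :=
        Sylow.smul_eq_iff_mem_normalizer.2 (mul_mem (inv_mem n'.2) n.2)
      by_contra hne
      have h4 : (n' : G)⁻¹ * (n : G) ≠ 1 := by
        intro h
        exact hne (Subtype.ext (inv_mul_eq_one.1 h).symm)
      exact hcon _ h4 a b hab h3 h2
    have hle := Nat.card_le_card_of_injective _ hinj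
    have hcard : Nat.card {Q : Sylow p G // Q ≠ a} = p := by
      have h1 : Nat.card {Q : Sylow p G // Q ≠ a} = ({a}ᶜ : Set (Sylow p G)).ncard := rfl
      rw [h1, Set.ncard_compl, hn, Set.ncard_singleton]
      omega
    rw [hcard] at hle
    obtain ⟨k, rfl⟩ : ∃ k, p = k + 4 := ⟨p - 4, by omega⟩
    have h5 : k + 4 - 1 = k + 3 := by omega
    rw [h5, ← hNcard] at hG
    generalize Nat.card (normalizer ((a : Subgroup G) : Set G)) = m at hG hle
    have h6 : 2 * m = (k + 4) * (k + 3) := by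
      apply Nat.eq_of_mul_eq_mul_left (show 0 < k + 5 by omega)
      linarith
    nlinarith
  · intro N hN htr
    have hzN : z ∈ N := by
      -- `S = N ⊔ P₀` is normal
      have hS : (N ⊔ (P₀ : Subgroup G)).Normal := by
        constructor
        intro s hs g
        rw [← SetLike.mem_coe, normal_mul] at hs
        obtain ⟨n, hn', x, hx, rfl⟩ := Set.mem_mul.1 hs
        obtain ⟨n', hn''⟩ := MulAction.exists_smul_eq N P₀ (g • P₀)
        have h1 : g * x * g⁻¹ ∈ ((g • P₀ : Sylow p G) : Subgroup G) := by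
          rw [Sylow.coe_subgroup_smul, mem_pointwise_smul_iff_inv_smul_mem]
          have e1 : (MulAut.conj g)⁻¹ • (g * x * g⁻¹) = x := by
            simp [MulAut.smul_def, mul_assoc]
          rw [e1]
          exact hx
        rw [← hn''] at h1
        have h2 : ((n' • P₀ : Sylow p G) : Subgroup G) ≤ N ⊔ (P₀ : Subgroup G) := by
          intro y hy
          have hy' : y ∈ (((n' : G) • P₀ : Sylow p G) : Subgroup G) := hy
          rw [Sylow.coe_subgroup_smul, mem_pointwise_smul_iff_inv_smul_mem] at hy'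
          have h3 : (n' : G)⁻¹ * y * (n' : G) ∈ (P₀ : Subgroup G) := by
            simpa [MulAut.smul_def, MulAut.conj_apply, mul_assoc] using hy'
          have h4 : y = (n' : G) * ((n' : G)⁻¹ * y * (n' : G)) * (n' : G)⁻¹ := by group
          rw [h4]
          exact mul_mem (mul_mem (mem_sup_left n'.2) (mem_sup_right h3))
            (inv_mem (mem_sup_left n'.2))
        have h5 : g * (n * x) * g⁻¹ = (g * n * g⁻¹) * (g * x * g⁻¹) := by group
        rw [h5]
        exact mul_mem (mem_sup_left (hN.conj_mem n hn' g)) (h2 h1)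
      have hSp : p ∣ Nat.card (N ⊔ (P₀ : Subgroup G) : Subgroup G) := by
        have := Subgroup.card_dvd_of_le (le_sup_right : (P₀ : Subgroup G) ≤ N ⊔ (P₀ : Subgroup G))
        rwa [(z_sylow hz hC P₀).1] at this
      have hStop := sc_commutator_le hpf.out hz hC (N ⊔ (P₀ : Subgroup G)) hSp
      rw [hperf, top_le_iff] at hStop
      have hπ : ∀ g : G, ∃ x ∈ (P₀ : Subgroup G),
          (QuotientGroup.mk g : G ⧸ N) = QuotientGroup.mk x := by
        intro g
        have hg : g ∈ N ⊔ (P₀ : Subgroup G) := hStop ▸ mem_top g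
        rw [← SetLike.mem_coe, normal_mul] at hg
        obtain ⟨n, hn', x, hx, rfl⟩ := Set.mem_mul.1 hg
        refine ⟨x, hx, ?_⟩
        rw [QuotientGroup.mk_mul, (QuotientGroup.eq_one_iff n).2 hn', one_mul]
      have hcomm : commutator G ≤ N := by
        rw [_root_.commutator_def, Subgroup.commutator_le]
        intro g₁ _ g₂ _
        obtain ⟨x₁, hx₁, e₁⟩ := hπ g₁
        obtain ⟨x₂, hx₂, e₂⟩ := hπ g₂
        rw [← QuotientGroup.eq_one_iff, commutatorElement_def, QuotientGroup.mk_mul,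
          QuotientGroup.mk_mul, QuotientGroup.mk_mul, QuotientGroup.mk_inv, QuotientGroup.mk_inv,
          e₁, e₂, ← QuotientGroup.mk_inv, ← QuotientGroup.mk_inv, ← QuotientGroup.mk_mul,
          ← QuotientGroup.mk_mul, ← QuotientGroup.mk_mul]
        rw [hP₀] at hx₁ hx₂
        obtain ⟨i, rfl⟩ := mem_zpowers_iff.1 hx₁
        obtain ⟨j, rfl⟩ := mem_zpowers_iff.1 hx₂
        have : z ^ i * z ^ j * (z ^ i)⁻¹ * (z ^ j)⁻¹ = 1 := by
          rw [← zpow_add, ← zpow_neg, ← zpow_neg, ← zpow_add, ← zpow_add]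
          have : i + j + -i + -j = 0 := by ring
          rw [this, zpow_zero]
        rw [this, QuotientGroup.mk_one]
      rw [hperf, top_le_iff] at hcomm
      exact hcomm ▸ mem_top z
    refine ⟨P₀, ?_⟩
    intro hbot
    have h1 : (⟨z, hzN⟩ : N) ∈ MulAction.stabilizer N P₀ := by
      rw [MulAction.mem_stabilizer_iff]
      exact z_smul_self hzP
    rw [hbot, mem_bot] at h1
    exact hz1 (congrArg Subtype.val h1)

theorem z_cube_inj {a b : ℕ} (ha : 1 ≤ a) (hb : 1 ≤ b) (h : a * (a ^ 2 - 1) = b * (b ^ 2 - 1)) :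
    a = b := by
  have key : ∀ {a b : ℕ}, 1 ≤ a → a < b → a * (a ^ 2 - 1) < b * (b ^ 2 - 1) := by
    intro a b ha hab
    have h1 : a ^ 2 < b ^ 2 := Nat.pow_lt_pow_left hab (by norm_num)
    have h2 : 1 ≤ a ^ 2 := Nat.one_le_pow _ _ ha
    have h3 : a ^ 2 - 1 < b ^ 2 - 1 := by omega
    exact Nat.mul_lt_mul'' hab h3
  rcases lt_trichotomy a b with hab | hab | hab
  · exact absurd h (key ha hab).ne
  · exact hab
  · exact absurd h (key hb hab).ne'

end Cfsg.Agent.Lib.Helper69.BR

namespace Cfsg.Agent.Lib.Helper69.BR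

open Subgroup Cfsg.Agent.Lib.Helper78

theorem recog_n_one {G : Type*} [Group G] [Finite G] (hperf : commutator G = ⊤) (p : ℕ)
    [Fact p.Prime] (hp : 3 < p) (z : G) (hz : orderOf z = p)
    (hC : Subgroup.centralizer ({z} : Set G) = Subgroup.zpowers z)
    (hn : Nat.card (Sylow p G) = 1 + p) (hG : 2 * Nat.card G = (p + 1) * p * (p - 1)) :
    ∃ (F : Type) (_ : Field F) (_ : Fintype F), Fintype.card F = p ∧ 3 < p ∧
      Nonempty (G ≃* Matrix.ProjectiveSpecialLinearGroup (Fin 2) F) := by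
  obtain ⟨P₀, hP₀⟩ := sc_exists_sylow (Fact.out : p.Prime) hz hC
  have hZ := z_zassenhaus hperf hp hz hC hn hG
  have hFle : (P₀ : Subgroup G) ≤ MulAction.stabilizer G P₀ := by
    rw [Sylow.stabilizer_eq_normalizer]
    exact le_normalizer
  have hFn : ((P₀ : Subgroup G).subgroupOf (MulAction.stabilizer G P₀)).Normal := by
    rw [Sylow.stabilizer_eq_normalizer]
    exact normal_in_normalizer
  have hFab : IsMulCommutative (P₀ : Subgroup G) := by
    rw [hP₀]
    infer_instance
  rcases Cfsg.Agent.S0731.result hZ P₀ (P₀ : Subgroup G) hFle hFn hFab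
    (fun y w hy hw => z_reg hz hC hn P₀ y w hy hw) with ⟨h3, hst⟩ | ⟨K, _, _, hK, ⟨e⟩⟩
  · exfalso
    have : Fintype (Sylow p G) := Fintype.ofFinite _
    have hcardΩ : Fintype.card (Sylow p G) = 1 + p := by rw [← Nat.card_eq_fintype_card, hn]
    obtain ⟨t⟩ : Nonempty (Fin 3 ↪ Sylow p G) := by
      apply Function.Embedding.nonempty_of_card_le
      rw [Fintype.card_fin, hcardΩ]
      omega
    have : MulAction.IsPretransitive G (Fin 3 ↪ Sylow p G) := h3
    have h1 := MulAction.index_stabilizer_of_transitive G t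
    rw [hst t, index_bot, Nat.card_eq_fintype_card (α := Fin 3 ↪ Sylow p G),
      Fintype.card_embedding_eq, Fintype.card_fin, hcardΩ] at h1
    obtain ⟨k, rfl⟩ : ∃ k, p = k + 4 := ⟨p - 4, by omega⟩
    have h2 : (1 + (k + 4)).descFactorial 3 = (k + 5) * (k + 4) * (k + 3) := by
      have : 1 + (k + 4) = k + 5 := by ring
      rw [this]
      simp [Nat.descFactorial]
      ring
    have h5 : k + 4 - 1 = k + 3 := by omega
    rw [h1, h2, h5] at hG
    have h6 : 0 < (k + 5) * (k + 4) * (k + 3) := by positivity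
    have h7 : (k + 4 + 1) * (k + 4) * (k + 3) = (k + 5) * (k + 4) * (k + 3) := by ring
    omega
  · have h2 : (2 : K) ≠ 0 := by
      intro h
      apply hK
      have : CharP K 2 := CharTwo.of_one_ne_zero_of_two_eq_zero one_ne_zero h
      exact ringChar.eq K 2
    have h1 := Cfsg.Agent.Lib.Helper7.card_PSL2 (F := K) h2
    rw [← Nat.card_congr e.toEquiv] at h1
    refine ⟨K, inferInstance, inferInstance, ?_, hp, ⟨e⟩⟩
    apply z_cube_inj Fintype.card_pos (by omega)
    rw [← h1, mul_comm, hG]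
    obtain ⟨k, rfl⟩ : ∃ k, p = k + 4 := ⟨p - 4, by omega⟩
    have h5 : k + 4 - 1 = k + 3 := by omega
    have h6 : (k + 4) ^ 2 - 1 = (k + 5) * (k + 3) := by
      have : (k + 4) ^ 2 = (k + 5) * (k + 3) + 1 := by ring
      omega
    rw [h5, h6]
    ring

end Cfsg.Agent.Lib.Helper69.BR
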