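import Cfsg.Agent.Lib.Helper39.BG11Defs
import Cfsg.Agent.Lib.Helper54.CoprimeGen
import Cfsg.Agent.Lib.Helper66.FrobAct
import Cfsg.Agent.Lib.Helper12.Card

set_option autoImplicit false
set_option linter.unusedVariables false
set_option linter.unusedSectionVars false

/-! B-G S1417 ladder, rung 7. -/

namespace Cfsg.Agent.Lib.Helper69.BG11

open Subgroup Cfsg.Agent.Lib.Helper30 Cfsg.Agent.Lib.Helper39.BG11

universe u

variable {G : Type u} [Group G] [Finite G]

theorem eq_zpowers_of_card_prime {p : ℕ} [hp : Fact p.Prime] {X : Subgroup G} (hX : Nat.card X = p)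
    {a : G} (ha : a ∈ X) (ha1 : a ≠ 1) : X = zpowers a := by
  symm
  apply Subgroup.eq_of_le_of_card_ge (zpowers_le.2 ha)
  rw [hX, Nat.card_zpowers]
  have h1 : orderOf a ∣ p := by
    rw [← hX]
    have := orderOf_dvd_natCard (⟨a, ha⟩ : X)
    rwa [Subgroup.orderOf_mk] at this
  rcases (Nat.dvd_prime hp.out).1 h1 with h | h
  · exact absurd (orderOf_eq_one_iff.1 h) ha1
  · exact h.ge

theorem exists_ne_one_of_card_prime {p : ℕ} [hp : Fact p.Prime] {X : Subgroup G}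
    (hX : Nat.card X = p) : ∃ t ∈ X, t ≠ 1 := by
  by_contra hcon
  push Not at hcon
  have : X = ⊥ := (eq_bot_iff_forall X).2 hcon
  rw [this, card_bot] at hX
  exact hp.out.one_lt.ne hX

/-- a subgroup of `A` (of order `p ^ 2`) containing a subgroup `B` of order `p` and an element
outside `B` is `A`. -/
theorem eq_of_card_sq {p : ℕ} [hp : Fact p.Prime] {A B X : Subgroup G} (hA : Nat.card A = p ^ 2)
    (hB : Nat.card B = p) (hBX : B ≤ X) (hXA : X ≤ A) {a : G} (haX : a ∈ X) (haB : a ∉ B) :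
    X = A := by
  apply Subgroup.eq_of_le_of_card_ge hXA
  have h1 : Nat.card X ∣ p ^ 2 := hA ▸ card_dvd_of_le hXA
  obtain ⟨k, hk, hk2⟩ := (Nat.dvd_prime_pow hp.out).1 h1
  have h2 : p ≤ Nat.card X := hB ▸ card_le_of_le hBX
  have hk0 : k ≠ 0 := by
    rintro rfl
    rw [pow_zero] at hk2
    have := hp.out.one_lt
    omega
  have hk1 : k ≠ 1 := by
    rintro rfl
    rw [pow_one] at hk2
    have : B = X := Subgroup.eq_of_le_of_card_ge hBX (by rw [hk2, hB])
    exact haB (this ▸ haX)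
  have : k = 2 := by omega
  rw [hA, hk2, this]

theorem not_isCyclic_of_ea' {t : ℕ} [ht : Fact t.Prime] {D : Subgroup G}
    (hD : Cfsg.IsElementaryAbelian t D) (hc : t ^ 2 ≤ Nat.card D) : ¬ IsCyclic D := by
  intro hcyc
  obtain ⟨g, hg⟩ := hcyc.exists_generator
  have h1 : Nat.card D = orderOf g := (orderOf_eq_card_of_forall_mem_zpowers hg).symm
  have h2 : orderOf g ∣ t := orderOf_dvd_of_pow_eq_one (Subtype.ext (hD.2 g g.2))
  have h3 := Nat.le_of_dvd ht.out.pos h2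
  have h4 : t ^ 1 < t ^ 2 := Nat.pow_lt_pow_right ht.out.one_lt (by norm_num)
  rw [pow_one] at h4
  omega

theorem le_of_forall_sylow {S Z : Subgroup G}
    (h : ∀ (q : ℕ) [Fact q.Prime], ∃ Q, IsSylowIn q Q S ∧ Q ≤ Z) : S ≤ Z := by
  have h1 : ∀ q : ℕ, q.Prime → ¬ q ∣ Z.relIndex S := by
    intro q hq hdvd
    have : Fact q.Prime := ⟨hq⟩
    obtain ⟨Q, hQ, hQZ⟩ := h q
    exact hQ.not_dvd (hdvd.trans (relIndex_dvd_of_le_left S hQZ))
  exact relIndex_eq_one.mp (Nat.eq_one_iff_not_exists_prime_dvd.mpr h1)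

theorem s7 (hG : Cfsg.IsMinSimpleOddOrder G) (h11 : T11 G) : S7 G := by
  intro M p _ A A₀ r _ R h hr hrp hRM hRr hAR hRA
  have hpp : p.Prime := Fact.out
  have hrr : r.Prime := Fact.out
  have res := h11 M p A A₀ h
  obtain ⟨A₁, A₂, hA₁, hA₂, hc₁, hc₂, hne, hf₁, hf₂⟩ := res.fpf2
  obtain ⟨S, hS⟩ : ∃ S, S = Cfsg.sigmaCore M := ⟨_, rfl⟩
  rw [← hS] at hf₁ hf₂ ⊢
  have hSM : S ≤ M := hS ▸ Helper28.BG12.sigmaCore_le M
  have hMS : M ≤ normalizer (S : Set G) := hS ▸ Helper28.BG12.le_normalizer_sigmaCore M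
  have hShall : Cfsg.IsPiHallOf (Cfsg.sigma M) S M := hS ▸ Helper28.BG12.sigmaCore_hall hG h.max
  have hMsol : Group.IsSolvable M := solvable_of_ne_top hG h.max.1
  have hAcomm : IsMulCommutative A := h.ea.1
  have hAnc : ¬ IsCyclic A := not_isCyclic_of_ea' h.ea h.card.ge
  have hcop : (Nat.card A).Coprime (Nat.card R) := by
    obtain ⟨k, hk⟩ := IsPGroup.iff_card.mp hRr
    rw [h.card, hk]
    exact Nat.Coprime.pow _ _ ((Nat.coprime_primes hpp hrr).2 (Ne.symm hrp))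
  have hgen := Helper54.iSup_inf_centralizer_eq_of_not_isCyclic A R hAnc hAR hcop
  rw [← hgen]
  apply iSup₂_le
  rintro a ⟨haA, ha1⟩
  obtain ⟨K, hK⟩ : ∃ K, K = R ⊓ centralizer {a} := ⟨_, rfl⟩
  rw [← hK]
  have hKR : K ≤ R := hK ▸ inf_le_left
  have hKa : ∀ k ∈ K, k * a = a * k := by
    intro k hk
    rw [hK] at hk
    exact mem_centralizer_singleton_iff.1 (mem_inf.1 hk).2
  obtain ⟨B, hBA, hBc, haB, hfB⟩ : ∃ B ≤ A, Nat.card B = p ∧ a ∉ B ∧
      S ⊓ centralizer (B : Set G) = ⊥ := by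
    by_cases h1 : a ∈ A₁
    · refine ⟨A₂, hA₂, hc₂, ?_, hf₂⟩
      intro h2
      exact hne ((eq_zpowers_of_card_prime hc₁ h1 ha1).trans
        (eq_zpowers_of_card_prime hc₂ h2 ha1).symm)
    · exact ⟨A₁, hA₁, hc₁, h1, hf₁⟩
  obtain ⟨t, htB, ht1⟩ := exists_ne_one_of_card_prime hBc
  have hBt : B = zpowers t := eq_zpowers_of_card_prime hBc htB ht1
  have htA : t ∈ A := hBA htB
  have htp : t ^ p = 1 := h.ea.2 t htA
  have hta : t * a = a * t := Helper2.ea_comm h.ea htA haA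
  have htK : ∀ k ∈ K, t * k * t⁻¹ ∈ K := by
    intro k hk
    rw [hK]
    refine mem_inf.2 ⟨(mem_normalizer_iff.1 (hAR htA) _).1 (hKR hk), ?_⟩
    rw [mem_centralizer_singleton_iff]
    have h1 : t⁻¹ * a = a * t⁻¹ := by
      calc t⁻¹ * a = t⁻¹ * (a * t) * t⁻¹ := by group
        _ = t⁻¹ * (t * a) * t⁻¹ := by rw [hta]
        _ = a * t⁻¹ := by group
    calc t * k * t⁻¹ * a = t * k * (t⁻¹ * a) := by group
      _ = t * (k * a) * t⁻¹ := by rw [h1]; group
      _ = (t * a) * k * t⁻¹ := by rw [hKa k hk]; group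
      _ = a * (t * k * t⁻¹) := by rw [hta]; group
  have hfK : ∀ k ∈ K, t * k * t⁻¹ = k → k = 1 := by
    intro k hk hkt
    have h1 : A ⊓ centralizer {k} = A := by
      apply eq_of_card_sq h.card hBc _ inf_le_left (a := a) _ haB
      · rw [hBt, zpowers_le]
        refine mem_inf.2 ⟨htA, ?_⟩
        rw [mem_centralizer_singleton_iff]
        exact mul_inv_eq_iff_eq_mul.1 hkt
      · refine mem_inf.2 ⟨haA, ?_⟩
        rw [mem_centralizer_singleton_iff]
        exact (hKa k hk).symm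
    have h2 : k ∈ R ⊓ centralizer (A : Set G) := by
      refine mem_inf.2 ⟨hKR hk, ?_⟩
      rw [mem_centralizer_iff]
      intro b hb
      rw [← h1] at hb
      exact mem_centralizer_singleton_iff.1 (mem_inf.1 hb).2
    rw [hRA, mem_bot] at h2
    exact h2
  have hKr : IsPGroup r K := hRr.to_le hKR
  obtain ⟨D, hD⟩ : ∃ D, D = zpowers t ⊔ K := ⟨_, rfl⟩
  have htNK : zpowers t ≤ normalizer (K : Set G) := by
    rw [zpowers_le]
    apply Helper28.BG12.mem_normalizer_of_cj_le'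
    rintro _ ⟨k, hk, rfl⟩
    exact htK k hk
  have hDM : D ≤ M := hD ▸ sup_le (zpowers_le.2 (h.le htA)) (hKR.trans hRM)
  have hDcop : (Nat.card D).Coprime (Nat.card S) := by
    apply Nat.coprime_of_dvd
    intro k hk hkD hkS
    have hkσ : k ∈ Cfsg.sigma M := hShall.2.1 k hk hkS
    have h1 := Helper12.card_sup_mul_card_inf' (zpowers t) K htNK
    rw [← hD] at h1
    have h2 : k ∣ Nat.card (zpowers t) * Nat.card K := by
      rw [← h1]
      exact Dvd.dvd.mul_right hkD _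
    rcases (Nat.Prime.dvd_mul hk).1 h2 with h3 | h3
    · rw [← hBt, hBc] at h3
      rw [(Nat.prime_dvd_prime_iff_eq hk hpp).1 h3] at hkσ
      exact h.ns hkσ
    · rw [Helper28.BG12.prime_dvd_card_isPGroup hKr hk h3] at hkσ
      exact hr hkσ
  rw [le_centralizer_iff]
  have hfin : S ≤ S ⊓ centralizer (K : Set G) := by
    apply le_of_forall_sylow
    intro q _
    have hqq : q.Prime := Fact.out
    obtain ⟨Q, hQ, hDQ⟩ := exists_invariant_isSylowIn (hDM.trans hMS) hDcop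
      (Or.inl (isSolvable_of_le hDM hMsol)) q
    refine ⟨Q, hQ, le_inf hQ.le ?_⟩
    by_cases hQ1 : Q = ⊥
    · rw [hQ1]; exact bot_le
    have hqQ : q ∣ Nat.card Q := dvd_card_of_isPGroup_ne_bot hQ.isPGroup hQ1
    have hqσ : q ∈ Cfsg.sigma M := hShall.2.1 q hqq (hqQ.trans (card_dvd_of_le hQ.le))
    have hpq : p ≠ q := fun e => h.ns (e ▸ hqσ)
    have hrq : r ≠ q := fun e => hr (e ▸ hqσ)
    have hKQ : K ≤ normalizer (Q : Set G) := le_trans (hD ▸ le_sup_right) hDQ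
    have htQ : t ∈ normalizer (Q : Set G) := hDQ (hD ▸ mem_sup_left (mem_zpowers t))
    have hfP : ∀ u ∈ Q, t * u * t⁻¹ = u → u = 1 := by
      intro u hu hut
      have h2 : u ∈ S ⊓ centralizer (B : Set G) := by
        refine mem_inf.2 ⟨hQ.le hu, ?_⟩
        rw [hBt, mem_centralizer_iff]
        intro b hb
        obtain ⟨i, rfl⟩ := mem_zpowers_iff.1 hb
        exact ((show Commute t u from mul_inv_eq_iff_eq_mul.1 hut).zpow_left i).eq
      rw [hfB, mem_bot] at h2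
      exact h2
    have hcop' : (Nat.card K).Coprime (Nat.card Q) := by
      obtain ⟨i, hi⟩ := IsPGroup.iff_card.mp hKr
      obtain ⟨j, hj⟩ := IsPGroup.iff_card.mp hQ.isPGroup
      rw [hi, hj]
      exact Nat.Coprime.pow _ _ ((Nat.coprime_primes hrr hqq).2 hrq)
    have key := Helper66.frob_centralizes Q K t p q hpp hpq htp hQ.isPGroup hKQ htQ htK hfK hfP hcop'
    intro u hu
    rw [mem_centralizer_iff]
    intro k hk
    exact key k hk u hu
  exact hfin.trans inf_le_right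

end Cfsg.Agent.Lib.Helper69.BG11
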