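import Cfsg.Agent.Lib.Helper39.BG11Defs
import Cfsg.Agent.Lib.Helper58.BG12a
import Cfsg.Agent.S1415

set_option autoImplicit false
set_option linter.unusedVariables false
set_option linter.unusedSectionVars false

/-! B-G S1417 ladder, rung 8. -/

namespace Cfsg.Agent.Lib.Helper69.BG11

open Subgroup Cfsg.Agent.Lib.Helper30 Cfsg.Agent.Lib.Helper39.BG11

universe u

variable {G : Type u} [Group G] [Finite G]

theorem s8 (hG : Cfsg.IsMinSimpleOddOrder G) : S8 G := by
  intro M r _ R hM hr hRM hRr hRS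
  by_contra hR1
  have hrr : r.Prime := Fact.out
  obtain ⟨-, hrσ, hrM', hrank⟩ := id hr
  have hMsol : Group.IsSolvable M := solvable_of_ne_top hG hM.1
  obtain ⟨E, hE, hRE⟩ := Helper28.BG12.exists_compl_ge hG hM hRM (by
    intro q hq hqR
    rw [Helper28.BG12.prime_dvd_card_isPGroup hRr hq hqR]
    exact hrσ)
  have hEM : E ≤ M := hE.1
  have hEsol : Group.IsSolvable E := isSolvable_of_le hEM hMsol
  obtain ⟨E₃, hE₃, -, hRE₃⟩ := Helper66.exists_invariant_isPiHallOf_ge (π := Cfsg.tau3 M)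
    (A := ⊥) (G := E) (U := R) bot_le (by rw [card_bot]; exact Nat.coprime_one_left _) hEsol hRE
    bot_le (by
      intro q hq hqR
      rw [Helper28.BG12.prime_dvd_card_isPGroup hRr hq hqR]
      exact hr)
  obtain ⟨hcyc, -, hEN⟩ := (Cfsg.Agent.S1415.result hG M hM E hE).2.2 E₃ hE₃
  have hER : E ≤ normalizer (R : Set G) :=
    hEN.trans (Helper58.BG12.normalizer_le_normalizer_of_isCyclic hcyc hRE₃)
  have hSR : Cfsg.sigmaCore M ≤ normalizer (R : Set G) :=
    (le_centralizer_iff.1 hRS).trans (centralizer_le_normalizer' R)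
  have hMR : M ≤ normalizer (R : Set G) := by
    intro m hm
    obtain ⟨a, ha, b, hb, rfl⟩ := hE.2.2.2 m hm
    exact mul_mem (hER ha) (hSR hb)
  have hRtop : R ≠ ⊤ := fun h => hM.1 (top_le_iff.1 (h ▸ hRM))
  have hNR : normalizer (R : Set G) = M :=
    ((hM.le_iff.1 hMR).resolve_left (normalizer_ne_top hG hR1 hRtop))
  obtain ⟨T, hT, hRT⟩ := exists_isSylowIn_ge hRE₃ hRr
  have hTcyc : IsCyclic T := by
    have : IsCyclic E₃ := hcyc
    have h1 : IsCyclic (T.subgroupOf E₃) := inferInstance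
    exact isCyclic_of_surjective (subgroupOfEquivOfLe hT.le).toMonoidHom
      (subgroupOfEquivOfLe hT.le).surjective
  have hTM : IsSylowIn r T M := by
    refine ⟨hT.le.trans (hE₃.1.trans hEM), hT.isPGroup, ?_⟩
    rw [← relIndex_mul_relIndex T E₃ M hT.le (hE₃.1.trans hEM),
      ← relIndex_mul_relIndex E₃ E M hE₃.1 hEM, ← Helper28.BG12.card_compl' hE]
    intro hdvd
    rcases (Nat.Prime.dvd_mul hrr).1 hdvd with h1 | h1
    · exact hT.not_dvd h1
    · rcases (Nat.Prime.dvd_mul hrr).1 h1 with h2 | h2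
      · exact hE₃.2.2 r hrr hr h2
      · exact hrσ ((Helper28.BG12.sigmaCore_hall hG hM).2.1 r hrr h2)
  have hT1 : T ≠ ⊥ := fun h => hR1 (le_bot_iff.1 (h ▸ hRT))
  have hNT : normalizer (T : Set G) ≤ M :=
    (Helper58.BG12.normalizer_le_normalizer_of_isCyclic hTcyc hRT).trans hNR.le
  exact hrσ (Helper68.mem_sigma_of_normalizer_le hTM hT1 hNT)

end Cfsg.Agent.Lib.Helper69.BG11
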