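import Mathlib
import Cfsg.Agent.Lib.Helper12.CITMain
import Cfsg.Agent.Lib.Helper12.S3TWrap

set_option autoImplicit false
set_option linter.unusedVariables false
set_option linter.unusedSectionVars false

/-! BR ladder (Brauer–Reynolds), rung CITR: recognition of `PSL(2,2^m)`. -/

namespace Cfsg.Agent.Lib.Helper69.BR

open Subgroup

theorem citr_index_centralizer {G : Type*} [Group G] (t : G) :
    (centralizer ({t} : Set G)).index = Nat.card {z : G // IsConj t z} := by
  unfold Subgroup.index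
  let f : G ⧸ centralizer ({t} : Set G) → {z : G // IsConj t z} :=
    Quotient.lift (fun g : G => (⟨g * t * g⁻¹, isConj_iff.2 ⟨g, rfl⟩⟩ : {z : G // IsConj t z})) (by
      intro a b hab
      have h1 : a⁻¹ * b ∈ centralizer ({t} : Set G) := QuotientGroup.leftRel_apply.1 hab
      rw [mem_centralizer_singleton_iff] at h1
      apply Subtype.ext
      show a * t * a⁻¹ = b * t * b⁻¹
      calc a * t * a⁻¹ = a * (t * (a⁻¹ * b)) * b⁻¹ := by group
        _ = a * (a⁻¹ * b * t) * b⁻¹ := by rw [h1]
        _ = b * t * b⁻¹ := by group)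
  apply Nat.card_congr
  refine Equiv.ofBijective f ⟨?_, ?_⟩
  · intro x y
    induction x using Quotient.inductionOn with
    | _ a =>
      induction y using Quotient.inductionOn with
      | _ b =>
        intro hab
        have h1 : a * t * a⁻¹ = b * t * b⁻¹ := congrArg Subtype.val hab
        apply Quotient.sound
        apply QuotientGroup.leftRel_apply.2
        rw [mem_centralizer_singleton_iff]
        calc a⁻¹ * b * t = a⁻¹ * (b * t * b⁻¹) * b := by group
          _ = a⁻¹ * (a * t * a⁻¹) * b := by rw [h1]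
          _ = t * (a⁻¹ * b) := by group
  · rintro ⟨z, hz⟩
    obtain ⟨g, hg⟩ := isConj_iff.1 hz
    exact ⟨Quotient.mk _ g, Subtype.ext hg⟩

theorem citr_comm_of_exp {G : Type*} [Group G] {C : Subgroup G} (h : ∀ c ∈ C, c ^ 2 = 1) :
    IsMulCommutative C := by
  refine ⟨⟨fun x y => Subtype.ext ?_⟩⟩
  have h1 := h x x.2
  have h2 := h y y.2
  have h3 := h (x * y) (mul_mem x.2 y.2)
  rw [pow_two] at h1 h2 h3
  have hxi : (x : G)⁻¹ = x := inv_eq_of_mul_eq_one_left h1
  have hyi : (y : G)⁻¹ = y := inv_eq_of_mul_eq_one_left h2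
  have hxyi : ((x : G) * y)⁻¹ = x * y := inv_eq_of_mul_eq_one_left h3
  show (x : G) * y = y * x
  calc (x : G) * y = ((x : G) * y)⁻¹ := hxyi.symm
    _ = (y : G)⁻¹ * (x : G)⁻¹ := mul_inv_rev _ _
    _ = y * x := by rw [hxi, hyi]

theorem cit_recog {G : Type*} [Group G] [Finite G] (p : ℕ) [Fact p.Prime] (hp : 5 < p) (w : G)
    (hw : orderOf w = 2)
    (hL : ∀ l ∈ Subgroup.centralizer ({w} : Set G), l ≠ 1 → IsConj w l)
    (hcard : Nat.card (Subgroup.centralizer ({w} : Set G)) = p - 1)
    (hG : Nat.card G = p * (p - 1) * (p - 2)) :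
    ∃ (m : ℕ) (F : Type) (_ : Field F) (_ : Fintype F), Fintype.card F = 2 ^ m ∧ p = 2 ^ m + 1 ∧
      3 < p ∧ Nonempty (G ≃* Matrix.ProjectiveSpecialLinearGroup (Fin 2) F) := by
  have : Fact (Nat.Prime 2) := ⟨Nat.prime_two⟩
  have hpodd : Odd p := (Fact.out : p.Prime).odd_of_ne_two (by omega)
  have hexp : ∀ c ∈ centralizer ({w} : Set G), c ^ 2 = 1 := by
    intro c hc
    by_cases hc1 : c = 1
    · rw [hc1, one_pow]
    · obtain ⟨g, hg⟩ := isConj_iff.1 (hL c hc hc1)
      rw [← hg, pow_two]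
      have hw2 : w * w = 1 := by rw [← pow_two, ← hw]; exact pow_orderOf_eq_one w
      calc g * w * g⁻¹ * (g * w * g⁻¹) = g * (w * w) * g⁻¹ := by group
        _ = 1 := by rw [hw2]; group
  have hpg : IsPGroup 2 (centralizer ({w} : Set G)) := by
    intro c
    refine ⟨1, ?_⟩
    apply Subtype.ext
    rw [pow_one]
    exact hexp c c.2
  have hidx : (centralizer ({w} : Set G)).index = p * (p - 2) := by
    have h1 := (centralizer ({w} : Set G)).index_mul_card
    rw [hcard, hG] at h1
    have h2 : p * (p - 1) * (p - 2) = p * (p - 2) * (p - 1) := by ring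
    rw [h2] at h1
    exact Nat.eq_of_mul_eq_mul_right (by omega) h1
  have hnd : ¬ 2 ∣ (centralizer ({w} : Set G)).index := by
    rw [hidx, Nat.Prime.dvd_mul Nat.prime_two]
    obtain ⟨k, hk⟩ := hpodd
    omega
  obtain ⟨T, hT⟩ : ∃ T : Sylow 2 G, (T : Subgroup G) = centralizer ({w} : Set G) :=
    ⟨hpg.toSylow hnd, rfl⟩
  have hnc : ¬ IsCyclic (T : Subgroup G) := by
    rw [hT]
    intro hcyc
    obtain ⟨g, hg⟩ := hcyc.exists_generator
    have h1 := orderOf_eq_card_of_forall_mem_zpowers hg
    have h2 : orderOf g ∣ 2 := by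
      apply orderOf_dvd_of_pow_eq_one
      apply Subtype.ext
      exact hexp g g.2
    have h3 := Nat.le_of_dvd (by norm_num) h2
    rw [h1, hcard] at h3
    omega
  have hnn : ¬ (T : Subgroup G).Normal := by
    rw [hT]
    intro hn
    have hwC : w ∈ centralizer ({w} : Set G) := by rw [mem_centralizer_singleton_iff]
    have hinj : Function.Injective (fun z : {z : G // IsConj w z} =>
        (⟨z.1, by
          obtain ⟨g, hg⟩ := isConj_iff.1 z.2
          rw [← hg]
          exact hn.conj_mem w hwC g⟩ : centralizer ({w} : Set G))) := by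
      intro a b hab
      exact Subtype.ext (congrArg (fun x : centralizer ({w} : Set G) => (x : G)) hab)
    have hle := Nat.card_le_card_of_injective _ hinj
    rw [← citr_index_centralizer, hidx, hcard] at hle
    obtain ⟨k, rfl⟩ : ∃ k, p = k + 6 := ⟨p - 6, by omega⟩
    have e1 : k + 6 - 2 = k + 4 := by omega
    have e2 : k + 6 - 1 = k + 5 := by omega
    rw [e1, e2] at hle
    nlinarith
  have hconj : ∀ t : G, orderOf t = 2 → IsConj w t := by
    intro t ht
    have hpt : IsPGroup 2 (zpowers t) := by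
      apply IsPGroup.of_card (n := 1)
      rw [Nat.card_zpowers, ht, pow_one]
    obtain ⟨R, hR⟩ := hpt.exists_le_sylow
    obtain ⟨g, hg⟩ := MulAction.exists_smul_eq G T R
    have h1 : t ∈ ((g • T : Sylow 2 G) : Subgroup G) := by rw [hg]; exact hR (mem_zpowers t)
    rw [Sylow.coe_subgroup_smul, mem_pointwise_smul_iff_inv_smul_mem, hT] at h1
    have h2 : g⁻¹ * t * g ∈ centralizer ({w} : Set G) := by
      simpa [MulAut.smul_def, MulAut.conj_apply] using h1
    have h3 : g⁻¹ * t * g ≠ 1 := by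
      intro h
      have : t = 1 := by
        calc t = g * (g⁻¹ * t * g) * g⁻¹ := by group
          _ = 1 := by rw [h]; group
      rw [this, orderOf_one] at ht
      omega
    have h4 := hL _ h2 h3
    refine h4.trans (isConj_iff.2 ⟨g, by group⟩)
  have hC : ∀ t : G, orderOf t = 2 → IsMulCommutative (centralizer ({t} : Set G)) ∧
      ∀ c ∈ centralizer ({t} : Set G), c ^ 2 = 1 := by
    intro t ht
    have h1 : ∀ c ∈ centralizer ({t} : Set G), c ^ 2 = 1 := by
      intro c hc
      rw [mem_centralizer_singleton_iff] at hc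
      obtain ⟨a, ha⟩ := isConj_iff.1 (hconj t ht)
      have h2 : a⁻¹ * c * a ∈ centralizer ({w} : Set G) := by
        rw [mem_centralizer_singleton_iff]
        have hwt : w = a⁻¹ * t * a := by rw [← ha]; group
        rw [hwt]
        calc a⁻¹ * c * a * (a⁻¹ * t * a) = a⁻¹ * (c * t) * a := by group
          _ = a⁻¹ * (t * c) * a := by rw [hc]
          _ = a⁻¹ * t * a * (a⁻¹ * c * a) := by group
      have h3 := hexp _ h2
      have h4 : (a⁻¹ * c * a) ^ 2 = a⁻¹ * c ^ 2 * a := by
        rw [pow_two, pow_two]; group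
      rw [h4] at h3
      calc c ^ 2 = a * (a⁻¹ * c ^ 2 * a) * a⁻¹ := by group
        _ = 1 := by rw [h3]; group
    exact ⟨citr_comm_of_exp h1, h1⟩
  obtain ⟨F, iF, iFt, hch, hcF, hE⟩ := Cfsg.Agent.Lib.Helper12.CIT.main T hnc hnn hC
  obtain ⟨m, -, hm⟩ := Cfsg.Agent.Lib.Helper12.S3T.card_pow_two F
  refine ⟨m, F, iF, iFt, hm, ?_, by omega, hE⟩
  have h1 : Nat.card T = p - 1 := by
    have : Nat.card T = Nat.card (T : Subgroup G) := rfl
    rw [this, hT, hcard]
  rw [hm, h1] at hcF
  omega

end Cfsg.Agent.Lib.Helper69.BR
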