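import Mathlib

set_option autoImplicit false

/-! BSW ladder, rung BURN. -/

namespace Cfsg.Agent.Lib.Helper69.BSW

open Subgroup

theorem pclosed_of_burnside {M : Type*} [Group M] [Finite M] (p : ℕ) [Fact p.Prime]
    (h : ∀ r : ℕ, r.Prime → r ≠ p → ∀ R : Sylow r M,
      Subgroup.normalizer ((R : Subgroup M) : Set M) ≤
        Subgroup.centralizer ((R : Subgroup M) : Set M)) :
    ∀ P P' : Sylow p M, P = P' := by
  -- for every prime `r ≠ p` a normal subgroup of order prime to `r` containing all `p`-subgroups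
  have hex : ∀ r : ℕ, r.Prime → r ≠ p → ∃ N : Subgroup M, ¬ r ∣ Nat.card N ∧
      ∀ X : Subgroup M, IsPGroup p X → X ≤ N := by
    intro r hr hrp
    have : Fact r.Prime := ⟨hr⟩
    obtain ⟨R⟩ : Nonempty (Sylow r M) := inferInstance
    refine ⟨(MonoidHom.transferSylow R (h r hr hrp R)).ker,
      MonoidHom.not_dvd_card_ker_transferSylow R (h r hr hrp R), ?_⟩
    intro X hX
    rw [← Subgroup.map_eq_bot_iff]
    have h1 : IsPGroup p (X.map (MonoidHom.transferSylow R (h r hr hrp R))) := hX.map _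
    have h2 : IsPGroup r (⊤ : Subgroup R) := R.2.to_subgroup ⊤
    exact disjoint_top.1 (IsPGroup.disjoint_of_ne p r (Ne.symm hrp) _ _ h1 h2)
  choose! N hN1 hN2 using hex
  obtain ⟨N₀, hN₀⟩ : ∃ N₀, N₀ = ⨅ r : {r : ℕ // r.Prime ∧ r ≠ p}, N r.1 := ⟨_, rfl⟩
  have hle : ∀ X : Subgroup M, IsPGroup p X → X ≤ N₀ := by
    intro X hX
    rw [hN₀]
    exact le_iInf fun r => hN2 r.1 r.2.1 r.2.2 X hX
  have hp : IsPGroup p N₀ := by
    apply IsPGroup.of_card (n := (Nat.card N₀).primeFactorsList.length)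
    apply Nat.eq_prime_pow_of_unique_prime_dvd Nat.card_pos.ne'
    intro d hd hdN
    by_contra hdp
    apply hN1 d hd hdp
    refine hdN.trans (card_dvd_of_le ?_)
    rw [hN₀]
    exact iInf_le (fun r : {r : ℕ // r.Prime ∧ r ≠ p} => N r.1) ⟨d, hd, hdp⟩
  intro P P'
  apply Sylow.ext
  rw [← P.3 hp (hle P P.2), ← P'.3 hp (hle P' P'.2)]

theorem comm_of_burnside {M : Type*} [Group M] [Finite M]
    (h : ∀ r : ℕ, r.Prime → ∀ R : Sylow r M,
      Subgroup.normalizer ((R : Subgroup M) : Set M) ≤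
        Subgroup.centralizer ((R : Subgroup M) : Set M)) :
    ∀ a b : M, a * b = b * a := by
  have hc : ∀ r : ℕ, r.Prime → ∀ R : Sylow r M, (R : Subgroup M) ≤ center M := by
    intro r hr R
    have : Fact r.Prime := ⟨hr⟩
    have : Subsingleton (Sylow r M) :=
      ⟨pclosed_of_burnside r (fun r' hr' _ R' => h r' hr' R')⟩
    have hn : (R : Subgroup M).Normal := Sylow.normal_of_subsingleton R
    have h1 := h r hr R
    rw [normalizer_eq_top] at h1
    intro x hx
    rw [mem_center_iff]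
    intro g
    exact (mem_centralizer_iff.1 (h1 (mem_top g)) x hx).symm
  have hidx : (center M).index = 1 := by
    rw [Nat.eq_one_iff_not_exists_prime_dvd]
    intro r hr hdvd
    have : Fact r.Prime := ⟨hr⟩
    obtain ⟨R⟩ : Nonempty (Sylow r M) := inferInstance
    exact R.not_dvd_index (hdvd.trans (index_dvd_of_le (hc r hr R)))
  rw [index_eq_one] at hidx
  intro a b
  have : b ∈ center M := hidx ▸ mem_top b
  exact (mem_center_iff.1 this a)

end Cfsg.Agent.Lib.Helper69.BSW
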