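import Mathlib

set_option autoImplicit false

/-! BSW ladder, rung HALL. -/

namespace Cfsg.Agent.Lib.Helper69.BSW

open scoped Pointwise

theorem exists_conj_mem_of_hall {G : Type*} [Group G] [Finite G] (B : Subgroup G) (r : ℕ)
    [Fact r.Prime] (h : (Nat.card B).factorization r = (Nat.card G).factorization r) (z : G)
    (hz : ∃ k : ℕ, orderOf z = r ^ k) : ∃ g : G, g * z * g⁻¹ ∈ B := by
  obtain ⟨R⟩ : Nonempty (Sylow r B) := inferInstance
  -- the image of `R` in `G` is a Sylow subgroup of `G`
  have hRp : IsPGroup r ((R : Subgroup B).map B.subtype) := R.2.map _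
  have hcard : Nat.card ((R : Subgroup B).map B.subtype) = r ^ (Nat.card G).factorization r := by
    rw [Subgroup.card_map_of_injective B.subtype_injective, ← h]
    exact R.card_eq_multiplicity
  let S : Sylow r G := Sylow.ofCard _ hcard
  have hS : (S : Subgroup G) = (R : Subgroup B).map B.subtype := rfl
  have hzp : IsPGroup r (Subgroup.zpowers z) := by
    obtain ⟨k, hk⟩ := hz
    apply IsPGroup.of_card (n := k)
    rw [Nat.card_zpowers, hk]
  obtain ⟨P, hP⟩ := hzp.exists_le_sylow
  obtain ⟨g, hg⟩ := MulAction.exists_smul_eq G P S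
  refine ⟨g, ?_⟩
  have h1 : g * z * g⁻¹ ∈ (g • P : Sylow r G) := by
    show g * z * g⁻¹ ∈ (MulAut.conj g • (P : Subgroup G))
    exact Subgroup.smul_mem_pointwise_smul z (MulAut.conj g) _ (hP (Subgroup.mem_zpowers z))
  rw [hg] at h1
  have h2 : g * z * g⁻¹ ∈ (S : Subgroup G) := h1
  rw [hS] at h2
  exact Subgroup.map_subtype_le _ h2

end Cfsg.Agent.Lib.Helper69.BSW
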