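import Cfsg.Agent.Lib.Helper53.JC2Defs
import Cfsg.Agent.Lib.Helper53.JCBasic
import Cfsg.Agent.Lib.Helper53.WeakClosed

set_option autoImplicit false
set_option linter.unusedVariables false
set_option linter.unusedSectionVars false

/-! K-S ch. 12, part 2 (ladder JC2): rungs K2, K2X and HYP. -/

namespace Cfsg.Agent.Lib.Helper69.JC2

open Cfsg Subgroup Cfsg.Agent.Lib.Helper53 Cfsg.Agent.Lib.Helper53.JC Cfsg.Agent.Lib.Helper53.JC2

variable {G : Type*} [Group G] [Finite G]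

theorem isTwoLocal_cjj {N : Subgroup G} (g : G) (h : IsTwoLocal N) : IsTwoLocal (cjj g N) := by
  obtain ⟨T, hT, hT1, rfl⟩ := h
  refine ⟨cjj g T, isPGroup_cj hT g, ?_, (normalizer_cj T g).symm⟩
  intro h
  exact hT1 (cj_eq_bot_iff.1 h)

theorem isMaximalTwoLocal_cjj {M : Subgroup G} (g : G) (h : IsMaximalTwoLocal M) :
    IsMaximalTwoLocal (cjj g M) := by
  refine ⟨isTwoLocal_cjj g h.1, ?_⟩
  intro N hN hMN
  have h1 : M ≤ cjj g⁻¹ N := by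
    have : cjj g⁻¹ (cjj g M) ≤ cjj g⁻¹ N := cj_mono g⁻¹ hMN
    rwa [cjj_inv_cjj] at this
  have h2 := h.2 _ (isTwoLocal_cjj g⁻¹ hN) h1
  rw [← h2, cjj_cjj_inv]

theorem k2 {S : Sylow 2 G} {T K L : Subgroup G} (hL : IsMaximalTwoLocal L) (hKL : K ⊔ JJ T ≤ L)
    (f : AF S T K L) {m : G} (hm : m ∈ normalizer (JJ T : Set G)) (hmL : m ∉ L) :
    IsJComponent T (cjj m K) ∧ ¬ cjj m K ≤ L := by
  refine ⟨isJComponent_cj_of_mem_normalizer hm f.jc, ?_⟩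
  intro hle
  have h1 : K ≤ cjj m⁻¹ L := by
    have : cjj m⁻¹ (cjj m K) ≤ cjj m⁻¹ L := cj_mono m⁻¹ hle
    rwa [cjj_inv_cjj] at this
  have h2 : JJ T ≤ cjj m⁻¹ L := by
    have h3 : cjj m⁻¹ (JJ T) = JJ T := cj_eq_self_iff.2 (inv_mem hm)
    rw [← h3]
    exact cj_mono m⁻¹ (le_sup_right.trans hKL)
  have h4 := f.uniq _ (isMaximalTwoLocal_cjj m⁻¹ hL) (sup_le h1 h2)
  have h5 : m⁻¹ ∈ normalizer (L : Set G) := cj_eq_self_iff.1 h4
  have h6 := f.a7 h5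
  exact hmL (by simpa using L.inv_mem h6)

theorem k2x {S : Sylow 2 G} {T K L : Subgroup G} (hTS : T ≤ (S : Subgroup G)) (f : AF S T K L)
    (hne : T ≠ (S : Subgroup G)) :
    ∃ x ∈ (S : Subgroup G), x ∈ normalizer (T : Set G) ∧ x * x ∈ T ∧ x ∉ L := by
  have hlt := lt_inf_normalizer S.2 (lt_of_le_of_ne hTS hne)
  obtain ⟨x₀, hx₀, hx₀T⟩ := SetLike.exists_of_lt hlt
  obtain ⟨hx₀S, hx₀N⟩ := mem_inf.1 hx₀
  have hex : ∃ j : ℕ, x₀ ^ (2 ^ j) ∈ T := by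
    obtain ⟨k, hk⟩ := S.2 ⟨x₀, hx₀S⟩
    refine ⟨k, ?_⟩
    have : x₀ ^ (2 ^ k) = 1 := congrArg Subtype.val hk
    rw [this]; exact T.one_mem
  classical
  obtain ⟨j, hj⟩ : ∃ j, j = Nat.find hex := ⟨_, rfl⟩
  have hjT : x₀ ^ (2 ^ j) ∈ T := hj ▸ Nat.find_spec hex
  have hj0 : j ≠ 0 := by
    intro h
    rw [h, pow_zero, pow_one] at hjT
    exact hx₀T hjT
  obtain ⟨i, rfl⟩ : ∃ i, j = i + 1 := ⟨j - 1, by omega⟩
  have hiT : x₀ ^ (2 ^ i) ∉ T := Nat.find_min hex (by omega)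
  refine ⟨x₀ ^ (2 ^ i), pow_mem hx₀S _, pow_mem hx₀N _, ?_, ?_⟩
  · rw [← pow_add]
    have : 2 ^ i + 2 ^ i = 2 ^ (i + 1) := by ring
    rw [this]; exact hjT
  · intro hxL
    have hR : T ⊔ zpowers (x₀ ^ (2 ^ i)) ≤ (S : Subgroup G) :=
      sup_le hTS (zpowers_le.2 (pow_mem hx₀S _))
    have h1 := f.a9 _ (S.2.to_le hR) le_sup_left (sup_le f.syl.1 (zpowers_le.2 hxL))
    apply hiT
    rw [← h1]
    exact mem_sup_right (mem_zpowers _)

theorem hyp {S : Sylow 2 G} {T K L : Subgroup G} (f : AF S T K L) (p : PPr T K L) {x : G}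
    (hxN : x ∈ normalizer (T : Set G)) (hx2 : x * x ∈ T) (hxL : x ∉ L) : SA.Hyp (K ⊔ T) T x where
  syl := p.syl
  hx := hxN
  hx2 := hx2
  h6 := p.h6
  hchar := inf_le_right.trans p.cen
  hZ := by
    intro h
    apply p.hZ
    rw [commutator_eq_bot_iff_le_centralizer]
    exact le_centralizer_iff.1 h
  hcore := by
    intro N hNT hPN hxNN
    by_contra hN1
    have h1 : IsTwoLocal (normalizer (N : Set G)) := ⟨N, f.hT2.to_le hNT, hN1, rfl⟩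
    have h2 : K ⊔ JJ T ≤ normalizer (N : Set G) :=
      (sup_le_sup_left (JJ_le T) K).trans hPN
    exact hxL (f.a1 _ h1 h2 hxNN)

end Cfsg.Agent.Lib.Helper69.JC2
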