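import Cfsg.Agent.Lib.Helper53.JCSt
import Cfsg.Agent.Lib.Helper69.JCW4

set_option autoImplicit false
set_option linter.unusedVariables false

/-! J(T)-component ladder, rung R4, part 1: construction of a `J(T)`-component from an element of
order `3` inverted by an element of a member of `𝒜(T)`. -/

namespace Cfsg.Agent.Lib.Helper69.JC

open Cfsg Subgroup
open scoped commutatorElement
open Cfsg.Agent.Lib.Helper15.ZJ (AE PE)
open Cfsg.Agent.Lib.Helper53.JC

variable {G : Type*} [Group G]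

theorem mem_of_pow_mem_coprime {N : Subgroup G} {g : G} {m n : ℕ} (h : m.Coprime n)
    (hm : g ^ m ∈ N) (hn : g ^ n ∈ N) : g ∈ N := by
  have h1 := Nat.gcd_eq_gcd_ab m n
  rw [h] at h1
  have e : g = (g ^ m) ^ (m.gcdA n) * (g ^ n) ^ (m.gcdB n) := by
    rw [← zpow_natCast, ← zpow_natCast, ← zpow_mul, ← zpow_mul, ← zpow_add, ← h1]
    simp
  rw [e]
  exact mul_mem (zpow_mem hm _) (zpow_mem hn _)

theorem pow_relIndex_mem {C N : Subgroup G} (hCN : C ≤ N) (hn : N ≤ normalizer (C : Set G))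
    {g : G} (hg : g ∈ N) : g ^ (C.relIndex N) ∈ C := by
  have : (C.subgroupOf N).Normal := (normal_subgroupOf_iff_le_normalizer hCN).2 hn
  have h1 := (C.subgroupOf N).pow_index_mem ⟨g, hg⟩
  rw [mem_subgroupOf] at h1
  exact h1

theorem not_mem_of_orderOf_three {Q : Subgroup G} (hQ : IsPGroup 2 Q) {g : G}
    (hg : orderOf g = 3) : g ∉ Q := by
  intro h
  obtain ⟨k, hk⟩ := hQ ⟨g, h⟩
  have h1 : g ^ (2 ^ k) = 1 := by simpa using congrArg Subtype.val hk
  have h2 := orderOf_dvd_of_pow_eq_one h1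
  rw [hg] at h2
  have h3 := Nat.Prime.dvd_of_dvd_pow Nat.prime_three h2
  omega

theorem mem_normalizer_zpowers [Finite G] {a y : G} (h : a * y * a⁻¹ ∈ zpowers y) :
    a ∈ normalizer ((zpowers y : Subgroup G) : Set G) := by
  rw [← Helper53.cj_eq_self_iff]
  apply Helper53.cj_eq_of_le
  rw [MonoidHom.map_zpowers, zpowers_le]
  exact h

/-- members of `𝒜(L)` are best offenders on elementary abelian subgroups of `L`. -/
theorem bestOffender_of_AE [Finite G] {L A U : Subgroup G} (hA : A ∈ AE 2 L) (hU : PE 2 U)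
    (hUL : U ≤ L) : IsBestOffenderOn 2 U A := by
  refine ⟨fun B hB => ?_, ?_, ?_⟩
  · have hBPE : PE 2 B := hA.2.1.mono hB
    have h1 : PE 2 (B ⊔ (U ⊓ centralizer (B : Set G))) := by
      apply Helper15.ZJ.PE_sup hBPE (hU.mono inf_le_left)
      intro b hb u hu
      exact mem_centralizer_iff.1 (mem_inf.1 hu).2 b hb
    have h2 : Nat.card (B ⊔ (U ⊓ centralizer (B : Set G)) : Subgroup G) ≤ Nat.card A :=
      hA.2.2 _ (sup_le (hB.trans hA.1) (inf_le_left.trans hUL)) h1
    have h3 : B ≤ normalizer ((U ⊓ centralizer (B : Set G) : Subgroup G) : Set G) := by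
      intro b hb
      rw [mem_normalizer_iff]
      intro u
      constructor
      · intro hu
        rw [mem_centralizer_iff.1 (mem_inf.1 hu).2 b hb, mul_inv_cancel_right]
        exact hu
      · intro hu
        have h4 := mem_centralizer_iff.1 (mem_inf.1 hu).2 b hb
        have h5 : b * u * b⁻¹ = u := by
          have : b * (b * u * b⁻¹) = b * u := by rw [h4]; group
          exact mul_left_cancel this
        rwa [h5] at hu
    have h4 := Helper12.card_sup_mul_card_inf' B (U ⊓ centralizer (B : Set G)) h3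
    have h5 : B ⊓ (U ⊓ centralizer (B : Set G)) ≤ U ⊓ centralizer (A : Set G) := by
      intro x hx
      obtain ⟨hxB, hxU⟩ := mem_inf.1 hx
      refine mem_inf.2 ⟨(mem_inf.1 hxU).1, ?_⟩
      rw [mem_centralizer_iff]
      intro c hc
      exact hA.2.1.1 c hc x (hB hxB)
    rw [← h4]
    exact Nat.mul_le_mul h2 (card_le_of_le h5)
  · have : ⁅A, A⁆ = ⊥ := by
      rw [commutator_eq_bot_iff_le_centralizer]
      intro x hx
      rw [mem_centralizer_iff]
      intro c hc
      exact hA.2.1.1 c hc x hx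
    rw [this]
    exact bot_le
  · intro a ha
    rw [hA.2.1.2 a ha]
    exact one_mem _

theorem isJComponent_mk [Finite G] {T L A : Subgroup G} {y a : G} (hsyl : Helper53.IsSyl 2 T L)
    (hA : A ∈ AE 2 T) (ha : a ∈ A) (hyL : y ∈ L) (hy3 : orderOf y = 3)
    (hay : a * y * a⁻¹ = y⁻¹)
    (hJ : JJ T ≤ normalizer ((zpowers y ⊔ QQ L : Subgroup G) : Set G))
    (hyV : y ∉ centralizer (VVL L : Set G)) :
    ∃ K, IsJComponent T K ∧ K ≤ L ∧ y ∈ K := by
  obtain ⟨Q, hQ⟩ : ∃ Q, Q = QQ L := ⟨_, rfl⟩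
  obtain ⟨Y, hY⟩ : ∃ Y, Y = zpowers y := ⟨_, rfl⟩
  obtain ⟨J, hJdef⟩ : ∃ J, J = JJ T := ⟨_, rfl⟩
  obtain ⟨K1, hK1⟩ : ∃ K1, K1 = Y ⊔ Q := ⟨_, rfl⟩
  obtain ⟨K, hK⟩ : ∃ K, K = (pResidual 2 K1).map K1.subtype := ⟨_, rfl⟩
  rw [← hQ, ← hY, ← hK1, ← hJdef] at hJ
  have hQL : Q ≤ L := hQ ▸ Helper53.pCoreOf_le 2 L
  have hLQ : L ≤ normalizer (Q : Set G) := hQ ▸ Helper53.le_normalizer_pCoreOf 2 L
  have hQp : IsPGroup 2 Q := hQ ▸ Helper53.pCoreOf_isPGroup 2 L
  have hyY : y ∈ Y := hY ▸ mem_zpowers y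
  have hYL : Y ≤ L := by rw [hY, zpowers_le]; exact hyL
  have hK1L : K1 ≤ L := hK1 ▸ sup_le hYL hQL
  have hYK1 : Y ≤ K1 := hK1 ▸ le_sup_left
  have hQK1 : Q ≤ K1 := hK1 ▸ le_sup_right
  have hKK1 : K ≤ K1 := hK ▸ Helper53.pRes_le 2 K1
  have hKL : K ≤ L := hKK1.trans hK1L
  have hyK : y ∈ K := by
    rw [hK]
    exact Helper53.mem_pRes (hYK1 hyY) (by rw [hy3]; norm_num)
  have hYK : Y ≤ K := by rw [hY, zpowers_le]; exact hyK
  have hNK : normalizer (K1 : Set G) ≤ normalizer (K : Set G) :=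
    hK ▸ Helper53.normalizer_le_normalizer_pRes 2 K1
  have hJK : J ≤ normalizer (K : Set G) := hJ.trans hNK
  have hQK : Q ≤ normalizer (K : Set G) := (hQK1.trans le_normalizer).trans hNK
  have hpp : (pResidual 2 K).map K.subtype = K := by
    have := Helper53.pRes_pRes 2 K1
    rw [← hK] at this
    exact this
  obtain ⟨R0, hR0⟩ : ∃ R0, R0 = K ⊓ Q := ⟨_, rfl⟩
  have hR0K : R0 ≤ K := hR0 ▸ inf_le_left
  have hR0Q : R0 ≤ Q := hR0 ▸ inf_le_right
  have hR0p : IsPGroup 2 R0 := hQp.to_le hR0Q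
  have hKR0 : K ≤ normalizer (R0 : Set G) :=
    hR0 ▸ Helper53.le_normalizer_inf le_normalizer (hKL.trans hLQ)
  have hKsup : K = Y ⊔ R0 := by
    apply le_antisymm _ (sup_le hYK hR0K)
    intro k hk
    have h1 : k ∈ Y ⊔ Q := hK1 ▸ hKK1 hk
    obtain ⟨y', hy', q, hq, rfl⟩ := (Helper53.mem_sup_of_le_normalizer (hYL.trans hLQ)).1 h1
    refine mul_mem (mem_sup_left hy') (mem_sup_right ?_)
    rw [hR0]
    refine mem_inf.2 ⟨?_, hq⟩
    have := K.mul_mem (K.inv_mem (hYK hy')) hk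
    rwa [inv_mul_cancel_left] at this
  have hAJ : A ≤ J := hJdef ▸ le_JJ hA
  have hy3' : y ^ 3 = 1 := by rw [← hy3]; exact pow_orderOf_eq_one y
  have hycomm : y = ⁅y⁻¹, a⁆ := by
    rw [commutatorElement_def, inv_inv]
    calc y = y⁻¹ * y⁻¹ * y ^ 3 := by group
      _ = y⁻¹ * y⁻¹ := by rw [hy3', mul_one]
      _ = y⁻¹ * (a * y * a⁻¹) := by rw [hay]
      _ = y⁻¹ * a * y * a⁻¹ := by group
  have hcardY : Nat.card Y = 3 := by rw [hY, Nat.card_zpowers, hy3]
  -- index of `R0`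
  have hidx : R0.relIndex K = 3 := by
    have h1 := Helper12.card_sup_mul_card_inf' Y R0 (hYK.trans hKR0)
    have h2 : Y ⊓ R0 = ⊥ := by
      apply (disjoint_of_coprime_natCard _).eq_bot
      rw [hcardY]
      obtain ⟨k, hk⟩ := IsPGroup.iff_card.mp hR0p
      rw [hk]
      exact Nat.Coprime.pow_right k (by norm_num)
    rw [h2, card_bot, mul_one, ← hKsup, hcardY] at h1
    have h3 := Helper12.relIndex_mul_card' hR0K
    rw [h1] at h3
    exact Nat.eq_of_mul_eq_mul_right Nat.card_pos h3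
  have hcore : pCoreOf 2 K = R0 := by
    rcases eq_or_eq_of_relIndex_prime Nat.prime_three (Helper53.le_pCoreOf hR0K hKR0 hR0p)
      (Helper53.pCoreOf_le 2 K) hidx with h | h
    · exact h
    · exfalso
      apply not_mem_of_orderOf_three (Helper53.pCoreOf_isPGroup 2 K) hy3
      rw [h]
      exact hyK
  -- the module `U`
  obtain ⟨U, hU⟩ : ∃ U, U = omegaCenterOf (pCoreOf 2 K) := ⟨_, rfl⟩
  have hUPE : PE 2 U := hU ▸ omegaCenterOf_PE _
  have hUR0 : U ≤ R0 := by rw [hU, ← hcore]; exact omegaCenterOf_le _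
  have hUc : U ≤ centralizer (R0 : Set G) := by
    rw [hU, ← hcore]; exact omegaCenterOf_le_centralizer _
  have hNU : normalizer (K : Set G) ≤ normalizer (U : Set G) :=
    hU ▸ (Helper53.normalizer_le_normalizer_pCoreOf 2 K).trans
      (normalizer_le_normalizer_omegaCenterOf _)
  have hKU : K ≤ normalizer (U : Set G) := le_normalizer.trans hNU
  have hYU : Y ≤ normalizer (U : Set G) := hYK.trans hKU
  have hUYU : ⁅U, Y⁆ ≤ U := Helper30.commutator_le_of_le_normalizer hYU
  have hw : wOf K = ⁅U, Y⁆ := by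
    unfold wOf
    rw [← hU]
    apply le_antisymm _ (commutator_mono le_rfl hYK)
    conv_lhs => rw [hKsup]
    apply commutator_sup_le
    · exact Helper53.le_normalizer_commutator hYU le_normalizer
    · exact ((le_centralizer_iff.1 hUc).trans (centralizer_le hUYU)).trans
        (centralizer_le_normalizer _)
    · exact le_rfl
    · rw [commutator_eq_bot_iff_le_centralizer.2 hUc]
      exact bot_le
  have hne : ⁅U, Y⁆ ≠ ⊥ := by
    intro hbot
    apply hyV
    obtain ⟨V, hV⟩ : ∃ V, V = VVL L := ⟨_, rfl⟩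
    rw [← hV]
    have hVQ : V ≤ Q := by rw [hV, hQ]; exact omegaCenterOf_le _
    have hVc : V ≤ centralizer (Q : Set G) := by
      rw [hV, hQ]; exact omegaCenterOf_le_centralizer _
    have hVPE : PE 2 V := hV ▸ omegaCenterOf_PE _
    have hYV : Y ≤ normalizer (V : Set G) := by
      rw [hV]
      exact (hYL.trans (Helper53.le_normalizer_pCoreOf 2 L)).trans
        (normalizer_le_normalizer_omegaCenterOf _)
    have h1 : ⁅V, Y⁆ ≤ V := Helper30.commutator_le_of_le_normalizer hYV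
    have h2 : ⁅V, Y⁆ ≤ K :=
      (commutator_mono le_rfl hYK).trans (commutator_le_right_of_le_normalizer (hVQ.trans hQK))
    have h3 : V ⊓ K ≤ U := by
      intro x hx
      obtain ⟨hxV, hxK⟩ := mem_inf.1 hx
      rw [hU, hcore]
      apply mem_omegaCenterOf
      · rw [hR0]; exact mem_inf.2 ⟨hxK, hVQ hxV⟩
      · exact centralizer_le hR0Q (hVc hxV)
      · exact hVPE.2 x hxV
    have hVp : IsPGroup 2 V := hQp.to_le hVQ
    have hcop : (Nat.card Y).Coprime (Nat.card V) := by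
      rw [hcardY]
      obtain ⟨k, hk⟩ := IsPGroup.iff_card.mp hVp
      rw [hk]
      exact Nat.Coprime.pow_right k (by norm_num)
    have hsolY : Group.IsSolvable Y := by rw [hY]; infer_instance
    have h4 : ⁅⁅V, Y⁆, Y⁆ = ⁅V, Y⁆ := Helper30.commutator_commutator_eq hYV hcop (Or.inl hsolY)
    have h5 : ⁅V, Y⁆ = ⊥ := by
      rw [eq_bot_iff, ← h4, ← hbot]
      exact commutator_mono ((le_inf h1 h2).trans h3) le_rfl
    rw [commutator_eq_bot_iff_le_centralizer] at h5
    exact le_centralizer_iff.1 h5 hyY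
  have hAK : A ≤ normalizer (K : Set G) := hAJ.trans hJK
  have hcard : Nat.card (wOf K) = 4 := by
    rw [hw, hY]
    apply card_commutator_eq_four U A y a (Helper15.ZJ.PE_iff_isElementaryAbelian.1 hUPE) hy3
      (hYU hyY) (Helper15.ZJ.PE_iff_isElementaryAbelian.1 hA.2.1) (hAK.trans hNU)
    · rw [← hY, ← hw]
      exact hAK.trans (normalizer_le_normalizer_wOf K)
    · intro b hb
      have hbK : b * y * b⁻¹ ∈ K := (mem_normalizer_iff.1 (hAK hb) _).1 hyK
      rw [hKsup] at hbK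
      obtain ⟨y', hy', r, hr, hbr⟩ :=
        (Helper53.mem_sup_of_le_normalizer (hYK.trans hKR0)).1 hbK
      have key : ∀ u ∈ U, b * (y * u * y⁻¹) * b⁻¹ = y' * (b * u * b⁻¹) * y'⁻¹ := by
        intro u hu
        have hv : b * u * b⁻¹ ∈ U := (mem_normalizer_iff.1 (hNU (hAK hb)) _).1 hu
        have hrv : r * (b * u * b⁻¹) = (b * u * b⁻¹) * r := mem_centralizer_iff.1 (hUc hv) r hr
        calc b * (y * u * y⁻¹) * b⁻¹ = (b * y * b⁻¹) * (b * u * b⁻¹) * (b * y * b⁻¹)⁻¹ := by group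
          _ = y' * (r * (b * u * b⁻¹)) * r⁻¹ * y'⁻¹ := by rw [hbr]; group
          _ = y' * (b * u * b⁻¹) * y'⁻¹ := by rw [hrv]; group
      rw [hY] at hy'
      rcases mem_zpowers_of_order_three hy3 hy' with rfl | rfl | rfl
      · exfalso
        rw [one_mul] at hbr
        have h1 : orderOf (b * y * b⁻¹) = 3 := by
          have : orderOf ((MulAut.conj b).toMonoidHom y) = orderOf y :=
            orderOf_injective _ (MulAut.conj b).injective y
          rw [← hy3, ← this]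
          rfl
        apply not_mem_of_orderOf_three hR0p h1
        rw [hbr]
        exact hr
      · left; exact key
      · right
        intro u hu
        rw [key u hu, inv_inv]
    · exact ha
    · intro u hu
      calc a * (y * u * y⁻¹) * a⁻¹ = (a * y * a⁻¹) * (a * u * a⁻¹) * (a * y * a⁻¹)⁻¹ := by group
        _ = y⁻¹ * (a * u * a⁻¹) * y := by rw [hay, inv_inv]
    · exact bestOffender_of_AE (AE_syl hsyl hA) hUPE ((hUR0.trans hR0K).trans hKL)
    · rw [← hY]; exact hne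
  refine ⟨K, ⟨?_, ?_, ?_, ?_, hcard, ?_⟩, hKL, hyK⟩
  · have h1 := hpp
    rw [Helper53.pRes_eq_closure] at h1
    conv_rhs => rw [← h1]
    congr 1
    ext g
    simp only [Set.mem_ofPred_eq, Nat.coprime_two_right]
  · rw [show thompsonSubgroupOf 2 T = J from hJdef.symm]
    apply le_antisymm (Helper30.commutator_le_of_le_normalizer hJK)
    have h1 : R0 ≤ normalizer ((⁅K, J⁆ : Subgroup G) : Set G) :=
      hR0K.trans (left_le_normalizer_commutator K J)
    have h2 : K ≤ R0 ⊔ ⁅K, J⁆ := by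
      conv_lhs => rw [hKsup]
      apply sup_le _ le_sup_left
      rw [hY, zpowers_le]
      apply mem_sup_right
      rw [hycomm]
      exact commutator_mem_commutator (K.inv_mem hyK) (hAJ ha)
    have h3 := Helper53.pRes_le_of_le_sup h1 hR0p h2
    rwa [hpp] at h3
  · rw [hcore]; exact hidx
  · intro S hS hJS
    have hS' : Helper53.IsSyl 2 S (K ⊔ thompsonSubgroupOf 2 T) := isSylowTwoIn_iff.1 hS
    have hSL : S ≤ L := hS'.le.trans (sup_le hKL ((JJ_le T).trans hsyl.le))
    obtain ⟨T', hT', hST'⟩ := Helper53.exists_isSyl_ge hSL hS'.isPGroup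
    have h1 : JJ T' = JJ T := JJ_eq_of_isSyl hsyl hT' (hJS.trans hST')
    have h2 : thompsonSubgroupOf 2 S = thompsonSubgroupOf 2 T' :=
      Helper55.thompsonSubgroupOf_eq_of_le (by rw [show thompsonSubgroupOf 2 T' = JJ T from h1]; exact hJS) hST'
    rw [h2]
    exact h1
  · intro w hw'
    have := (wOf_PE K).2 w hw'
    rwa [pow_two] at this

end Cfsg.Agent.Lib.Helper69.JC
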